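import Mathlib
import Cfsg.Prelude.Def_CaseTheorems
import Cfsg.Agent.Lib.SmallElements
import Cfsg.Agent.Lib.PGroup.RankTwoAut

/-!
Solvable groups of odd order acting on `p`-groups of rank at most two have `p`-groups as derived groups.
-/

set_option autoImplicit false
set_option linter.unusedSectionVars false

namespace CfsgLib.RankTwoDerived

open scoped commutatorElement

section Mat

variable {K : Type*} [Field K]

theorem comm_form {X Y : Matrix (Fin 2) (Fin 2) K} (hX : ∀ c : K, X ≠ c • 1) (h : X * Y = Y * X) :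
    ∃ a b : K, Y = a • 1 + b • X := by
  have e00 := congrFun (congrFun h 0) 0
  have e01 := congrFun (congrFun h 0) 1
  have e10 := congrFun (congrFun h 1) 0
  simp only [Matrix.mul_apply, Fin.sum_univ_two] at e00 e01 e10
  by_cases h01 : X 0 1 = 0
  · by_cases h10 : X 1 0 = 0
    · have hd : X 0 0 - X 1 1 ≠ 0 := fun hh => hX (X 0 0) (by
        ext i j
        fin_cases i <;> fin_cases j <;> simp [h01, h10, (sub_eq_zero.1 hh).symm])
      refine ⟨Y 0 0 - (Y 0 0 - Y 1 1) / (X 0 0 - X 1 1) * X 0 0, (Y 0 0 - Y 1 1) / (X 0 0 - X 1 1), ?_⟩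
      rw [h01] at e01; rw [h10] at e10
      have y01 : Y 0 1 = 0 := mul_left_cancel₀ hd (by linear_combination e01)
      have y10 : Y 1 0 = 0 := mul_left_cancel₀ hd (by linear_combination -e10)
      ext i j
      fin_cases i <;> fin_cases j <;> simp [h01, h10, y01, y10]
      field_simp
      ring
    · refine ⟨Y 0 0 - Y 1 0 / X 1 0 * X 0 0, Y 1 0 / X 1 0, ?_⟩
      rw [h01] at e00 e01
      have y01 : Y 0 1 = 0 := mul_left_cancel₀ h10 (by linear_combination -e00)
      ext i j
      fin_cases i <;> fin_cases j <;> simp [h01, y01, div_mul_cancel₀ _ h10]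
      field_simp
      linear_combination -e10
  · refine ⟨Y 0 0 - Y 0 1 / X 0 1 * X 0 0, Y 0 1 / X 0 1, ?_⟩
    ext i j
    fin_cases i <;> fin_cases j <;> simp [div_mul_cancel₀ _ h01]
    · field_simp
      linear_combination e00
    · field_simp
      linear_combination e01

theorem commute_of_comm {X Y Z : Matrix (Fin 2) (Fin 2) K} (hX : ∀ c : K, X ≠ c • 1) (h1 : X * Y = Y * X)
    (h2 : X * Z = Z * X) : Commute Y Z := by
  obtain ⟨a, b, rfl⟩ := comm_form hX h1
  refine (((Commute.one_left Z).smul_left a).add_left ?_)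
  exact (show Commute X Z from h2).smul_left b

theorem cayley (X : Matrix (Fin 2) (Fin 2) K) : X * X = X.trace • X - X.det • (1 : Matrix (Fin 2) (Fin 2) K) := by
  ext i j
  fin_cases i <;> fin_cases j <;>
    simp [Matrix.mul_apply, Fin.sum_univ_two, Matrix.trace_fin_two, Matrix.det_fin_two] <;> ring

theorem det_form (X : Matrix (Fin 2) (Fin 2) K) (a b : K) :
    (a • (1 : Matrix (Fin 2) (Fin 2) K) + b • X).det = a ^ 2 + a * b * X.trace + b ^ 2 * X.det := by
  simp [Matrix.trace_fin_two, Matrix.det_fin_two]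
  ring

theorem trace_form (X : Matrix (Fin 2) (Fin 2) K) (a b : K) :
    (a • (1 : Matrix (Fin 2) (Fin 2) K) + b • X).trace = 2 * a + b * X.trace := by
  simp [Matrix.trace_fin_two]
  ring

theorem unip_pow {n : Matrix (Fin 2) (Fin 2) K} (hn : n * n = 0) (c : K) (m : ℕ) :
    (1 + c • n) ^ m = 1 + ((m : K) * c) • n := by
  induction m with
  | zero => simp
  | succ m ih =>
    rw [pow_succ, ih, mul_add, mul_one, add_mul, one_mul, smul_mul_smul_comm, hn, smul_zero, add_zero,
      Nat.cast_succ, add_one_mul, add_smul, add_assoc]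

theorem not_neg_unip (h2 : (2 : K) ≠ 0) {n : Matrix (Fin 2) (Fin 2) K} (hn : n * n = 0) (c : K) {m : ℕ}
    (hm : Odd m) : (-(1 + c • n)) ^ m ≠ 1 := by
  intro h
  rw [hm.neg_pow, unip_pow hn] at h
  have h3 : ((m : K) * c) • n = (-2 : K) • (1 : Matrix (Fin 2) (Fin 2) K) := by
    linear_combination (norm := module) -h
  have h4 := congrArg (fun M => M * M) h3
  simp only [smul_mul_smul_comm, hn, smul_zero, one_mul] at h4
  have h5 := congrFun (congrFun h4 0) 0
  simp at h5
  exact h2 h5

end Mat

section Main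

variable {p : ℕ} [Fact p.Prime]

theorem exists_abelian_normal {H : Type*} [Group H] [Group.IsSolvable H] (hne : commutator H ≠ ⊥) :
    ∃ N : Subgroup H, N.Normal ∧ N ≤ commutator H ∧ N ≠ ⊥ ∧ ∀ a ∈ N, ∀ b ∈ N, a * b = b * a := by
  classical
  have hex : ∃ n, derivedSeries H n = ⊥ := Group.IsSolvable.solvable
  have h0 : 2 ≤ Nat.find hex := by
    by_contra hlt
    apply hne
    have h1 := Nat.find_spec hex
    rcases (show Nat.find hex = 0 ∨ Nat.find hex = 1 by omega) with h | h <;> rw [h] at h1
    · rw [derivedSeries_zero] at h1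
      exact le_bot_iff.1 (le_top.trans h1.le)
    · rwa [derivedSeries_one] at h1
  refine ⟨derivedSeries H (Nat.find hex - 1), derivedSeries_normal H _, ?_, Nat.find_min hex (by omega), ?_⟩
  · rw [← derivedSeries_one]
    exact derivedSeries_antitone H (by omega)
  · intro a ha b hb
    rw [← commutatorElement_eq_one_iff_mul_comm]
    have h1 : derivedSeries H (Nat.find hex - 1 + 1) = ⊥ := by
      rw [Nat.sub_add_cancel (by omega)]; exact Nat.find_spec hex
    rw [derivedSeries_succ] at h1
    exact Subgroup.mem_bot.1 (h1.le (Subgroup.commutator_mem_commutator ha hb))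

theorem mat_derived (hp : p ≠ 2) {H : Type*} [Group H] [Finite H] [Group.IsSolvable H] (hodd : Odd (Nat.card H))
    (f : H →* Matrix (Fin 2) (Fin 2) (ZMod p)) (hf : Function.Injective f) :
    ∀ g ∈ commutator H, g ^ p = 1 := by
  intro g hg
  by_cases hne : commutator H = ⊥
  · rw [hne, Subgroup.mem_bot] at hg
    rw [hg, one_pow]
  obtain ⟨N, hN, hNle, hN1, hNc⟩ := exists_abelian_normal hne
  have h2 : (2 : ZMod p) ≠ 0 := by
    intro h
    have h' : ((2 : ℕ) : ZMod p) = 0 := by exact_mod_cast h
    exact hp ((Nat.prime_dvd_prime_iff_eq Fact.out Nat.prime_two).1 ((ZMod.natCast_eq_zero_iff 2 p).1 h'))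
  have hdet : ∀ x ∈ commutator H, (f x).det = 1 := by
    intro x hx
    let d : H →* (ZMod p)ˣ := (Matrix.detMonoidHom.comp f).toHomUnits
    have h1 : x ∈ d.ker := Abelianization.commutator_subset_ker d hx
    exact congrArg Units.val h1
  have hord : ∀ x : H, Odd (orderOf x) := fun x => hodd.of_dvd_nat (orderOf_dvd_natCard x)
  have hfpow : ∀ x : H, (f x) ^ orderOf x = 1 := fun x => by rw [← map_pow, pow_orderOf_eq_one, map_one]
  have hsq : ∀ x : H, x * x = 1 → x = 1 := by
    intro x hx
    have h := orderOf_dvd_of_pow_eq_one (show x ^ 2 = 1 by rw [pow_two, hx])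
    rcases (Nat.dvd_prime Nat.prime_two).1 h with h | h
    · exact orderOf_eq_one_iff.1 h
    · have := hord x
      rw [h] at this
      exact absurd this (by decide)
  obtain ⟨x, hxN, hx1⟩ : ∃ x ∈ N, x ≠ 1 := by
    by_contra hall
    push_neg at hall
    exact hN1 ((Subgroup.eq_bot_iff_forall N).2 hall)
  have hX : ∀ c : ZMod p, f x ≠ c • 1 := by
    intro c hc
    have h1 := hdet x (hNle hxN)
    rw [hc, Matrix.det_smul, Fintype.card_fin, Matrix.det_one, mul_one, pow_two] at h1
    apply hx1 (hsq x (hf ?_))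
    rw [map_mul, map_one, hc, smul_mul_smul_comm, one_mul, h1, one_smul]
  have hconj : ∀ h : H, ∃ a b : ZMod p, f (h * x * h⁻¹) = a • 1 + b • f x ∧ 2 * a + b * (f x).trace = (f x).trace ∧
      a ^ 2 + a * b * (f x).trace + b ^ 2 = 1 := by
    intro h
    have hm : h * x * h⁻¹ ∈ N := hN.conj_mem x hxN h
    obtain ⟨a, b, hab⟩ := comm_form hX (Y := f (h * x * h⁻¹)) (by rw [← map_mul, hNc x hxN _ hm, map_mul])
    refine ⟨a, b, hab, ?_, ?_⟩
    · rw [← trace_form, ← hab, map_mul, Matrix.trace_mul_comm, ← map_mul]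
      congr 2
      group
    · have h1 := hdet _ (hNle hm)
      rw [hab, det_form, hdet x (hNle hxN), mul_one] at h1
      exact h1
  have hcay : f x * f x = (f x).trace • f x - (1 : Matrix (Fin 2) (Fin 2) (ZMod p)) := by
    rw [cayley (f x), hdet x (hNle hxN), one_smul]
  set t := (f x).trace with ht
  by_cases hu : t ^ 2 = 4
  · have htt : t = 2 := by
      have h4 : (t - 2) * (t + 2) = 0 := by linear_combination hu
      rcases mul_eq_zero.1 h4 with h | h
      · exact sub_eq_zero.1 h
      · exfalso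
        have hnn : (f x + 1) * (f x + 1) = 0 := by
          rw [add_mul, mul_add, mul_add, one_mul, mul_one, one_mul, hcay, eq_neg_of_add_eq_zero_left h]
          module
        refine not_neg_unip h2 hnn (-1) (hord x) ?_
        rw [show -(1 + (-1 : ZMod p) • (f x + 1)) = f x by module]
        exact hfpow x
    set n := f x - 1 with hn
    have hnn : n * n = 0 := by
      rw [hn, sub_mul, mul_sub, mul_sub, one_mul, mul_one, one_mul, hcay, htt]
      module
    have hfx : f x = 1 + n := by rw [hn]; abel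
    have hcj : ∀ h : H, ∃ k : ℕ, h * x * h⁻¹ = x ^ k := by
      intro h
      obtain ⟨a, b, hab, htr, -⟩ := hconj h
      refine ⟨b.val, hf ?_⟩
      rw [htt] at htr
      have ha : a = 1 - b := mul_left_cancel₀ h2 (by linear_combination htr)
      rw [hab, ha, map_pow, hfx]
      have h1 := unip_pow hnn (1 : ZMod p) b.val
      rw [one_smul, ZMod.natCast_zmod_val, mul_one] at h1
      rw [h1]
      module
    have hle : commutator H ≤ Subgroup.centralizer {x} := by
      rw [commutator_def, Subgroup.commutator_le]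
      intro u _ v _
      have key : ∀ u v : H, u * v * x * (u * v)⁻¹ = v * u * x * (v * u)⁻¹ := by
        intro u v
        obtain ⟨i, hi⟩ := hcj u
        obtain ⟨j, hj⟩ := hcj v
        rw [show u * v * x * (u * v)⁻¹ = u * (v * x * v⁻¹) * u⁻¹ by group, hj, ← conj_pow, hi,
          show v * u * x * (v * u)⁻¹ = v * (u * x * u⁻¹) * v⁻¹ by group, hi, ← conj_pow, hj, ← pow_mul, ← pow_mul,
          mul_comm]
      rw [Subgroup.mem_centralizer_singleton_iff]
      calc ⁅u, v⁆ * x = (v⁻¹ * u⁻¹)⁻¹ * (u⁻¹ * v⁻¹ * x * (u⁻¹ * v⁻¹)⁻¹) * (u⁻¹ * v⁻¹) := by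
            rw [commutatorElement_def]; group
        _ = x * ⁅u, v⁆ := by
            rw [key, commutatorElement_def]; group
    have hgx := Subgroup.mem_centralizer_singleton_iff.1 (hle hg)
    obtain ⟨a, b, hab⟩ := comm_form hX (Y := f g) (by rw [← map_mul, ← map_mul, hgx])
    have hg2 : f g = (a + b) • 1 + b • n := by rw [hab, hfx]; module
    have h1 := hdet g hg
    rw [hab, det_form, hdet x (hNle hxN), ← ht, htt] at h1
    have hab1 : (a + b - 1) * (a + b + 1) = 0 := by linear_combination h1
    rcases mul_eq_zero.1 hab1 with h | h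
    · apply hf
      rw [map_pow, map_one, hg2, sub_eq_zero.1 h, one_smul, unip_pow hnn, ZMod.natCast_self, zero_mul, zero_smul,
        add_zero]
    · exfalso
      refine not_neg_unip h2 hnn (-b) (hord g) ?_
      rw [show -(1 + (-b) • n) = f g by rw [hg2, eq_neg_of_add_eq_zero_left h]; module]
      exact hfpow g
  · exfalso
    apply hne
    have hcent : ∀ h : H, h * x = x * h := by
      intro h
      obtain ⟨a, b, hab, htr, hdt⟩ := hconj h
      have hb : (1 - b ^ 2) * (t ^ 2 - 4) = 0 := by
        linear_combination 4 * hdt - (2 * a + t * (1 - b) + 2 * b * t) * htr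
      have hb2 : (b - 1) * (b + 1) = 0 := by
        have := (mul_eq_zero.1 hb).resolve_right (fun hh => hu (sub_eq_zero.1 hh))
        linear_combination -this
      have key : h * x * h⁻¹ = x := by
        rcases mul_eq_zero.1 hb2 with hb | hb
        · apply hf
          have hb1 : b = 1 := sub_eq_zero.1 hb
          rw [hb1] at htr hab
          have ha : a = 0 := mul_left_cancel₀ h2 (by linear_combination htr)
          rw [hab, ha, zero_smul, zero_add, one_smul]
        · exfalso
          have hb1 : b = -1 := eq_neg_of_add_eq_zero_left hb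
          rw [hb1] at htr hab
          have ha : a = t := mul_left_cancel₀ h2 (by linear_combination htr)
          have hinv : h * x * h⁻¹ = x⁻¹ := by
            refine eq_inv_of_mul_eq_one_left (hf ?_)
            rw [map_mul, map_one, hab, ha, add_mul, smul_mul_assoc, smul_mul_assoc, one_mul, hcay]
            module
          have hh2 : Commute (h ^ 2) x := by
            have e : h ^ 2 * x * (h ^ 2)⁻¹ = x := by
              rw [show h ^ 2 * x * (h ^ 2)⁻¹ = h * (h * x * h⁻¹) * h⁻¹ by rw [pow_two]; group, hinv,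
                show h * x⁻¹ * h⁻¹ = (h * x * h⁻¹)⁻¹ by group, hinv, inv_inv]
            exact mul_inv_eq_iff_eq_mul.1 e
          obtain ⟨k, hk⟩ := hord h
          have hh : (h ^ 2) ^ (k + 1) = h := by
            rw [← pow_mul, show 2 * (k + 1) = (2 * k + 1) + 1 by ring, ← hk, pow_succ, pow_orderOf_eq_one, one_mul]
          have h3 : Commute h x := hh ▸ hh2.pow_left (k + 1)
          rw [h3.eq, mul_inv_cancel_right] at hinv
          exact hx1 (hsq x (by nth_rewrite 1 [hinv]; exact inv_mul_cancel x))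
      exact mul_inv_eq_iff_eq_mul.1 key
    rw [commutator_def, Subgroup.commutator_eq_bot_iff_le_centralizer]
    intro u _ v _
    apply hf
    rw [map_mul, map_mul]
    exact (commute_of_comm hX (by rw [← map_mul, ← map_mul, hcent u]) (by rw [← map_mul, ← map_mul, hcent v])).eq.symm

theorem aut_commute_of_cyclic {V : Type*} [Group V] {v : V} (hv : ∀ w : V, w ∈ Subgroup.zpowers v) (α β : MulAut V) :
    α * β = β * α := by
  obtain ⟨i, hi⟩ := Subgroup.mem_zpowers_iff.1 (hv (α v))
  obtain ⟨j, hj⟩ := Subgroup.mem_zpowers_iff.1 (hv (β v))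
  refine MulEquiv.ext fun w => ?_
  obtain ⟨k, rfl⟩ := Subgroup.mem_zpowers_iff.1 (hv w)
  simp only [MulAut.mul_apply, map_zpow]
  congr 1
  rw [← hj, ← hi, map_zpow, map_zpow, ← hi, ← hj, ← zpow_mul, ← zpow_mul, mul_comm]

theorem abelian_derived (hp : p ≠ 2) {A : Type*} [Group A] [Finite A] [Group.IsSolvable A]
    (hodd : Odd (Nat.card A)) {V : Type*} [CommGroup V] [Finite V] (hV : ∀ v : V, v ^ p = 1)
    (hcard : Nat.card V ≤ p ^ 2) (φ : A →* MulAut V) : ∀ g ∈ commutator A, φ g ^ p = 1 := by
  intro g hg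
  classical
  have hpp := (Fact.out : p.Prime)
  set H := φ.range with hH
  haveI : Group.IsSolvable H := solvable_of_surjective φ.rangeRestrict_surjective
  have hoddH : Odd (Nat.card H) := hodd.of_dvd_nat (Subgroup.card_range_dvd φ)
  have hgH : φ.rangeRestrict g ∈ commutator H := by
    have h1 : (commutator A).map φ.rangeRestrict ≤ commutator H := by
      rw [commutator_def, Subgroup.map_commutator]
      exact Subgroup.commutator_mono le_top le_top
    exact h1 ⟨g, hg, rfl⟩
  haveI : Module (ZMod p) (Additive V) := AddCommGroup.zmodModule (fun x => by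
    have h := hV x.toMul
    exact congrArg Additive.ofMul h)
  let f : MulAut V →* Module.End (ZMod p) (Additive V) :=
    { toFun := fun α => AddMonoidHom.toZModLinearMap p (MulEquiv.toAdditive α).toAddMonoidHom
      map_one' := LinearMap.ext fun x => rfl
      map_mul' := fun a b => LinearMap.ext fun x => rfl }
  have hfi : Function.Injective f := fun a b h => MulEquiv.ext fun x => by
    exact congrArg Additive.toMul (LinearMap.congr_fun h (Additive.ofMul x))
  haveI : Finite (Additive V) := ‹Finite V›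
  have hc : Nat.card V = p ^ Module.finrank (ZMod p) (Additive V) := by
    show Nat.card (Additive V) = _
    rw [Module.natCard_eq_pow_finrank (K := ZMod p) (V := Additive V), Nat.card_zmod]
  suffices h : ∀ x ∈ commutator H, x ^ p = 1 by
    exact congrArg Subtype.val (h _ hgH)
  by_cases hd : Module.finrank (ZMod p) (Additive V) = 2
  · let b := Module.finBasisOfFinrankEq (ZMod p) (Additive V) hd
    exact mat_derived hp hoddH
      ((((LinearMap.toMatrixAlgEquiv b).toAlgHom : _ →* Matrix (Fin 2) (Fin 2) (ZMod p)).comp f).comp H.subtype)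
      ((((LinearMap.toMatrixAlgEquiv b).injective).comp hfi).comp Subtype.val_injective)
  · intro x hx
    have hd1 : Nat.card V ∣ p := by
      rw [hc] at hcard ⊢
      have := (Nat.pow_le_pow_iff_right hpp.one_lt).1 hcard
      exact (pow_dvd_pow p (show Module.finrank (ZMod p) (Additive V) ≤ 1 by omega)).trans (pow_one p).dvd
    have hcyc : IsCyclic V := by
      rcases (Nat.dvd_prime hpp).1 hd1 with h | h
      · haveI := (Nat.card_eq_one_iff_unique.1 h).1
        infer_instance
      · exact isCyclic_of_prime_card h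
    obtain ⟨v, hv⟩ := hcyc.exists_generator
    have hbot : commutator H = ⊥ := by
      rw [commutator_def, Subgroup.commutator_eq_bot_iff_le_centralizer]
      exact fun a _ b _ => Subtype.ext (aut_commute_of_cyclic hv b.1 a.1)
    rw [hbot, Subgroup.mem_bot] at hx
    rw [hx, one_pow]

def restrictAut {R : Type*} [Group R] (C : Subgroup R) [C.Characteristic] : MulAut R →* MulAut C where
  toFun α :=
    { toFun := fun c => ⟨α c, CfsgLib.Small.apply_mem_of_char α c.2⟩
      invFun := fun c => ⟨α.symm c, CfsgLib.Small.apply_mem_of_char α.symm c.2⟩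
      left_inv := fun c => Subtype.ext (α.symm_apply_apply c.1)
      right_inv := fun c => Subtype.ext (α.apply_symm_apply c.1)
      map_mul' := fun a b => Subtype.ext (map_mul α a.1 b.1) }
  map_one' := MulEquiv.ext fun _ => rfl
  map_mul' _ _ := MulEquiv.ext fun _ => rfl

def quotientAut {R : Type*} [Group R] (C : Subgroup R) [C.Normal] [C.Characteristic] : MulAut R →* MulAut (R ⧸ C) where
  toFun α := QuotientGroup.congr C C α (Subgroup.characteristic_iff_map_eq.1 inferInstance α)
  map_one' := by
    refine MulEquiv.ext fun x => ?_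
    induction x using QuotientGroup.induction_on with
    | H z => rfl
  map_mul' _ _ := by
    refine MulEquiv.ext fun x => ?_
    induction x using QuotientGroup.induction_on with
    | H z => rfl

/-- A solvable group of odd order of automorphisms of an odd `p`-group of rank at most two has `p`-group as
derived group. -/
theorem derived_isPGroup (hp : p ≠ 2) {R : Type*} [Group R] [Finite R] (hR : IsPGroup p R)
    (hrk : Cfsg.PRankLE p 2 R) {A : Type*} [Group A] [Finite A] [Group.IsSolvable A] (hodd : Odd (Nat.card A))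
    (φ : A →* MulAut R) (hφ : Function.Injective φ) : IsPGroup p (commutator A) := by
  classical
  have hpp := (Fact.out : p.Prime)
  obtain ⟨C, hch, hcom, hpow, hcen⟩ := CfsgLib.Small.exists_critical hR
  haveI := hch
  have hs : CfsgLib.Small.smallExp p = p := by simp [CfsgLib.Small.smallExp, hp]
  let D : Subgroup R :=
    { carrier := {x | x ∈ C ∧ x ^ p = 1}
      one_mem' := ⟨one_mem _, one_pow _⟩
      mul_mem' := fun {a b} ha hb => ⟨mul_mem ha.1 hb.1, by
        rw [CfsgLib.Small.mul_pow_of_central ha.1 hb.1 (fun u _ v hv w hw => (Subgroup.mem_centralizer_iff.mp (hcom u v hv).2 w hw).symm)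
          (fun u hu w hw => (Subgroup.mem_centralizer_iff.mp (hpow u hu).2 w hw).symm)
          (hpp.dvd_choose_self two_ne_zero (by have := hpp.two_le; omega)), ha.2, hb.2, one_mul]⟩
      inv_mem' := fun {a} ha => ⟨inv_mem ha.1, by rw [inv_pow, ha.2, inv_one]⟩ }
  haveI : D.Characteristic := Subgroup.characteristic_iff_map_le.2 fun e x hx => by
    obtain ⟨d, hd, rfl⟩ := hx
    exact ⟨(Subgroup.characteristic_iff_map_le.1 hch e) ⟨d, hd.1, rfl⟩, by
      show (e d) ^ p = 1
      rw [← map_pow, hd.2, map_one]⟩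
  have hDe : ∀ d : D, d ^ p = 1 := fun d => Subtype.ext d.2.2
  have hD2 : ∀ a b c : D, Commute ⁅a, b⁆ c := fun a b c =>
    Subtype.ext (Subgroup.mem_centralizer_iff.mp (hcom a.1 b.1 b.2.1).2 c.1 c.2.1).symm
  set Z := Subgroup.center D with hZ
  letI iZ : CommGroup Z := { mul_comm := fun a b => Subtype.ext (Subgroup.mem_center_iff.1 b.2 a.1) }
  have hDcard : Nat.card D ≤ p ^ 3 := CfsgLib.PGroupRankTwo.card_exp_class_two_le hR hrk (fun d hd => hd.2)
    (fun a ha b hb c hc => congrArg Subtype.val (hD2 ⟨a, ha⟩ ⟨b, hb⟩ ⟨c, hc⟩))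
  have hZcard : Nat.card Z ≤ p ^ 2 := by
    rw [Nat.card_congr ((Z.equivMapOfInjective D.subtype D.subtype_injective).toEquiv)]
    refine hrk _ ⟨⟨?_⟩⟩ ?_
    · rintro ⟨_, a, ha, rfl⟩ ⟨_, b, hb, rfl⟩
      exact Subtype.ext (congrArg Subtype.val (Subgroup.mem_center_iff.1 hb a) :)
    · rintro _ ⟨a, ha, rfl⟩
      exact congrArg Subtype.val (hDe a)
  have hQc : ∀ a b : D ⧸ Z, a * b = b * a := by
    intro a b
    induction a using QuotientGroup.induction_on with
    | H x =>
      induction b using QuotientGroup.induction_on with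
      | H y =>
        rw [← QuotientGroup.mk_mul, ← QuotientGroup.mk_mul, QuotientGroup.eq]
        have e : (x * y)⁻¹ * (y * x) = ⁅y⁻¹, x⁻¹⁆ := by rw [commutatorElement_def]; group
        rw [e, hZ, Subgroup.mem_center_iff]
        exact fun c => ((hD2 y⁻¹ x⁻¹ c).eq).symm
  letI iQ : CommGroup (D ⧸ Z) := { mul_comm := hQc }
  have hQe : ∀ v : D ⧸ Z, v ^ p = 1 := fun v => by
    induction v using QuotientGroup.induction_on with
    | H x => rw [← QuotientGroup.mk_pow, hDe x, QuotientGroup.mk_one]
  have hQcard : Nat.card (D ⧸ Z) ≤ p ^ 2 := by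
    rcases subsingleton_or_nontrivial D with h | h
    · rw [Nat.card_of_subsingleton (1 : D ⧸ Z)]
      exact Nat.one_le_pow _ _ hpp.pos
    · haveI := IsPGroup.center_nontrivial (hR.to_subgroup D)
      have h1 : p ≤ Nat.card Z := by
        obtain ⟨k, hk⟩ := IsPGroup.iff_card.1 ((hR.to_subgroup D).to_subgroup Z)
        rw [hk]
        rcases k with _ | k
        · rw [pow_zero] at hk
          exact absurd hk (Finite.one_lt_card).ne'
        · exact Nat.le_self_pow (by omega) p
      have h2 := Subgroup.card_eq_card_quotient_mul_card_subgroup Z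
      have h3 : Nat.card (D ⧸ Z) * p ≤ p ^ 2 * p := by
        calc Nat.card (D ⧸ Z) * p ≤ Nat.card (D ⧸ Z) * Nat.card Z := Nat.mul_le_mul_left _ h1
          _ = Nat.card D := h2.symm
          _ ≤ p ^ 3 := hDcard
          _ = p ^ 2 * p := by ring
      exact Nat.le_of_mul_le_mul_right h3 hpp.pos
  let ψ : A →* MulAut D := (restrictAut D).comp φ
  intro g
  have h1 := abelian_derived hp hodd (fun v : Z => Subtype.ext (hDe v.1)) hZcard ((restrictAut Z).comp ψ) g.1 g.2
  have h2 := abelian_derived hp hodd hQe hQcard ((quotientAut Z).comp ψ) g.1 g.2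
  rw [← map_pow] at h1 h2
  obtain ⟨a, ha⟩ : ∃ a, a = (g.1) ^ p := ⟨_, rfl⟩
  rw [← ha] at h1 h2
  have hstep : ∀ d : D, ∀ n : ℕ, ((ψ a) ^ n) d = d * (d⁻¹ * ψ a d) ^ n ∧ (d⁻¹ * ψ a d) ^ p = 1 := by
    intro d n
    have hm : d⁻¹ * ψ a d ∈ Z := by
      rw [← QuotientGroup.eq]
      have h := DFunLike.congr_fun h2 (QuotientGroup.mk d)
      exact h.symm
    have hfx : ψ a (d⁻¹ * ψ a d) = d⁻¹ * ψ a d := by
      exact congrArg Subtype.val (DFunLike.congr_fun h1 (⟨_, hm⟩ : ↥Z))
    refine ⟨?_, hDe _⟩
    induction n with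
    | zero => simp
    | succ n ih =>
      rw [pow_succ', MulAut.mul_apply, ih, map_mul, map_pow, hfx, pow_succ' _ n, ← mul_assoc d,
        mul_inv_cancel_left]
  have hfixD : ψ (a ^ p) = 1 := MulEquiv.ext fun d => by
    rw [map_pow, (hstep d p).1, (hstep d p).2, mul_one]
    rfl
  obtain ⟨c, hc⟩ : ∃ c, c = a ^ p := ⟨_, rfl⟩
  rw [← hc] at hfixD
  obtain ⟨k, m, hm, hkm⟩ := Nat.exists_eq_pow_mul_and_not_dvd (orderOf_pos (φ c)).ne' p hpp.ne_one
  have hb : φ c ^ (p ^ k) = 1 := by
    refine CfsgLib.Small.eq_one_of_fixes_critical hR hcom hpow hcen ?_ ?_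
    · have h3 : (φ c ^ p ^ k) ^ m = 1 := by rw [← pow_mul, ← hkm, pow_orderOf_eq_one]
      exact Nat.Coprime.coprime_dvd_left (orderOf_dvd_of_pow_eq_one h3) ((hpp.coprime_iff_not_dvd).2 hm).symm
    · intro x hx hxp
      rw [hs] at hxp
      have h3 : ψ (c ^ p ^ k) ⟨x, hx, hxp⟩ = ⟨x, hx, hxp⟩ := by
        rw [map_pow, hfixD, one_pow]
        rfl
      have h4 := congrArg Subtype.val h3
      rw [← map_pow]
      exact h4
  refine ⟨1 + 1 + k, Subtype.ext (hφ ?_)⟩
  show φ (g.1 ^ p ^ (1 + 1 + k)) = φ 1
  rw [map_one, pow_add, pow_add, pow_one, pow_mul, pow_mul, ← ha, ← hc, map_pow, hb]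

end Main

end CfsgLib.RankTwoDerived
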