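/-
`M_F`: the largest normal nilpotent Hall subgroup.
-/
import Mathlib
import Cfsg.Agent.Lib.Basic
import Cfsg.Agent.Lib.NilpotentCommute
import Cfsg.Prelude.Def_OddOrderLocal

set_option autoImplicit false

namespace CfsgLib.FittingHall

open Cfsg

universe u
variable {M : Type u} [Group M] [Finite M]

theorem fittingHall_coprime : (Nat.card (fittingHall M)).Coprime (fittingHall M).index := by
  refine Nat.coprime_of_dvd fun q hq h1 h2 => ?_
  haveI := Fact.mk hq
  by_cases hall : ∀ N : Subgroup M, N.Normal ∧ Group.IsNilpotent N ∧ (Nat.card N).Coprime N.index → ¬ q ∣ Nat.card N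
  · have hle : fittingHall M ≤ pPrimeCore q M := sSup_le fun N hN => by
      haveI := hN.1
      exact le_pPrimeCore ((Nat.Prime.coprime_iff_not_dvd hq).mpr (hall N hN)).symm
    exact ((Nat.Prime.coprime_iff_not_dvd hq).mp (card_pPrimeCore_coprime (G := M) q).symm) (h1.trans (Subgroup.card_dvd_of_le hle))
  · push Not at hall
    obtain ⟨N, hN, hd⟩ := hall
    have : q ∣ N.index := h2.trans (Subgroup.index_dvd_of_le (le_sSup hN))
    exact hq.ne_one (Nat.eq_one_of_dvd_coprimes hN.2.2 hd this)

theorem fittingHall_le_fitting : fittingHall M ≤ fittingSubgroup M :=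
  sSup_le fun N hN => by haveI := hN.1; exact le_fittingSubgroup hN.2.1

theorem fittingSubgroup_isNilpotent : Group.IsNilpotent (fittingSubgroup M) := by
  rw [fittingSubgroup_eq_iSup_pCore]
  exact isNilpotent_iSup_pCore

theorem fittingHall_isNilpotent : Group.IsNilpotent (fittingHall M) := by
  haveI := fittingSubgroup_isNilpotent (M := M)
  exact Group.nilpotent_of_mulEquiv (Subgroup.subgroupOfEquivOfLe (fittingHall_le_fitting (M := M)))

/-- Elements of `F(M)` of order prime to `|M_F|` centralise `M_F`. -/
theorem centralizes_of_coprime {u : M} (hu : u ∈ fittingSubgroup M) (hc : (orderOf u).Coprime (Nat.card (fittingHall M))) :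
    ∀ h ∈ fittingHall M, u * h = h * u := by
  intro h hh
  haveI := fittingSubgroup_isNilpotent (M := M)
  exact congrArg Subtype.val (CfsgLib.commute_of_nilpotent (⟨u, hu⟩ : fittingSubgroup M) ⟨h, fittingHall_le_fitting hh⟩ (by
    rw [Subgroup.orderOf_mk, Subgroup.orderOf_mk]
    exact hc.coprime_dvd_right (Subgroup.orderOf_dvd_natCard _ hh)))

end CfsgLib.FittingHall
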