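import Mathlib
import Cfsg.Prelude.Def_Solvable
import Cfsg.Prelude.Def_Local
import Cfsg.Prelude.Def_Transfer
import Cfsg.Prelude.Def_CaseTheorems
import Cfsg.Agent.Lib.Basic
import Cfsg.Agent.Lib.PSolvable
import Cfsg.Agent.Lib.OddLocal.RankTwoDerived

/-!
The `p`-structure of a solvable group of odd order whose automorphism group on `O_p(G/O_{p'}(G))` is small.
-/

set_option autoImplicit false
set_option linter.unusedSectionVars false

namespace CfsgLib.PStructure

open Cfsg
open scoped commutatorElement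

variable {G : Type*} [Group G] [Finite G] {p : ℕ} [hp : Fact p.Prime]

theorem hasNormalPComplement (N : Subgroup G) [N.Normal] (hN : (Nat.card N).Coprime p) (hQ : IsPGroup p (G ⧸ N)) :
    HasNormalPComplement p G := by
  obtain ⟨k, hk⟩ := IsPGroup.iff_card.1 hQ
  let P : Sylow p G := default
  refine ⟨P, N, inferInstance, Subgroup.isComplement'_of_coprime ?_ ?_⟩
  · have h1 : Nat.card G = p ^ k * Nat.card N := by rw [Subgroup.card_eq_card_quotient_mul_card_subgroup N, hk]
    obtain ⟨j, hj⟩ := IsPGroup.iff_card.1 P.2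
    have h2 : p ^ j ∣ p ^ k := (Nat.Coprime.pow_left j hN.symm).dvd_of_dvd_mul_right (by
      rw [← h1, ← hj]; exact Subgroup.card_subgroup_dvd_card _)
    have h3 : p ^ k ∣ p ^ j := by
      refine (Nat.Coprime.pow_left k ((Fact.out : p.Prime).coprime_iff_not_dvd.2 P.not_dvd_index)).dvd_of_dvd_mul_right ?_
      rw [← hj, Subgroup.card_mul_index, h1]
      exact dvd_mul_right _ _
    rw [h1, hj, Nat.dvd_antisymm h2 h3, mul_comm]
  · obtain ⟨j, hj⟩ := IsPGroup.iff_card.1 P.2
    rw [hj]
    exact hN.pow_right j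

theorem index_pCore (hder : IsPGroup p (commutator G)) : ((pCore p G).index).Coprime p := by
  let S : Sylow p G := default
  have hle : commutator G ≤ (S : Subgroup G) := (CfsgLib.le_pCore hder).trans (CfsgLib.pCore_le_sylow S)
  haveI : (S : Subgroup G).Normal := ⟨fun s hs g => by
    have h : g * s * g⁻¹ = ⁅g, s⁆ * s := by rw [commutatorElement_def]; group
    rw [h]
    exact mul_mem (hle (Subgroup.commutator_mem_commutator (Subgroup.mem_top g) (Subgroup.mem_top s))) hs⟩
  have h1 : pCore p G = S := le_antisymm (CfsgLib.pCore_le_sylow S) (CfsgLib.le_pCore S.2)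
  rw [h1]
  exact ((Fact.out : p.Prime).coprime_iff_not_dvd.2 S.not_dvd_index).symm

theorem structure_of_derived (hodd : Odd (Nat.card G))
    (hder : IsPGroup p (commutator (G ⧸ pPrimeCore p G)))
    (hsmall : ∀ q : ℕ, q.Prime → q ≠ p → q ∣ Nat.card (G ⧸ pPrimeCore p G) → q < p) :
    (∀ q : ℕ, q.Prime → q ∣ (pPrimeCore p G).index → q ≤ p) ∧
      ((p = 3 ∨ ∀ q : ℕ, q.Prime → q ∣ Nat.card G → p ≤ q) → HasNormalPComplement p G) ∧
      HasNormalPComplement p ↥(commutator G) ∧
      (∀ L : Subgroup ↥(commutator G), (Nat.card L).Coprime p → L ≤ pPrimeCore p ↥(commutator G)) ∧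
      commutator G ≤ pPrimePCore p G ∧ ((pPrimePCore p G).index).Coprime p := by
  set O := pPrimeCore p G with hO
  have hOc : (Nat.card O).Coprime p := CfsgLib.card_pPrimeCore_coprime p
  set π := QuotientGroup.mk' O with hπ
  have hmap : (commutator G).map π ≤ commutator (G ⧸ O) := by
    rw [commutator_def, Subgroup.map_commutator]
    exact Subgroup.commutator_mono le_top le_top
  have hle : commutator G ≤ pPrimePCore p G := fun x hx => CfsgLib.le_pCore hder (hmap ⟨x, hx, rfl⟩)
  set K := O.subgroupOf (commutator G) with hK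
  haveI : K.Normal := inferInstance
  have hKc : (Nat.card K).Coprime p := by
    refine Nat.Coprime.coprime_dvd_left ?_ hOc
    rw [Nat.card_congr (K.equivMapOfInjective (commutator G).subtype Subtype.val_injective).toEquiv]
    exact Subgroup.card_dvd_of_le (by rintro _ ⟨x, hx, rfl⟩; exact hx)
  let f : ↥(commutator G) →* ↥(commutator (G ⧸ O)) :=
    (π.comp (commutator G).subtype).codRestrict _ (fun x => hmap ⟨x, x.2, rfl⟩)
  have hker : f.ker = K := by
    ext x
    rw [MonoidHom.mem_ker, hK, Subgroup.mem_subgroupOf, ← QuotientGroup.eq_one_iff]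
    exact Subtype.ext_iff
  refine ⟨?_, ?_, ?_, ?_, hle, ?_⟩
  · intro q hq hdvd
    by_cases h : q = p
    · exact h.le
    · exact (hsmall q hq h hdvd).le
  · intro h
    refine hasNormalPComplement O hOc (IsPGroup.of_card (Nat.eq_prime_pow_of_unique_prime_dvd Nat.card_pos.ne' ?_))
    intro q hq hdvd
    by_contra hne
    have hlt := hsmall q hq hne hdvd
    have hdG : q ∣ Nat.card G := hdvd.trans (Subgroup.card_quotient_dvd_card O)
    rcases h with h3 | hall
    · have h2 := hq.two_le
      have hq2 : q = 2 := by omega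
      rw [hq2] at hdG
      exact (Nat.not_even_iff_odd.2 hodd) (even_iff_two_dvd.2 hdG)
    · exact absurd (hall q hq hdG) (by omega)
  · exact hasNormalPComplement K hKc ((hder.to_subgroup f.range).of_equiv
      ((QuotientGroup.quotientKerEquivRange f).symm.trans (QuotientGroup.quotientMulEquivOfEq hker)))
  · intro L hL
    refine le_trans (fun x hx => ?_) (CfsgLib.le_pPrimeCore (N := K) hKc)
    rw [← hker, MonoidHom.mem_ker, ← orderOf_eq_one_iff]
    obtain ⟨k, hk⟩ := hder (f x)
    refine Nat.eq_one_of_dvd_coprimes (Nat.Coprime.pow_right k hL)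
      ((orderOf_map_dvd f x).trans ?_) (orderOf_dvd_of_pow_eq_one hk)
    exact Subgroup.orderOf_coe (H := L) ⟨x, hx⟩ ▸ orderOf_dvd_natCard (⟨x, hx⟩ : L)
  · rw [pPrimePCore, Subgroup.index_comap_of_surjective _ (QuotientGroup.mk'_surjective _)]
    exact index_pCore hder

/-- The hypotheses of `structure_of_derived` from a faithful action on `O_p`. -/
theorem derived_of_rank_two [Group.IsSolvable G] (hodd : Odd (Nat.card G)) (hp2 : p ≠ 2)
    (hO : pPrimeCore p G = ⊥) (hr : PRankLE p 2 ↥(pCore p G)) :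
    IsPGroup p (commutator G) ∧ ∀ q : ℕ, q.Prime → q ≠ p → q ∣ Nat.card G → q < p := by
  set P := pCore p G with hP
  have hPp : IsPGroup p P := CfsgLib.isPGroup_pCore p
  haveI : P.Normal := hP ▸ (inferInstance : (pCore p G).Normal)
  let φ : G →* MulAut P := MulAut.conjNormal
  have hker : IsPGroup p φ.ker := by
    refine hPp.to_le (fun g hg => CfsgLib.centralizer_pCore_le Fact.out hO ?_)
    rw [Subgroup.mem_centralizer_iff]
    intro x hx
    have h := congrArg (fun α => ((α ⟨x, hx⟩ : P) : G)) (MonoidHom.mem_ker.1 hg)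
    simp only [φ, MulAut.conjNormal_apply, MulAut.one_apply] at h
    exact (mul_inv_eq_iff_eq_mul.1 h).symm
  haveI : Finite (MulAut P) := Finite.of_injective (fun f => (f : P → P)) DFunLike.coe_injective
  haveI : Group.IsSolvable φ.range := solvable_of_surjective φ.rangeRestrict_surjective
  have hoddA : Odd (Nat.card φ.range) := hodd.of_dvd_nat (Subgroup.card_range_dvd φ)
  have hA := CfsgLib.RankTwoDerived.derived_isPGroup hp2 hPp hr hoddA φ.range.subtype Subtype.val_injective
  constructor
  · intro g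
    have hg : φ.rangeRestrict g.1 ∈ commutator φ.range := by
      have h1 : (commutator G).map φ.rangeRestrict ≤ commutator φ.range := by
        rw [commutator_def, Subgroup.map_commutator]
        exact Subgroup.commutator_mono le_top le_top
      exact h1 ⟨g.1, g.2, rfl⟩
    obtain ⟨k, hk⟩ := hA ⟨_, hg⟩
    have hmem : g.1 ^ p ^ k ∈ φ.ker := by
      rw [MonoidHom.mem_ker, map_pow]
      exact congrArg (fun y : ↥(commutator φ.range) => ((y : φ.range) : MulAut P)) hk
    obtain ⟨j, hj⟩ := hker ⟨_, hmem⟩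
    refine ⟨k + j, Subtype.ext ?_⟩
    rw [SubmonoidClass.coe_pow, pow_add, pow_mul]
    exact congrArg Subtype.val hj
  · intro q hq hqp hdvd
    refine (CfsgLib.PGroupRankTwo.aut_prime_dvd hp2 hPp hr q hq hqp ?_).2
    obtain ⟨j, hj⟩ := IsPGroup.iff_card.1 hker
    have h1 : Nat.card G = Nat.card φ.range * p ^ j := by
      rw [← hj, ← Nat.card_congr (QuotientGroup.quotientKerEquivRange φ).toEquiv,
        ← Subgroup.card_eq_card_quotient_mul_card_subgroup]
    rw [h1] at hdvd
    rcases hq.dvd_mul.1 hdvd with h | h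
    · exact h.trans (Subgroup.card_subgroup_dvd_card _)
    · exact absurd ((Nat.prime_dvd_prime_iff_eq hq Fact.out).1 (hq.dvd_of_dvd_pow h)) hqp

end CfsgLib.PStructure

namespace CfsgLib.PStructure

open Cfsg

variable {G : Type*} [Group G] [Finite G] {p : ℕ} [hp : Fact p.Prime]

theorem pRank_pCore_quotient (S : Sylow p G) (N : Subgroup G) [N.Normal] (hN : (Nat.card N).Coprime p)
    {k : ℕ} (hr : PRankLE p k ↥(S : Subgroup G)) : PRankLE p k ↥(pCore p (G ⧸ N)) := by
  intro E hEc hEe
  set π := QuotientGroup.mk' N with hπ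
  have hS : IsPGroup p ((S : Subgroup G).map π) := S.2.map π
  have hind : ¬ p ∣ ((S : Subgroup G).map π).index := fun h =>
    S.not_dvd_index (h.trans (Subgroup.index_map_dvd _ (QuotientGroup.mk'_surjective N)))
  have hle : pCore p (G ⧸ N) ≤ (S : Subgroup G).map π := CfsgLib.pCore_le_sylow (hS.toSylow hind)
  let f : ↥(S : Subgroup G) →* G ⧸ N := π.comp (S : Subgroup G).subtype
  have hf : Function.Injective f := by
    rw [injective_iff_map_eq_one]
    intro x hx
    have hxN : (x : G) ∈ N := (QuotientGroup.eq_one_iff (x : G)).1 hx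
    obtain ⟨j, hj⟩ := S.2 x
    rw [← orderOf_eq_one_iff]
    refine Nat.eq_one_of_dvd_coprimes (Nat.Coprime.pow_right j hN) ?_ (orderOf_dvd_of_pow_eq_one hj)
    have h := orderOf_dvd_natCard (⟨(x : G), hxN⟩ : N)
    rw [← Subgroup.orderOf_coe] at h
    rwa [← Subgroup.orderOf_coe]
  set T := (E.map (pCore p (G ⧸ N)).subtype).comap f with hT
  have hmem : ∀ t ∈ T, ∃ e ∈ E, (e : G ⧸ N) = f t := fun t ht => by
    obtain ⟨e, he, h⟩ := Subgroup.mem_comap.1 ht
    exact ⟨e, he, h⟩
  have hTc : IsMulCommutative T := ⟨⟨fun a b => Subtype.ext (hf (by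
    obtain ⟨e, he, h1⟩ := hmem a a.2
    obtain ⟨e', he', h2⟩ := hmem b b.2
    rw [Subgroup.coe_mul, Subgroup.coe_mul, map_mul, map_mul, ← h1, ← h2]
    exact congrArg Subtype.val (congrArg Subtype.val (hEc.is_comm.comm ⟨e, he⟩ ⟨e', he'⟩))))⟩⟩
  have hTe : ∀ t ∈ T, t ^ p = 1 := fun t ht => hf (by
    obtain ⟨e, he, h1⟩ := hmem t ht
    rw [map_pow, map_one, ← h1]
    exact congrArg Subtype.val (hEe e he))
  refine le_trans ?_ (hr T hTc hTe)
  have h1 : T.map f = E.map (pCore p (G ⧸ N)).subtype := by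
    apply Subgroup.map_comap_eq_self
    intro y hy
    obtain ⟨e, -, rfl⟩ := hy
    obtain ⟨s, hs, h⟩ := hle e.2
    exact ⟨⟨s, hs⟩, h⟩
  rw [Nat.card_congr (E.equivMapOfInjective _ (pCore p (G ⧸ N)).subtype_injective).toEquiv, ← h1,
    ← Nat.card_congr (T.equivMapOfInjective f hf).toEquiv]

end CfsgLib.PStructure
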