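import Mathlib
import Cfsg.Prelude.Def_CaseTheorems
import Cfsg.Prelude.Def_OddOrderLocal
import Cfsg.Agent.Lib.SmallElements
import Cfsg.Agent.Lib.PGroup.RankTwoAut
import Cfsg.Agent.Lib.OddLocal.RankTwoDerived

/-!
Automorphisms of a `p`-group with an element of order `p` whose centraliser has rank at most two.
-/

set_option autoImplicit false
set_option linter.unusedSectionVars false

namespace CfsgLib.NarrowDerived

open scoped commutatorElement

variable {R : Type*} [Group R] [Finite R] {p : ℕ} [Fact p.Prime]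

/-- The elements of exponent `p` of a critical subgroup. -/
theorem exists_omega_critical (hp : p ≠ 2) (hR : IsPGroup p R) :
    ∃ D : Subgroup R, D.Characteristic ∧ (∀ d ∈ D, d ^ p = 1) ∧
      (∀ a ∈ D, ∀ b ∈ D, ∀ c ∈ D, Commute ⁅a, b⁆ c) ∧
      ∀ α : MulAut R, (orderOf α).Coprime p → (∀ d ∈ D, α d = d) → α = 1 := by
  have hpp := (Fact.out : p.Prime)
  obtain ⟨C, hch, hcom, hpow, hcen⟩ := CfsgLib.Small.exists_critical hR
  haveI := hch
  have hs : CfsgLib.Small.smallExp p = p := by simp [CfsgLib.Small.smallExp, hp]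
  let D : Subgroup R :=
    { carrier := {x | x ∈ C ∧ x ^ p = 1}
      one_mem' := ⟨one_mem _, one_pow _⟩
      mul_mem' := fun {a b} ha hb => ⟨mul_mem ha.1 hb.1, by
        rw [CfsgLib.Small.mul_pow_of_central ha.1 hb.1 (fun u _ v hv w hw => (Subgroup.mem_centralizer_iff.mp (hcom u v hv).2 w hw).symm)
          (fun u hu w hw => (Subgroup.mem_centralizer_iff.mp (hpow u hu).2 w hw).symm)
          (hpp.dvd_choose_self two_ne_zero (by have := hpp.two_le; omega)), ha.2, hb.2, one_mul]⟩
      inv_mem' := fun {a} ha => ⟨inv_mem ha.1, by rw [inv_pow, ha.2, inv_one]⟩ }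
  refine ⟨D, Subgroup.characteristic_iff_map_le.2 fun e x hx => ?_, fun d hd => hd.2,
    fun a _ b hb c hc => (Subgroup.mem_centralizer_iff.mp (hcom a b hb.1).2 c hc.1).symm, fun α hα h => ?_⟩
  · obtain ⟨d, hd, rfl⟩ := hx
    exact ⟨(Subgroup.characteristic_iff_map_le.1 hch e) ⟨d, hd.1, rfl⟩, by
      show (e d) ^ p = 1
      rw [← map_pow, hd.2, map_one]⟩
  · exact CfsgLib.Small.eq_one_of_fixes_critical hR hcom hpow hcen hα (fun c hc h' => h c ⟨hc, hs ▸ h'⟩)

theorem commutator_top_lt (hR : IsPGroup p R) (N : Subgroup R) [N.Normal] (hN : N ≠ ⊥) :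
    ⁅N, (⊤ : Subgroup R)⁆ < N := by
  refine lt_of_le_of_ne (Subgroup.commutator_le_left N ⊤) fun h => hN ?_
  haveI := hR.isNilpotent
  have key : ∀ n, N ≤ Subgroup.lowerCentralSeries (⊤ : Subgroup R) n := by
    intro n
    induction n with
    | zero => simp
    | succ n ih =>
      calc N = ⁅N, (⊤ : Subgroup R)⁆ := h.symm
        _ ≤ _ := Subgroup.commutator_mono ih le_rfl
  obtain ⟨n, hn⟩ := Subgroup.nilpotent_iff_lowerCentralSeries.1 hR.isNilpotent
  exact le_bot_iff.1 ((key n).trans hn.le)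

theorem card_le_commutator_mul (N : Subgroup R) (y : R) :
    Nat.card N ≤ Nat.card ↥⁅N, (⊤ : Subgroup R)⁆ * Nat.card ↥(N ⊓ Subgroup.centralizer {y}) := by
  set C := (Subgroup.centralizer {y}).subgroupOf N with hC
  have hcC : Nat.card C = Nat.card ↥(N ⊓ Subgroup.centralizer {y}) := by
    rw [Nat.card_congr (C.equivMapOfInjective N.subtype Subtype.val_injective).toEquiv]
    rw [hC, Subgroup.subgroupOf_map_subtype, inf_comm]
  rw [← hcC, Subgroup.card_eq_card_quotient_mul_card_subgroup C]
  refine Nat.mul_le_mul_right _ (Nat.card_le_card_of_injective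
    (fun q => (⟨⁅(q.out : R), y⁆, Subgroup.commutator_mem_commutator q.out.2 (Subgroup.mem_top y)⟩ :
      ↥⁅N, (⊤ : Subgroup R)⁆)) ?_)
  intro a b hab
  have h : ⁅(a.out : R), y⁆ = ⁅(b.out : R), y⁆ := congrArg Subtype.val hab
  rw [← QuotientGroup.out_eq' a, ← QuotientGroup.out_eq' b, QuotientGroup.eq]
  show (((a.out)⁻¹ * b.out : N) : R) ∈ Subgroup.centralizer {y}
  rw [Subgroup.mem_centralizer_singleton_iff]
  rw [commutatorElement_def, commutatorElement_def] at h
  have h2 : (a.out : R) * y * (a.out : R)⁻¹ = (b.out : R) * y * (b.out : R)⁻¹ := mul_right_cancel h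
  push_cast
  calc (a.out : R)⁻¹ * b.out * y = (a.out : R)⁻¹ * ((b.out : R) * y * (b.out : R)⁻¹) * b.out := by group
    _ = y * ((a.out : R)⁻¹ * b.out) := by rw [← h2]; group

theorem exists_small_centralizer (hR : IsPGroup p R) {D : Subgroup R}
    (hDe : ∀ d ∈ D, d ^ p = 1) (hD2 : ∀ a ∈ D, ∀ b ∈ D, ∀ c ∈ D, Commute ⁅a, b⁆ c) {x : R} (hx : x ^ p = 1)
    (hr : Cfsg.PRankLE p 2 ↥(Subgroup.centralizer ({x} : Set R))) :
    ∃ y : R, Nat.card ↥(D ⊓ Subgroup.centralizer {y}) ≤ p ^ 2 := by
  have hpp := (Fact.out : p.Prime)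
  set C := D ⊓ Subgroup.centralizer {x} with hC
  have habel : ∀ S : Subgroup R, S ≤ Subgroup.centralizer {x} → (∀ a ∈ S, ∀ b ∈ S, a * b = b * a) →
      (∀ a ∈ S, a ^ p = 1) → Nat.card S ≤ p ^ 2 := by
    intro S hS hc he
    rw [← Nat.card_congr (Subgroup.subgroupOfEquivOfLe hS).toEquiv]
    exact hr _ ⟨⟨fun a b => Subtype.ext (Subtype.ext (hc _ a.2 _ b.2))⟩⟩
      (fun a ha => Subtype.ext (he _ ha))
  by_cases hCc : ∀ a ∈ C, ∀ b ∈ C, a * b = b * a
  · exact ⟨x, habel C inf_le_right hCc (fun a ha => hDe a (Subgroup.mem_inf.1 ha).1)⟩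
  push_neg at hCc
  obtain ⟨u, hu, v, hv, huv⟩ := hCc
  obtain ⟨huD, huX⟩ := Subgroup.mem_inf.1 hu
  obtain ⟨hvD, hvX⟩ := Subgroup.mem_inf.1 hv
  set w := ⁅u, v⁆ with hw
  have hwC : w ∈ C := by
    rw [hw, commutatorElement_def]
    exact mul_mem (mul_mem (mul_mem hu hv) (inv_mem hu)) (inv_mem hv)
  have hwD : ∀ c ∈ D, w * c = c * w := fun c hc => hD2 u huD v hvD c hc
  have hw1 : w ≠ 1 := fun h => huv (commutatorElement_eq_one_iff_mul_comm.1 h)
  set A0 := Subgroup.closure ({x, w, u} : Set R) with hA0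
  have hux : u * x = x * u := Subgroup.mem_centralizer_singleton_iff.1 huX
  have hwx : w * x = x * w := Subgroup.mem_centralizer_singleton_iff.1 (Subgroup.mem_inf.1 hwC).2
  have hcomm : ∀ a ∈ ({x, w, u} : Set R), ∀ b ∈ ({x, w, u} : Set R), a * b = b * a := by
    simp only [Set.mem_insert_iff, Set.mem_singleton_iff]
    rintro a (ha | ha | ha) b (hb | hb | hb) <;> rw [ha, hb] <;>
      first
      | exact hwx
      | exact hwx.symm
      | exact hux
      | exact hux.symm
      | exact hwD u huD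
      | exact (hwD u huD).symm
  have hA0c : ∀ a ∈ A0, ∀ b ∈ A0, a * b = b * a := by
    haveI := Subgroup.isMulCommutative_closure hcomm
    exact fun a ha b hb => congrArg Subtype.val (mul_comm' (⟨a, ha⟩ : A0) ⟨b, hb⟩)
  have hA0e : ∀ a ∈ A0, a ^ p = 1 := by
    intro a ha
    induction ha using Subgroup.closure_induction with
    | mem a ha =>
      simp only [Set.mem_insert_iff, Set.mem_singleton_iff] at ha
      rcases ha with rfl | rfl | rfl
      · exact hx
      · exact hDe _ (Subgroup.mem_inf.1 hwC).1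
      · exact hDe _ huD
    | one => exact one_pow _
    | mul a b ha hb h1 h2 => rw [(show Commute a b from hA0c a ha b hb).mul_pow, h1, h2, one_mul]
    | inv a _ h => rw [inv_pow, h, inv_one]
  have hA0X : A0 ≤ Subgroup.centralizer {x} := fun a ha =>
    Subgroup.mem_centralizer_singleton_iff.2 (hA0c a ha x (Subgroup.subset_closure (by simp)))
  have hA02 := habel A0 hA0X hA0c hA0e
  set B := A0 ⊓ Subgroup.centralizer {v} with hB
  obtain ⟨j, hj⟩ := IsPGroup.iff_card.1 (hR.to_subgroup B)
  obtain ⟨n, hn⟩ := IsPGroup.iff_card.1 (hR.to_subgroup A0)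
  have hjn : j < n := by
    by_contra hle
    have heq : B = A0 := Subgroup.eq_of_le_of_card_ge inf_le_left (by
      rw [hn, hj]; exact Nat.pow_le_pow_right hpp.pos (not_lt.1 hle))
    exact huv (Subgroup.mem_centralizer_singleton_iff.1
      (Subgroup.mem_inf.1 (heq.ge (Subgroup.subset_closure (by simp)))).2)
  have hn2 : n ≤ 2 := (Nat.pow_le_pow_iff_right hpp.one_lt).1 (hn ▸ hA02)
  have hBle : Nat.card B ≤ p := by
    rw [hj]
    calc p ^ j ≤ p ^ 1 := Nat.pow_le_pow_right hpp.pos (by omega)
      _ = p := pow_one p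
  have hwB : Subgroup.zpowers w = B := by
    refine Subgroup.eq_of_le_of_card_ge (Subgroup.zpowers_le.2 (Subgroup.mem_inf.2
      ⟨Subgroup.subset_closure (by simp), Subgroup.mem_centralizer_singleton_iff.2 (hwD v hvD)⟩)) ?_
    rw [Nat.card_zpowers]
    exact hBle.trans (le_of_eq (orderOf_eq_prime (hDe _ (Subgroup.mem_inf.1 hwC).1) hw1).symm)
  have hxB : x ∈ B := Subgroup.mem_inf.2 ⟨Subgroup.subset_closure (by simp),
    Subgroup.mem_centralizer_singleton_iff.2 (Subgroup.mem_centralizer_singleton_iff.1 hvX).symm⟩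
  rw [← hwB] at hxB
  obtain ⟨k, hk⟩ := Subgroup.mem_zpowers_iff.1 hxB
  have hDC : C = D := le_antisymm inf_le_left fun c hc => Subgroup.mem_inf.2 ⟨hc,
    Subgroup.mem_centralizer_singleton_iff.2 (by
      rw [← hk]
      exact ((show Commute w c from hwD c hc).zpow_left k).eq.symm)⟩
  refine ⟨u, ?_⟩
  have hD3 : Nat.card D ≤ p ^ 3 := by
    have hDX : D ≤ Subgroup.centralizer {x} := hDC ▸ inf_le_right
    rw [← Nat.card_congr (Subgroup.subgroupOfEquivOfLe hDX).toEquiv]
    refine CfsgLib.PGroupRankTwo.card_exp_class_two_le (hR.to_subgroup _) hr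
      (fun d hd => Subtype.ext (hDe _ hd)) (fun a ha b hb c hc => Subtype.ext ?_)
    exact (hD2 _ ha _ hb _ hc).eq
  obtain ⟨i, hi⟩ := IsPGroup.iff_card.1 (hR.to_subgroup (D ⊓ Subgroup.centralizer {u}))
  obtain ⟨m, hm⟩ := IsPGroup.iff_card.1 (hR.to_subgroup D)
  have him : i < m := by
    by_contra hle
    have heq : D ⊓ Subgroup.centralizer {u} = D := Subgroup.eq_of_le_of_card_ge inf_le_left (by
      rw [hm, hi]; exact Nat.pow_le_pow_right hpp.pos (not_lt.1 hle))
    exact huv (Subgroup.mem_centralizer_singleton_iff.1 (Subgroup.mem_inf.1 (heq.ge hvD)).2).symm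
  have hm3 : m ≤ 3 := (Nat.pow_le_pow_iff_right hpp.one_lt).1 (hm ▸ hD3)
  rw [hi]
  exact Nat.pow_le_pow_right hpp.pos (by omega)

/-- The factor of a step of the series. -/
theorem factor_facts (hR : IsPGroup p R) {D : Subgroup R} (hDe : ∀ d ∈ D, d ^ p = 1) {y : R}
    (hy : Nat.card ↥(D ⊓ Subgroup.centralizer {y}) ≤ p ^ 2) {N M : Subgroup R} (hND : N ≤ D) [N.Normal]
    (hM : M = ⁅N, (⊤ : Subgroup R)⁆) [(M.subgroupOf N).Normal] :
    (∀ a b : N ⧸ M.subgroupOf N, a * b = b * a) ∧ (∀ v : N ⧸ M.subgroupOf N, v ^ p = 1) ∧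
      Nat.card (N ⧸ M.subgroupOf N) ≤ p ^ 2 := by
  refine ⟨fun a b => ?_, fun v => ?_, ?_⟩
  · induction a using QuotientGroup.induction_on with
    | H s =>
      induction b using QuotientGroup.induction_on with
      | H t =>
        rw [← QuotientGroup.mk_mul, ← QuotientGroup.mk_mul, QuotientGroup.eq, Subgroup.mem_subgroupOf, hM]
        have e : (((s * t)⁻¹ * (t * s) : N) : R) = ⁅((t : R))⁻¹, ((s : R))⁻¹⁆ := by
          push_cast
          rw [commutatorElement_def]
          group
        rw [e]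
        exact Subgroup.commutator_mem_commutator (inv_mem t.2) (Subgroup.mem_top _)
  · induction v using QuotientGroup.induction_on with
    | H s => rw [← QuotientGroup.mk_pow, show s ^ p = 1 from Subtype.ext (hDe _ (hND s.2)), QuotientGroup.mk_one]
  · haveI : Nonempty ↥M := ⟨1⟩
    have h1 := card_le_commutator_mul N y
    rw [← hM] at h1
    have h2 : Nat.card ↥(N ⊓ Subgroup.centralizer {y}) ≤ p ^ 2 :=
      (Nat.le_of_dvd Nat.card_pos (Subgroup.card_dvd_of_le (inf_le_inf_right _ hND))).trans hy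
    have h3 := Subgroup.card_eq_card_quotient_mul_card_subgroup (M.subgroupOf N)
    have hMN : M ≤ N := hM ▸ Subgroup.commutator_le_left N ⊤
    rw [Nat.card_congr (Subgroup.subgroupOfEquivOfLe hMN).toEquiv] at h3
    refine Nat.le_of_mul_le_mul_right (?_ : Nat.card (N ⧸ M.subgroupOf N) * Nat.card M ≤ p ^ 2 * Nat.card M)
      Nat.card_pos
    calc Nat.card (N ⧸ M.subgroupOf N) * Nat.card M = Nat.card N := h3.symm
      _ ≤ Nat.card M * Nat.card ↥(N ⊓ Subgroup.centralizer {y}) := h1
      _ ≤ p ^ 2 * Nat.card M := by rw [mul_comm]; exact Nat.mul_le_mul_right _ h2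

/-- An automorphism fixing a step and the factor has a small power fixing the next step. -/
theorem step_fix {N M : Subgroup R} {β : MulAut R}
    (hDe : ∀ d ∈ N, d ^ p = 1) (hfM : ∀ m ∈ M, β m = m) (hq : ∀ d ∈ N, d⁻¹ * β d ∈ M)
    (hMN : M ≤ N) : ∀ d ∈ N, (β ^ p) d = d := by
  intro d hd
  have key : ∀ n : ℕ, (β ^ n) d = d * (d⁻¹ * β d) ^ n := by
    intro n
    induction n with
    | zero => simp
    | succ n ih =>
      rw [pow_succ', MulAut.mul_apply, ih, map_mul, map_pow, hfM _ (hq d hd), pow_succ' _ n, ← mul_assoc d,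
        mul_inv_cancel_left]
  rw [key, hDe _ (hMN (hq d hd)), mul_one]

/-- The derived group of a solvable group of odd order of automorphisms is a `p`-group. -/
theorem derived_isPGroup (hp : p ≠ 2) (hR : IsPGroup p R) {x : R} (hx : x ^ p = 1)
    (hr : Cfsg.PRankLE p 2 ↥(Subgroup.centralizer ({x} : Set R))) {A : Type*} [Group A] [Finite A]
    [Group.IsSolvable A] (hodd : Odd (Nat.card A)) (φ : A →* MulAut R) (hφ : Function.Injective φ) :
    IsPGroup p (commutator A) := by
  classical
  have hpp := (Fact.out : p.Prime)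
  obtain ⟨D, hDch, hDe, hD2, hDf⟩ := exists_omega_critical hp hR
  obtain ⟨y, hy⟩ := exists_small_centralizer hR hDe hD2 hx hr
  have main : ∀ n, ∀ N : Subgroup R, Nat.card N = n → N.Characteristic → N ≤ D →
      ∀ g ∈ commutator A, ∃ k : ℕ, ∀ d ∈ N, ((φ g) ^ p ^ k) d = d := by
    intro n
    induction n using Nat.strong_induction_on with
    | _ n ih =>
      intro N hn hNch hND g hg
      haveI := hNch
      by_cases hN : N = ⊥
      · exact ⟨0, fun d hd => by rw [hN, Subgroup.mem_bot] at hd; rw [hd, map_one]⟩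
      set M := ⁅N, (⊤ : Subgroup R)⁆ with hM
      have hlt : M < N := commutator_top_lt hR N hN
      haveI hMch : M.Characteristic := Subgroup.commutator_characteristic N ⊤
      haveI : (M.subgroupOf N).Normal := inferInstance
      obtain ⟨hc, he, hcard⟩ := factor_facts hR hDe hy hND hM
      letI : CommGroup (N ⧸ M.subgroupOf N) := { mul_comm := hc }
      let ψN : A →* MulAut N := (CfsgLib.RankTwoDerived.restrictAut N).comp φ
      let ψ : A →* MulAut (N ⧸ M.subgroupOf N) :=
        { toFun := fun a => QuotientGroup.congr (M.subgroupOf N) (M.subgroupOf N) (ψN a) (by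
            have key : ∀ b : A, ∀ z : N, z ∈ M.subgroupOf N → ψN b z ∈ M.subgroupOf N := fun b z hz =>
              CfsgLib.Small.apply_mem_of_char (C := M) (φ b) (Subgroup.mem_subgroupOf.1 hz)
            ext z
            constructor
            · rintro ⟨w, hw, rfl⟩
              exact key a w hw
            · intro hz
              refine ⟨ψN a⁻¹ z, key a⁻¹ z hz, ?_⟩
              show ψN a (ψN a⁻¹ z) = z
              rw [← MulAut.mul_apply, ← map_mul, mul_inv_cancel, map_one]
              rfl)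
          map_one' := by
            refine MulEquiv.ext fun x => ?_
            induction x using QuotientGroup.induction_on with
            | H z =>
              show QuotientGroup.mk (ψN 1 z) = _
              rw [map_one]
              rfl
          map_mul' := fun a b => by
            refine MulEquiv.ext fun x => ?_
            induction x using QuotientGroup.induction_on with
            | H z =>
              show QuotientGroup.mk (ψN (a * b) z) = QuotientGroup.mk (ψN a (ψN b z))
              rw [map_mul]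
              rfl }
      have h1 := CfsgLib.RankTwoDerived.abelian_derived hp hodd he hcard ψ g hg
      obtain ⟨k, hk⟩ := ih (Nat.card M)
        (hn ▸ lt_of_le_of_ne (Nat.le_of_dvd Nat.card_pos (Subgroup.card_dvd_of_le hlt.le))
          (fun h => hlt.ne (Subgroup.eq_of_le_of_card_ge hlt.le h.ge))) M rfl hMch (hlt.le.trans hND) g hg
      refine ⟨(1 + k) + 1, ?_⟩
      set g1 := g ^ p ^ (1 + k) with hg1
      have hfM : ∀ m ∈ M, φ g1 m = m := by
        intro m hm
        have e : p ^ (1 + k) = p ^ k * p := by rw [pow_add, pow_one, mul_comm]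
        rw [hg1, e, map_pow, pow_mul]
        obtain h := hk m hm
        have : ∀ j : ℕ, (((φ g) ^ p ^ k) ^ j) m = m := by
          intro j
          induction j with
          | zero => simp
          | succ j ihj => rw [pow_succ, MulAut.mul_apply, h, ihj]
        exact this p
      have hq : ∀ d ∈ N, d⁻¹ * φ g1 d ∈ M := by
        intro d hd
        have h2 : ψ g1 = 1 := by
          rw [hg1, map_pow, pow_add, pow_one, pow_mul, h1, one_pow]
        have h3 := DFunLike.congr_fun h2 (QuotientGroup.mk (⟨d, hd⟩ : N))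
        exact Subgroup.mem_subgroupOf.1 (QuotientGroup.eq.1 (h3.symm :
          (QuotientGroup.mk (⟨d, hd⟩ : N) : N ⧸ M.subgroupOf N) = QuotientGroup.mk (ψN g1 ⟨d, hd⟩)))
      intro d hd
      rw [pow_succ, pow_mul, ← map_pow φ g]
      exact step_fix (fun d hd => hDe d (hND hd)) hfM hq hlt.le d hd
  intro g
  obtain ⟨j, hj⟩ := main _ D rfl hDch le_rfl g.1 g.2
  obtain ⟨k, m, hm, hkm⟩ := Nat.exists_eq_pow_mul_and_not_dvd (orderOf_pos (φ g.1 ^ p ^ j)).ne' p hpp.ne_one
  have hb : (φ g.1 ^ p ^ j) ^ (p ^ k) = 1 := by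
    refine hDf _ ?_ ?_
    · have h3 : ((φ g.1 ^ p ^ j) ^ p ^ k) ^ m = 1 := by rw [← pow_mul, ← hkm, pow_orderOf_eq_one]
      exact Nat.Coprime.coprime_dvd_left (orderOf_dvd_of_pow_eq_one h3) ((hpp.coprime_iff_not_dvd).2 hm).symm
    · intro d hd
      have h := hj d hd
      have : ∀ i : ℕ, (((φ g.1) ^ p ^ j) ^ i) d = d := by
        intro i
        induction i with
        | zero => simp
        | succ i ihi => rw [pow_succ, MulAut.mul_apply, h, ihi]
      exact this _
  refine ⟨j + k, Subtype.ext (hφ ?_)⟩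
  show φ (g.1 ^ p ^ (j + k)) = φ 1
  rw [map_one, pow_add, pow_mul, map_pow, map_pow, hb]

/-- Prime divisors of the automorphism group. -/
theorem aut_prime_lt (hp : p ≠ 2) (hR : IsPGroup p R) {x : R} (hx : x ^ p = 1)
    (hr : Cfsg.PRankLE p 2 ↥(Subgroup.centralizer ({x} : Set R))) {q : ℕ} (hq : q.Prime) (hqp : q ≠ p)
    (hdvd : q ∣ Nat.card (MulAut R)) : q < p := by
  classical
  have hpp := (Fact.out : p.Prime)
  by_contra hnot
  have hgt : p < q := lt_of_le_of_ne (not_lt.1 hnot) hqp.symm
  haveI : Fact q.Prime := ⟨hq⟩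
  haveI : Finite (MulAut R) := Finite.of_injective (fun f => (f : R → R)) DFunLike.coe_injective
  obtain ⟨α, hα⟩ := exists_prime_orderOf_dvd_card' (G := MulAut R) q hdvd
  have hαc : (orderOf α).Coprime p := hα ▸ (Nat.coprime_primes hq hpp).2 hqp
  obtain ⟨D, hDch, hDe, hD2, hDf⟩ := exists_omega_critical hp hR
  obtain ⟨y, hy⟩ := exists_small_centralizer hR hDe hD2 hx hr
  have main : ∀ n, ∀ N : Subgroup R, Nat.card N = n → N.Characteristic → N ≤ D → ∀ d ∈ N, α d = d := by
    intro n
    induction n using Nat.strong_induction_on with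
    | _ n ih =>
      intro N hn hNch hND d hd
      haveI := hNch
      by_cases hN : N = ⊥
      · rw [hN, Subgroup.mem_bot] at hd; rw [hd, map_one]
      set M := ⁅N, (⊤ : Subgroup R)⁆ with hM
      have hlt : M < N := commutator_top_lt hR N hN
      haveI hMch : M.Characteristic := Subgroup.commutator_characteristic N ⊤
      haveI : (M.subgroupOf N).Normal := inferInstance
      obtain ⟨hc, he, hcard⟩ := factor_facts hR hDe hy hND hM
      have hfM := ih (Nat.card M)
        (hn ▸ lt_of_le_of_ne (Nat.le_of_dvd Nat.card_pos (Subgroup.card_dvd_of_le hlt.le))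
          (fun h => hlt.ne (Subgroup.eq_of_le_of_card_ge hlt.le h.ge))) M rfl hMch (hlt.le.trans hND)
      set αN := CfsgLib.RankTwoDerived.restrictAut N α with hαN
      have hmap : (M.subgroupOf N).map (αN : ↥N →* ↥N) = M.subgroupOf N := by
        ext z
        constructor
        · rintro ⟨w, hw, rfl⟩
          exact CfsgLib.Small.apply_mem_of_char (C := M) α (Subgroup.mem_subgroupOf.1 hw)
        · intro hz
          exact ⟨αN.symm z, CfsgLib.Small.apply_mem_of_char (C := M) α.symm (Subgroup.mem_subgroupOf.1 hz),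
            αN.apply_symm_apply z⟩
      set β := QuotientGroup.congr (M.subgroupOf N) (M.subgroupOf N) αN hmap with hβ
      have hβpow : ∀ (i : ℕ) (z : N), ((β : MulAut (N ⧸ M.subgroupOf N)) ^ i) (QuotientGroup.mk z) =
          QuotientGroup.mk ((αN ^ i) z) := by
        intro i
        induction i with
        | zero => intro z; rfl
        | succ i ihi =>
          intro z
          rw [pow_succ', pow_succ', MulAut.mul_apply, MulAut.mul_apply, ihi]
          rfl
      have hβq : (β : MulAut (N ⧸ M.subgroupOf N)) ^ q = 1 := by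
        refine MulEquiv.ext fun v => ?_
        induction v using QuotientGroup.induction_on with
        | H z =>
          rw [hβpow, hαN, ← map_pow, ← hα, pow_orderOf_eq_one, map_one]
          rfl
      have hfix : d⁻¹ * α d ∈ M := by
        by_contra hne
        have hmv : ∃ v ∈ (⊤ : Subgroup (N ⧸ M.subgroupOf N)), β v ≠ v := by
          refine ⟨QuotientGroup.mk ⟨d, hd⟩, Subgroup.mem_top _, fun h => hne ?_⟩
          exact Subgroup.mem_subgroupOf.1 (QuotientGroup.eq.1 (h.symm :
            (QuotientGroup.mk (⟨d, hd⟩ : N) : N ⧸ M.subgroupOf N) = QuotientGroup.mk (αN ⟨d, hd⟩)))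
        have hVp : IsPGroup p (N ⧸ M.subgroupOf N) := fun v => ⟨1, by rw [pow_one]; exact he v⟩
        obtain ⟨m, hm⟩ := IsPGroup.iff_card.1 (hVp.to_subgroup ⊤)
        have hm2 : m ≤ 2 := (Nat.pow_le_pow_iff_right hpp.one_lt).1 (by rw [← hm, Subgroup.card_top]; exact hcard)
        have h := CfsgLib.PGroupRankTwo.dvd_of_moved hqp hVp hβq (fun v _ => Subgroup.mem_top _) hmv hm (Or.inl hm2)
        have h' : q ∣ (p + 1) * (p - 1) := by rwa [← Nat.sq_sub_sq, one_pow]
        have hp1 : 3 ≤ p := by have := hpp.two_le; omega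
        rcases hq.dvd_mul.1 h' with h | h
        · have hle := Nat.le_of_dvd (by omega) h
          have hodd : p % 2 = 1 := (hpp.eq_two_or_odd).resolve_left hp
          rcases hq.eq_two_or_odd with h2 | h2 <;> omega
        · have := Nat.le_of_dvd (by omega) h
          omega
      exact CfsgLib.Small.apply_eq_self_of_step hR hαc (hfM _ hfix)
  have h1 := hDf α hαc (main _ D rfl hDch le_rfl)
  rw [h1, orderOf_one] at hα
  exact hq.one_lt.ne hα

end CfsgLib.NarrowDerived
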