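import Mathlib
import Cfsg.Agent.Lib.CoprimeGen
import Cfsg.Agent.Lib.Coprime
import Cfsg.Agent.Lib.CharP
import Cfsg.Agent.Lib.Products
import Cfsg.Agent.Lib.TIHall.Basic
import Cfsg.Agent.Lib.FrobAction.Order

/-!
Coprime actions on an abelian `p`-group in which an element of prime order has at most `p` fixed points.
-/

set_option autoImplicit false
set_option linter.unusedSectionVars false

namespace CfsgLib.SmallFixed

open Subgroup
open scoped Pointwise commutatorElement IsMulCommutative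

universe u
variable {G : Type u} [Group G] [Finite G]

theorem conj_eq_of_mem_normalizer {X : Subgroup G} {g : G} (hg : g ∈ normalizer (X : Set G)) :
    MulAut.conj g • X = X := by
  ext x
  rw [CfsgLib.mem_conj_smul_iff]
  exact (Subgroup.mem_normalizer_iff''.mp hg x).symm

theorem mem_normalizer_of_conj_eq {X : Subgroup G} {g : G} (hg : MulAut.conj g • X = X) :
    g ∈ normalizer (X : Set G) := by
  rw [Subgroup.mem_normalizer_iff'']
  intro x
  conv_lhs => rw [← hg, CfsgLib.mem_conj_smul_iff]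

/-- `v ↦ ∏_{s ∈ S} s v s⁻¹`. -/
noncomputable def normMap (V S : Subgroup G) [IsMulCommutative V] (h : S ≤ normalizer (V : Set G)) : V →* V :=
  letI := Fintype.ofFinite S
  ∏ s : S, (V.normalizerMonoidHom (Subgroup.inclusion h s)).toMonoidHom

variable {V : Subgroup G} [IsMulCommutative V]

theorem normMap_coe {S : Subgroup G} (h : S ≤ normalizer (V : Set G)) [Fintype S] (v : V) :
    normMap V S h v = ∏ s : S, V.normalizerMonoidHom (Subgroup.inclusion h s) v := by
  unfold normMap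
  rw [MonoidHom.finsetProd_apply]
  refine Finset.prod_congr ?_ fun _ _ => rfl
  ext
  simp

theorem normMap_fixed {S : Subgroup G} (h : S ≤ normalizer (V : Set G)) (v : V) :
    (normMap V S h v : G) ∈ centralizer (S : Set G) := by
  classical
  letI := Fintype.ofFinite S
  intro t ht
  have e : V.normalizerMonoidHom (Subgroup.inclusion h ⟨t, ht⟩) (normMap V S h v) = normMap V S h v := by
    rw [normMap_coe, map_prod]
    refine Fintype.prod_equiv (Equiv.mulLeft (⟨t, ht⟩ : S)) _ _ fun s => ?_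
    rw [← MulAut.mul_apply, ← map_mul, ← map_mul]
    rfl
  exact mul_inv_eq_iff_eq_mul.mp (congrArg Subtype.val e)

theorem normMap_of_fixed {S : Subgroup G} (h : S ≤ normalizer (V : Set G)) {v : V}
    (hv : (v : G) ∈ centralizer (S : Set G)) : normMap V S h v = v ^ Nat.card S := by
  classical
  letI := Fintype.ofFinite S
  rw [normMap_coe, Nat.card_eq_fintype_card, ← Finset.card_univ, ← Finset.prod_const]
  refine Finset.prod_congr rfl fun s _ => Subtype.ext ?_
  show (s : G) * v * (s : G)⁻¹ = v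
  rw [hv s s.2, mul_inv_cancel_right]

theorem normMap_conj {S : Subgroup G} (h : S ≤ normalizer (V : Set G)) {t : G} (ht : t ∈ S) (v : V) :
    normMap V S h (V.normalizerMonoidHom (Subgroup.inclusion h ⟨t, ht⟩) v) = normMap V S h v := by
  classical
  letI := Fintype.ofFinite S
  rw [normMap_coe, normMap_coe]
  refine Fintype.prod_equiv (Equiv.mulRight (⟨t, ht⟩ : S)) _ _ fun s => ?_
  rw [← MulAut.mul_apply, ← map_mul, ← map_mul]
  rfl

/-- The norm map of `S` sends the fixed points of a subgroup commuting with `S` to common fixed points. -/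
theorem normMap_mem {S T : Subgroup G} (h : S ≤ normalizer (V : Set G)) (hST : S ≤ centralizer (T : Set G))
    {v : V} (hv : (v : G) ∈ centralizer (T : Set G)) :
    (normMap V S h v : G) ∈ centralizer (T : Set G) := by
  classical
  letI := Fintype.ofFinite S
  rw [normMap_coe, ← Subgroup.mem_subgroupOf]
  refine prod_mem fun s _ => ?_
  rw [Subgroup.mem_subgroupOf]
  show (s : G) * v * (s : G)⁻¹ ∈ centralizer (T : Set G)
  exact mul_mem (mul_mem (hST s.2) hv) (inv_mem (hST s.2))

theorem pow_eq_one_coprime {H : Type*} [Group H] [Finite H] {n : ℕ} {v : H} (h : v ^ n = 1)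
    (hcop : (Nat.card H).Coprime n) : v = 1 :=
  orderOf_eq_one_iff.mp (Nat.eq_one_of_dvd_coprimes hcop (orderOf_dvd_natCard v) (orderOf_dvd_of_pow_eq_one h))

/-- `[V, Q]` has no fixed points of `Q`. -/
theorem commutator_fixed_bot {Q : Subgroup G} (hQ : Q ≤ normalizer (V : Set G))
    (hcop : (Nat.card V).Coprime (Nat.card Q)) : ⁅V, Q⁆ ⊓ centralizer (Q : Set G) = ⊥ := by
  rw [eq_bot_iff]
  rintro x ⟨hx, hxC⟩
  have hle : ⁅V, Q⁆ ≤ (normMap V Q hQ).ker.map V.subtype := by
    rw [Subgroup.commutator_le]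
    intro v hv a ha
    refine ⟨⟨v, hv⟩ * (V.normalizerMonoidHom (Subgroup.inclusion hQ ⟨a, ha⟩) ⟨v, hv⟩)⁻¹, ?_, ?_⟩
    · rw [SetLike.mem_coe, MonoidHom.mem_ker, map_mul, map_inv, normMap_conj, mul_inv_cancel]
    · show v * (a * v * a⁻¹)⁻¹ = ⁅v, a⁆
      rw [commutatorElement_def]
      group
  obtain ⟨w, hw, rfl⟩ := hle hx
  rw [SetLike.mem_coe, MonoidHom.mem_ker, normMap_of_fixed hQ hxC] at hw
  rw [Subgroup.mem_bot, pow_eq_one_coprime hw hcop]
  rfl

/-- Two groups of automorphisms of a group of prime order commute on it. -/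
theorem commutator_le_centralizer_of_prime {W A B : Subgroup G} (hW : (Nat.card W).Prime)
    (hA : A ≤ normalizer (W : Set G)) (hB : B ≤ normalizer (W : Set G)) :
    ⁅A, B⁆ ≤ centralizer (W : Set G) := by
  haveI := Fact.mk hW
  haveI : IsCyclic W := isCyclic_of_prime_card rfl
  rw [Subgroup.commutator_le]
  intro a ha b hb
  have h : W.normalizerMonoidHom ⁅(⟨a, hA ha⟩ : normalizer (W : Set G)), ⟨b, hB hb⟩⁆ = 1 := by
    rw [map_commutatorElement, commutatorElement_eq_one_iff_mul_comm]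
    apply (IsCyclic.mulAutMulEquiv (G := W)).injective
    rw [map_mul, map_mul, mul_comm]
  have h' : ⁅(⟨a, hA ha⟩ : normalizer (W : Set G)), ⟨b, hB hb⟩⁆ ∈ W.normalizerMonoidHom.ker := h
  rw [Subgroup.normalizerMonoidHom_ker] at h'
  exact h'

/-- `S` is a maximal subgroup of the elementary abelian group `Q`. -/
structure Hyper (Q S : Subgroup G) : Prop where
  le : S ≤ Q
  ne : ¬ Q ≤ S
  max : ∀ a ∈ Q, a ∉ S → Q ≤ S ⊔ zpowers a

theorem Hyper.conj {Q S : Subgroup G} (h : Hyper Q S) {g : G} (hg : g ∈ normalizer (Q : Set G)) :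
    Hyper Q (MulAut.conj g • S) := by
  have e := conj_eq_of_mem_normalizer hg
  refine ⟨?_, fun hle => h.ne ?_, fun a ha ha' => ?_⟩
  · rw [← e]
    exact fun x hx => by
      rw [CfsgLib.mem_conj_smul_iff] at hx ⊢
      exact h.le hx
  · intro x hx
    have := hle (e ▸ (CfsgLib.mem_conj_smul_iff.mpr (by simpa [mul_assoc] using hx) :
      g * x * g⁻¹ ∈ MulAut.conj g • Q))
    rw [CfsgLib.mem_conj_smul_iff] at this
    simpa [mul_assoc] using this
  · intro x hx
    rw [CfsgLib.mem_conj_smul_iff] at ha'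
    have h1 := h.max _ ((Subgroup.mem_normalizer_iff''.mp hg a).mp ha) ha'
      ((Subgroup.mem_normalizer_iff''.mp hg x).mp hx)
    rw [show x = (MulAut.conj g).toMonoidHom (g⁻¹ * x * g) by simp [mul_assoc]]
    have h2 := Subgroup.mem_map_of_mem (MulAut.conj g).toMonoidHom h1
    rw [Subgroup.map_sup, MonoidHom.map_zpowers] at h2
    simp only [MulEquiv.coe_toMonoidHom, MulAut.conj_apply, mul_assoc, mul_inv_cancel_left, mul_inv_cancel,
      mul_one] at h2 ⊢
    exact h2

theorem Hyper.le_sup {Q S T : Subgroup G} (hS : Hyper Q S) (hT : Hyper Q T) (hne : S ≠ T) : Q ≤ S ⊔ T := by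
  by_cases h : T ≤ S
  · have h' : ¬ S ≤ T := fun h' => hne (le_antisymm h' h)
    obtain ⟨a, haS, haT⟩ := SetLike.not_le_iff_exists.mp h'
    exact (hT.max a (hS.le haS) haT).trans (sup_le le_sup_right ((Subgroup.zpowers_le.mpr haS).trans le_sup_left))
  · obtain ⟨a, haT, haS⟩ := SetLike.not_le_iff_exists.mp h
    exact (hS.max a (hT.le haT) haS).trans (sup_le le_sup_left ((Subgroup.zpowers_le.mpr haT).trans le_sup_right))

theorem fixed_inf {Q S T : Subgroup G} (hQV : V ⊓ centralizer (Q : Set G) = ⊥) (hS : Hyper Q S)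
    (hT : Hyper Q T) (hne : S ≠ T) {x : G} (hx : x ∈ V) (hxS : x ∈ centralizer (S : Set G))
    (hxT : x ∈ centralizer (T : Set G)) : x = 1 := by
  refine Subgroup.mem_bot.mp (hQV ▸ (⟨hx, ?_⟩ : x ∈ V ⊓ centralizer (Q : Set G)))
  have h : S ⊔ T ≤ centralizer ({x} : Set G) := sup_le
    (fun s hs => Subgroup.mem_centralizer_singleton_iff.mpr (hxS s hs))
    (fun s hs => Subgroup.mem_centralizer_singleton_iff.mpr (hxT s hs))
  exact fun a ha => Subgroup.mem_centralizer_singleton_iff.mp (h (hS.le_sup hT hne ha))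

variable {q : ℕ} [Fact q.Prime]

theorem zpowers_inf_bot {S : Subgroup G} {a : G} (ha : a ^ q = 1) (haS : a ∉ S) : zpowers a ⊓ S = ⊥ := by
  have hao : orderOf a = q := orderOf_eq_prime ha fun e => haS (e ▸ one_mem S)
  rw [eq_bot_iff]
  rintro x ⟨hxa, hxS⟩
  by_contra hx1
  rw [Subgroup.mem_bot] at hx1
  obtain ⟨k, hk⟩ : ∃ k : ℕ, Nat.card (zpowers x) = q ^ k := by
    have h := Subgroup.card_dvd_of_le (Subgroup.zpowers_le.mpr hxa)
    rw [Nat.card_zpowers a, hao] at h
    rcases (Fact.out : q.Prime).eq_one_or_self_of_dvd _ h with e | e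
    · exact ⟨0, by rw [e, pow_zero]⟩
    · exact ⟨1, by rw [e, pow_one]⟩
  have e : zpowers x = zpowers a := by
    refine Subgroup.eq_of_le_of_card_ge (Subgroup.zpowers_le.mpr hxa) ?_
    rw [Nat.card_zpowers a, hao, hk]
    refine Nat.le_self_pow (fun hk0 => hx1 ?_) q
    rw [hk0, pow_zero, Nat.card_zpowers, orderOf_eq_one_iff] at hk
    exact hk
  exact haS (Subgroup.zpowers_le.mpr hxS (e ▸ Subgroup.mem_zpowers a))

theorem exists_hyper {Q : Subgroup G} (hQ : Q ≤ normalizer (V : Set G)) [IsMulCommutative Q]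
    (hQe : ∀ a ∈ Q, a ^ q = 1) (hcop : (Nat.card Q).Coprime (Nat.card V)) (hV : V ≠ ⊥)
    (hQV : V ⊓ centralizer (Q : Set G) = ⊥) :
    ∃ S : Subgroup G, Hyper Q S ∧ V ⊓ centralizer (S : Set G) ≠ ⊥ := by
  obtain ⟨S, ⟨hSQ, hS⟩, hmax⟩ := (Set.toFinite {S : Subgroup G | S ≤ Q ∧
    V ⊓ centralizer (S : Set G) ≠ ⊥}).exists_maximal ⟨⊥, bot_le, by
      rwa [show centralizer ((⊥ : Subgroup G) : Set G) = ⊤ from top_le_iff.mp fun x _ y hy => by
        rw [SetLike.mem_coe, Subgroup.mem_bot] at hy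
        rw [hy, one_mul, mul_one], inf_top_eq]⟩
  refine ⟨S, ⟨hSQ, fun h => hS (le_bot_iff.mp (hQV ▸ inf_le_inf_left V (Subgroup.centralizer_le h))),
    fun a ha haS b hb => ?_⟩, hS⟩
  by_contra hb'
  set W := V ⊓ centralizer (S : Set G) with hW
  set B := zpowers a ⊔ zpowers b with hB
  have hBQ : B ≤ Q := sup_le (Subgroup.zpowers_le.mpr ha) (Subgroup.zpowers_le.mpr hb)
  have hbS : b ∉ S := fun h => hb' (Subgroup.mem_sup_left h)
  have hcomm : ∀ x ∈ Q, ∀ y ∈ Q, x * y = y * x := fun x hx y hy =>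
    congrArg (fun t : Q => (t : G)) (mul_comm (⟨x, hx⟩ : Q) ⟨y, hy⟩)
  have hBS : B ⊓ S = ⊥ := by
    rw [eq_bot_iff]
    rintro x ⟨hxB, hxS⟩
    obtain ⟨y, hy, z, hz, rfl⟩ := CfsgLib.mem_sup_of_le_normalizer (A := zpowers b) (W := zpowers a)
      ((Subgroup.zpowers_le.mpr (Subgroup.mem_centralizer_iff.mpr fun c hc => hcomm c (Subgroup.zpowers_le.mpr ha hc) b hb)).trans
        (Subgroup.centralizer_le_normalizer _)) hxB
    have hz1 : z = 1 := by
      refine Subgroup.mem_bot.mp ((zpowers_inf_bot (hQe b hb) hb').le ⟨hz, ?_⟩)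
      rw [show z = y⁻¹ * (y * z) by group]
      exact mul_mem (Subgroup.mem_sup_right (inv_mem hy)) (Subgroup.mem_sup_left hxS)
    subst hz1
    rw [mul_one] at hxS ⊢
    exact (zpowers_inf_bot (hQe a ha) haS).le ⟨hy, hxS⟩
  haveI : IsMulCommutative B := ⟨⟨fun x y => Subtype.ext (hcomm x (hBQ x.2) y (hBQ y.2))⟩⟩
  have hBnc : ¬ IsCyclic B := by
    intro hc
    obtain ⟨g, hg⟩ := hc.exists_generator
    have hao : orderOf a = q := orderOf_eq_prime (hQe a ha) fun e => haS (e ▸ one_mem S)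
    have h1 : Nat.card B ≤ q := by
      rw [← orderOf_eq_card_of_forall_mem_zpowers hg]
      exact Nat.le_of_dvd (Fact.out : q.Prime).pos (orderOf_dvd_of_pow_eq_one (Subtype.ext (hQe g (hBQ g.2))))
    have e : zpowers a = B := Subgroup.eq_of_le_of_card_ge le_sup_left (by rwa [Nat.card_zpowers, hao])
    exact hb' (Subgroup.mem_sup_right (e.ge (Subgroup.mem_sup_right (Subgroup.mem_zpowers b))))
  have hBW : B ≤ normalizer (W : Set G) := fun x hx => mem_normalizer_of_conj_eq (by
    rw [hW, Subgroup.smul_inf, conj_eq_of_mem_normalizer (hQ (hBQ hx))]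
    congr 1
    exact conj_eq_of_mem_normalizer (Subgroup.le_normalizer fun s hs => hcomm s (hSQ hs) x (hBQ hx)))
  have hgen := CfsgLib.coprime_generated_by_centralizers hBnc hBW
    ((hcop.coprime_dvd_left (Subgroup.card_dvd_of_le hBQ)).coprime_dvd_right (Subgroup.card_dvd_of_le inf_le_left))
  refine hS (le_bot_iff.mp (hgen.ge.trans (iSup₂_le fun x hx => ?_)))
  by_contra hne
  have hxS : x ∉ S := fun h => hx.2 (Subgroup.mem_bot.mp (hBS ▸ (⟨hx.1, h⟩ : x ∈ B ⊓ S)))
  refine hxS ((hmax (y := S ⊔ zpowers x) ⟨sup_le hSQ (Subgroup.zpowers_le.mpr (hBQ hx.1)), fun e => hne ?_⟩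
    le_sup_left) (Subgroup.mem_sup_right (Subgroup.mem_zpowers x)))
  rintro w ⟨⟨hwV, hwS⟩, hwx⟩
  refine e ▸ (⟨hwV, ?_⟩ : w ∈ V ⊓ centralizer ((S ⊔ zpowers x : Subgroup G) : Set G))
  have h : S ⊔ zpowers x ≤ centralizer ({w} : Set G) := sup_le
    (fun s hs => Subgroup.mem_centralizer_singleton_iff.mpr (hwS s hs))
    (Subgroup.zpowers_le.mpr (Subgroup.mem_centralizer_singleton_iff.mpr
      (Subgroup.mem_centralizer_singleton_iff.mp hwx).symm))
  exact fun s hs => Subgroup.mem_centralizer_singleton_iff.mp (h hs)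

variable {p r : ℕ} [Fact p.Prime] [Fact r.Prime]
variable {Q R : Subgroup G} (hQN : Q ≤ normalizer (V : Set G)) (hRN : R ≤ normalizer (V : Set G))
  (hRQ : R ≤ normalizer (Q : Set G)) (hR : Nat.card R = r) (hVp : IsPGroup p V)
  (hcopQ : (Nat.card V).Coprime (Nat.card Q)) (hfix : Nat.card ↥(V ⊓ centralizer (R : Set G)) ≤ p)
  (hQV : V ⊓ centralizer (Q : Set G) = ⊥)

include hR

theorem eq_one_of_fix {S : Subgroup G} (hS : ¬ R ≤ normalizer (S : Set G)) {t : G} (ht : t ∈ R)
    (hfixS : MulAut.conj t • S = S) : t = 1 := by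
  by_contra ht1
  have hto : orderOf t = r :=
    ((Fact.out : r.Prime).eq_one_or_self_of_dvd _ (hR ▸ Subgroup.orderOf_dvd_natCard R ht)).resolve_left
      (fun h => ht1 (orderOf_eq_one_iff.mp h))
  have e : zpowers t = R :=
    Subgroup.eq_of_le_of_card_ge (Subgroup.zpowers_le.mpr ht) (by rw [Nat.card_zpowers, hto, hR])
  exact hS (e ▸ Subgroup.zpowers_le.mpr (mem_normalizer_of_conj_eq hfixS))

theorem ncard_orbit {S : Subgroup G} (hS : ¬ R ≤ normalizer (S : Set G)) :
    ((fun t : G => MulAut.conj t • S) '' (R : Set G)).ncard = r := by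
  rw [Set.InjOn.ncard_image, ← hR]
  · exact (Nat.card_coe_set_eq _).symm
  · intro s hs t ht e
    have h := eq_one_of_fix hR hS (R.mul_mem (R.inv_mem ht) hs) (by
      have e' := congrArg (fun Z => MulAut.conj t⁻¹ • Z) e
      simp only [CfsgLib.conj_smul_mul, inv_mul_cancel, map_one, one_smul] at e'
      exact e')
    exact (inv_mul_eq_one.mp h).symm

include hQN hRN hRQ hVp hcopQ hfix hQV

/-- A fixed-point space of a hyperplane moved by `R` has order `p`, and all such hyperplanes are conjugate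
under `R`. -/
theorem regular [IsMulCommutative Q] {S : Subgroup G} (hS : Hyper Q S) (hW : V ⊓ centralizer (S : Set G) ≠ ⊥)
    (hmov : ¬ R ≤ normalizer (S : Set G)) :
    Nat.card ↥(V ⊓ centralizer (S : Set G)) = p ∧ ∀ T : Subgroup G, Hyper Q T →
      V ⊓ centralizer (T : Set G) ≠ ⊥ → ¬ R ≤ normalizer (T : Set G) → ∃ t ∈ R, T = MulAut.conj t • S := by
  classical
  letI := Fintype.ofFinite R
  have hcomm : ∀ A B : Subgroup G, A ≤ Q → B ≤ Q → A ≤ centralizer (B : Set G) := fun A B hA hB a ha b hb =>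
    congrArg (fun t : Q => (t : G)) (mul_comm (⟨b, hB hb⟩ : Q) ⟨a, hA ha⟩)
  -- the norm of a fixed point of `S'` seen from `S`
  have key : ∀ S : Subgroup G, ∀ hS : Hyper Q S, ∀ S' : Subgroup G, Hyper Q S' → S' ≠ S → ∀ v : V,
      (v : G) ∈ centralizer (S' : Set G) → normMap V S (hS.le.trans hQN) v = 1 := fun S hS S' hS' hne v hv =>
    Subtype.ext (fixed_inf hQV hS hS' hne.symm (SetLike.coe_mem _) (normMap_fixed _ v)
      (normMap_mem _ (hcomm _ _ hS.le hS'.le) hv))
  have hconj : ∀ S : Subgroup G, ∀ t : R, ∀ v : V, (v : G) ∈ centralizer (S : Set G) →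
      ((V.normalizerMonoidHom (Subgroup.inclusion hRN t) v : V) : G) ∈
        centralizer ((MulAut.conj (t : G) • S : Subgroup G) : Set G) := by
    intro S t v hv y hy
    rw [SetLike.mem_coe, CfsgLib.mem_conj_smul_iff] at hy
    show y * ((t : G) * v * (t : G)⁻¹) = (t : G) * v * (t : G)⁻¹ * y
    calc y * ((t : G) * v * (t : G)⁻¹) = (t : G) * (((t : G)⁻¹ * y * t) * v) * (t : G)⁻¹ := by group
      _ = (t : G) * (v * ((t : G)⁻¹ * y * t)) * (t : G)⁻¹ := by rw [hv _ hy]
      _ = _ := by group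
  set W := (centralizer (S : Set G)).subgroupOf V with hWdef
  have hsep : ∀ v : V, v ∈ W → normMap V S (hS.le.trans hQN) (normMap V R hRN v) = v ^ Nat.card S := by
    intro v hv
    rw [Subgroup.mem_subgroupOf] at hv
    rw [normMap_coe hRN, map_prod, Finset.prod_eq_single (1 : R)]
    · rw [map_one, map_one, MulAut.one_apply, normMap_of_fixed _ hv]
    · intro t _ ht
      refine key S hS (MulAut.conj (t : G) • S) (hS.conj (hRQ t.2)) (fun e => ht ?_) _ (hconj S t v hv)
      exact Subtype.ext (eq_one_of_fix hR hmov t.2 e)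
    · exact fun h => absurd (Finset.mem_univ _) h
  have hcopS : (Nat.card V).Coprime (Nat.card S) := hcopQ.coprime_dvd_right (Subgroup.card_dvd_of_le hS.le)
  let f : W → ↥(V ⊓ centralizer (R : Set G)) := fun v =>
    ⟨normMap V R hRN v, SetLike.coe_mem _, normMap_fixed hRN _⟩
  have hfinj : Function.Injective f := by
    intro a b e
    have e' : normMap V R hRN ((a : V) * (b : V)⁻¹) = 1 := by
      rw [map_mul, map_inv, mul_inv_eq_one]
      exact Subtype.ext (congrArg (fun z : ↥(V ⊓ centralizer (R : Set G)) => (z : G)) e)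
    have h := hsep _ (W.mul_mem a.2 (W.inv_mem b.2))
    rw [e', map_one] at h
    exact Subtype.ext (mul_inv_eq_one.mp (pow_eq_one_coprime h.symm hcopS))
  have hWcard : Nat.card W = Nat.card ↥(V ⊓ centralizer (S : Set G)) := by
    rw [hWdef, ← Subgroup.inf_subgroupOf_left, Nat.card_congr (Subgroup.subgroupOfEquivOfLe inf_le_left).toEquiv]
  have hle : Nat.card W ≤ Nat.card ↥(V ⊓ centralizer (R : Set G)) := Nat.card_le_card_of_injective f hfinj
  have hge : p ≤ Nat.card W := by
    obtain ⟨k, hk⟩ := (hVp.to_le (inf_le_left : V ⊓ centralizer (S : Set G) ≤ V)).exists_card_eq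
    rw [hWcard, hk]
    exact Nat.le_self_pow (fun e => hW (Subgroup.card_eq_one.mp (by rw [hk, e, pow_zero]))) p
  have hcardW : Nat.card W = p := le_antisymm (hle.trans hfix) hge
  refine ⟨hWcard ▸ hcardW, fun T hT hWT hmovT => ?_⟩
  by_contra hnot
  push_neg at hnot
  apply hWT
  rw [eq_bot_iff]
  rintro x ⟨hxV, hxT⟩
  have hfsurj : Function.Surjective f := by
    haveI : Fintype W := Fintype.ofFinite _
    haveI : Fintype ↥(V ⊓ centralizer (R : Set G)) := Fintype.ofFinite _
    exact ((Fintype.bijective_iff_injective_and_card f).mpr ⟨hfinj, by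
      rw [← Nat.card_eq_fintype_card, ← Nat.card_eq_fintype_card]
      exact le_antisymm hle (hfix.trans hge)⟩).2
  obtain ⟨v, hv⟩ := hfsurj ⟨normMap V R hRN ⟨x, hxV⟩, SetLike.coe_mem _, normMap_fixed hRN _⟩
  have hv' : normMap V R hRN (v : V) = normMap V R hRN ⟨x, hxV⟩ :=
    Subtype.ext (congrArg (fun z : ↥(V ⊓ centralizer (R : Set G)) => (z : G)) hv)
  have h1 : normMap V S (hS.le.trans hQN) (normMap V R hRN ⟨x, hxV⟩) = 1 := by
    rw [normMap_coe hRN, map_prod]
    refine Finset.prod_eq_one fun t _ => key S hS _ (hT.conj (hRQ t.2)) (fun e => ?_) _ (hconj T t ⟨x, hxV⟩ hxT)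
    refine hnot (t : G)⁻¹ (R.inv_mem t.2) ?_
    rw [← e, CfsgLib.conj_smul_mul, inv_mul_cancel, map_one, one_smul]
  have h2 : normMap V R hRN ⟨x, hxV⟩ = 1 := by
    rw [← hv'] at h1 ⊢
    rw [hsep _ v.2] at h1
    rw [pow_eq_one_coprime h1 hcopS, map_one]
  have h3 : normMap V T (hT.le.trans hQN) (normMap V R hRN ⟨x, hxV⟩) = ⟨x, hxV⟩ ^ Nat.card T := by
    rw [normMap_coe hRN, map_prod, Finset.prod_eq_single (1 : R)]
    · rw [map_one, map_one, MulAut.one_apply, normMap_of_fixed _ hxT]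
    · intro t _ ht
      refine key T hT _ (hT.conj (hRQ t.2)) (fun e => ht ?_) _ (hconj T t ⟨x, hxV⟩ hxT)
      exact Subtype.ext (eq_one_of_fix hR hmovT t.2 e)
    · exact fun h => absurd (Finset.mem_univ _) h
  rw [h2, map_one] at h3
  exact Subgroup.mem_bot.mpr (congrArg Subtype.val
    (pow_eq_one_coprime h3.symm (hcopQ.coprime_dvd_right (Subgroup.card_dvd_of_le hT.le))))

/-- No abelian `Q = [Q, P]` with `P` moved freely by `R`. -/
theorem no_abelian_config [IsMulCommutative Q] (hQe : ∀ a ∈ Q, a ^ q = 1) (hp : p ≠ 2) (hr : r ≠ 2)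
    (hrp : r ≠ p) (hV : V ≠ ⊥) {P : Subgroup G} (hP : IsPGroup p P) (hPN : P ≤ normalizer (V : Set G))
    (hPQ : P ≤ normalizer (Q : Set G)) (hRP : R ≤ normalizer (P : Set G))
    (hPR : P ⊓ centralizer (R : Set G) = ⊥) (hQP : Q ≤ ⁅Q, P⁆) : False := by
  have hcopRP : (Nat.card R).Coprime (Nat.card P) := by
    obtain ⟨k, hk⟩ := hP.exists_card_eq
    rw [hR, hk]
    exact ((Nat.coprime_primes (Fact.out : r.Prime) (Fact.out : p.Prime)).mpr hrp).pow_right k
  have hPR' : P ≤ ⁅P, R⁆ := by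
    conv_lhs => rw [← CfsgLib.coprime_commutator_sup hRP hcopRP (Or.inr (by
      haveI := hP.isNilpotent
      infer_instance)), hPR, sup_bot_eq]
  have hQQ : ∀ S : Subgroup G, S ≤ Q → Q ≤ normalizer (S : Set G) := fun S hS =>
    (show Q ≤ centralizer (S : Set G) from fun a ha b hb =>
      congrArg (fun t : Q => (t : G)) (mul_comm (⟨b, hS hb⟩ : Q) ⟨a, ha⟩)).trans
      (Subgroup.centralizer_le_normalizer _)
  have hTconj : ∀ S : Subgroup G, Hyper Q S → V ⊓ centralizer (S : Set G) ≠ ⊥ → ∀ g : G,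
      g ∈ normalizer (Q : Set G) → g ∈ normalizer (V : Set G) →
      Hyper Q (MulAut.conj g • S) ∧ V ⊓ centralizer ((MulAut.conj g • S : Subgroup G) : Set G) ≠ ⊥ := by
    intro S hS hW g hgQ hgV
    refine ⟨hS.conj hgQ, fun e => hW ?_⟩
    rw [eq_bot_iff]
    rintro x ⟨hxV, hxS⟩
    have hmem : g * x * g⁻¹ ∈ V ⊓ centralizer ((MulAut.conj g • S : Subgroup G) : Set G) := by
      refine ⟨(Subgroup.mem_normalizer_iff.mp hgV x).mp hxV, fun y hy => ?_⟩
      rw [SetLike.mem_coe, CfsgLib.mem_conj_smul_iff] at hy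
      calc y * (g * x * g⁻¹) = g * ((g⁻¹ * y * g) * x) * g⁻¹ := by group
        _ = g * (x * (g⁻¹ * y * g)) * g⁻¹ := by rw [hxS _ hy]
        _ = _ := by group
    rw [e, Subgroup.mem_bot] at hmem
    rw [Subgroup.mem_bot]
    exact conj_eq_one_iff.mp hmem
  obtain ⟨S₀, hS₀, hW₀⟩ := exists_hyper hQN hQe hcopQ.symm hV hQV
  by_cases hex : ∃ S : Subgroup G, Hyper Q S ∧ V ⊓ centralizer (S : Set G) ≠ ⊥ ∧ R ≤ normalizer (S : Set G)
  · obtain ⟨S, hS, hW, hfixS⟩ := hex
    -- the other members of the `P`-orbit are moved by `R`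
    have hmov : ∀ g ∈ P, MulAut.conj g • S ≠ S → ¬ R ≤ normalizer ((MulAut.conj g • S : Subgroup G) : Set G) := by
      intro g hg hne hle
      obtain ⟨w, hw, hgw⟩ := CfsgLib.coprime_key hRP hcopRP (Or.inr (by
        haveI := hP.isNilpotent
        infer_instance)) (W := P ⊓ normalizer (S : Set G)) inf_le_left
        (fun t ht => mem_normalizer_of_conj_eq (by
          rw [Subgroup.smul_inf, conj_eq_of_mem_normalizer (hRP ht)]
          congr 1
          exact conj_eq_of_mem_normalizer (Subgroup.le_normalizer (hfixS ht)))) hg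
        (fun a ha => by
          rw [show g⁻¹ * a * g = (g⁻¹ * (a * g * a⁻¹)) * a by group]
          refine mul_mem (Subgroup.mem_sup_left ⟨P.mul_mem (P.inv_mem hg)
            ((Subgroup.mem_normalizer_iff.mp (hRP ha) g).mp hg), ?_⟩) (Subgroup.mem_sup_right ha)
          refine mem_normalizer_of_conj_eq ?_
          have h1 := conj_eq_of_mem_normalizer (hfixS (R.inv_mem ha))
          have h2 := conj_eq_of_mem_normalizer (hle ha)
          rw [show g⁻¹ * (a * g * a⁻¹) = g⁻¹ * a * g * a⁻¹ by group, ← CfsgLib.conj_smul_mul, h1,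
            ← CfsgLib.conj_smul_mul, ← CfsgLib.conj_smul_mul, h2, CfsgLib.conj_smul_mul, inv_mul_cancel, map_one,
            one_smul])
      have h1 : g * w = 1 := Subgroup.mem_bot.mp (hPR ▸ (⟨mul_mem hg hw.1, hgw⟩ :
        g * w ∈ P ⊓ centralizer (R : Set G)))
      apply hne
      rw [mul_eq_one_iff_eq_inv.mp h1]
      exact conj_eq_of_mem_normalizer (inv_mem hw.2)
    by_cases hPS : P ≤ normalizer (S : Set G)
    · -- `P = [P, R]` centralises `Q / S`
      refine hS.ne (hQP.trans ?_)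
      obtain ⟨a, haQ, haS⟩ := SetLike.not_le_iff_exists.mp hS.ne
      set N := normalizer (Q : Set G) ⊓ normalizer (S : Set G) with hN
      have hpow : ∀ g ∈ N, ∃ i : ℤ, (a ^ i)⁻¹ * (g * a * g⁻¹) ∈ S := by
        rintro g ⟨hgQ, -⟩
        obtain ⟨s, hs, y, hy, e⟩ := CfsgLib.mem_sup_of_le_normalizer
          ((Subgroup.zpowers_le.mpr haQ).trans (hQQ S hS.le))
          (hS.max a haQ haS ((Subgroup.mem_normalizer_iff.mp hgQ a).mp haQ))
        obtain ⟨i, rfl⟩ := Subgroup.mem_zpowers_iff.mp hy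
        refine ⟨i, ?_⟩
        rw [← e, ← mul_assoc]
        exact (Subgroup.mem_normalizer_iff''.mp
          (hQQ S hS.le (zpow_mem haQ i)) s).mp hs
      let K : Subgroup G :=
        { carrier := {g | g ∈ N ∧ ∀ y ∈ Q, y⁻¹ * (g * y * g⁻¹) ∈ S}
          one_mem' := ⟨one_mem N, fun y hy => by simp⟩
          mul_mem' := fun {g h} hg hh => ⟨mul_mem hg.1 hh.1, fun y hy => by
            have h1 := hh.2 y hy
            have h2 := hg.2 _ ((Subgroup.mem_normalizer_iff.mp hh.1.1 y).mp hy)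
            have h3 := mul_mem h1 h2
            rw [show y⁻¹ * (g * h * y * (g * h)⁻¹) =
              y⁻¹ * (h * y * h⁻¹) * ((h * y * h⁻¹)⁻¹ * (g * (h * y * h⁻¹) * g⁻¹)) by group]
            exact h3⟩
          inv_mem' := fun {g} hg => ⟨inv_mem hg.1, fun y hy => by
            have h1 := inv_mem (hg.2 _ ((Subgroup.mem_normalizer_iff.mp (inv_mem hg.1.1) y).mp hy))
            rw [show y⁻¹ * (g⁻¹ * y * g⁻¹⁻¹) = ((g⁻¹ * y * g⁻¹⁻¹)⁻¹ * (g * (g⁻¹ * y * g⁻¹⁻¹) * g⁻¹))⁻¹ by group]
            exact h1⟩ }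
      have hK : P ≤ K := by
        refine hPR'.trans ?_
        rw [Subgroup.commutator_le]
        intro g hg h hh
        have hgN : g ∈ N := ⟨hPQ hg, hPS hg⟩
        have hhN : h ∈ N := ⟨hRQ hh, hfixS hh⟩
        have hxN : ⁅g, h⁆ ∈ N := by
          rw [commutatorElement_def]
          exact mul_mem (mul_mem (mul_mem hgN hhN) (inv_mem hgN)) (inv_mem hhN)
        refine ⟨hxN, ?_⟩
        -- the exponents multiply
        obtain ⟨i, hi⟩ := hpow g hgN
        obtain ⟨j, hj⟩ := hpow h hhN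
        have powS : ∀ {y z : G} (k : ℤ), y ∈ Q → z ∈ Q → y⁻¹ * z ∈ S → (y ^ k)⁻¹ * z ^ k ∈ S :=
          fun {y z} k hy hz h0 => by
            have hc : Commute y⁻¹ z := congrArg (fun t : Q => (t : G)) (mul_comm (⟨y⁻¹, Q.inv_mem hy⟩ : Q) ⟨z, hz⟩)
            rw [← inv_zpow, ← hc.mul_zpow]
            exact zpow_mem h0 k
        have act : ∀ {g' : G}, g' ∈ N → ∀ {y z : G}, y ∈ Q → z ∈ Q → y⁻¹ * z ∈ S →
            (g' * y * g'⁻¹)⁻¹ * (g' * z * g'⁻¹) ∈ S := fun {g'} hg' {y z} _ _ h0 => by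
          rw [show (g' * y * g'⁻¹)⁻¹ * (g' * z * g'⁻¹) = g' * (y⁻¹ * z) * g'⁻¹ by group]
          exact (Subgroup.mem_normalizer_iff.mp hg'.2 _).mp h0
        -- the image of `a` under `g h` and `h g`
        have two : ∀ {g' h' : G} {i' j' : ℤ}, g' ∈ N → h' ∈ N → (a ^ i')⁻¹ * (g' * a * g'⁻¹) ∈ S →
            (a ^ j')⁻¹ * (h' * a * h'⁻¹) ∈ S → (a ^ (i' * j'))⁻¹ * (g' * h' * a * (g' * h')⁻¹) ∈ S := by
          intro g' h' i' j' hg' hh' hi' hj'
          have ha' : ∀ k : ℤ, a ^ k ∈ Q := fun k => zpow_mem haQ k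
          have hga : g' * a * g'⁻¹ ∈ Q := (Subgroup.mem_normalizer_iff.mp hg'.1 a).mp haQ
          have h1 := act hg' (ha' j') ((Subgroup.mem_normalizer_iff.mp hh'.1 a).mp haQ) hj'
          rw [← conj_zpow] at h1
          have h2 : ((a ^ i') ^ j')⁻¹ * (g' * a * g'⁻¹) ^ j' ∈ S := by
            exact powS j' (ha' i') hga hi'
          have h3 := mul_mem h2 h1
          rw [← zpow_mul] at h3
          rw [show (a ^ (i' * j'))⁻¹ * (g' * h' * a * (g' * h')⁻¹) = (a ^ (i' * j'))⁻¹ * (g' * a * g'⁻¹) ^ j' *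
            (((g' * a * g'⁻¹) ^ j')⁻¹ * (g' * (h' * a * h'⁻¹) * g'⁻¹)) by group]
          exact h3
        have e1 := two hgN hhN hi hj
        have e2 := two hhN hgN hj hi
        rw [mul_comm j i] at e2
        -- so `⁅g, h⁆` fixes `b`
        set b := h * g * a * (h * g)⁻¹ with hb
        have hbQ : b ∈ Q := (Subgroup.mem_normalizer_iff.mp (mul_mem hhN.1 hgN.1) a).mp haQ
        have hbS : b ∉ S := fun hbS => haS
          ((Subgroup.mem_normalizer_iff.mp (mul_mem hhN.2 hgN.2) a).mpr hbS)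
        have hxb : b⁻¹ * (⁅g, h⁆ * b * ⁅g, h⁆⁻¹) ∈ S := by
          rw [show ⁅g, h⁆ * b * ⁅g, h⁆⁻¹ = g * h * a * (g * h)⁻¹ by
            rw [hb, commutatorElement_def]; group]
          have h0 := mul_mem (inv_mem e2) e1
          rwa [show ((a ^ (i * j))⁻¹ * b)⁻¹ * ((a ^ (i * j))⁻¹ * (g * h * a * (g * h)⁻¹)) =
            b⁻¹ * (g * h * a * (g * h)⁻¹) by group] at h0
        intro y hy
        obtain ⟨s, hs, z, hz, rfl⟩ := CfsgLib.mem_sup_of_le_normalizer
          ((Subgroup.zpowers_le.mpr hbQ).trans (hQQ S hS.le)) (hS.max b hbQ hbS hy)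
        obtain ⟨k, rfl⟩ := Subgroup.mem_zpowers_iff.mp hz
        set x := ⁅g, h⁆
        have hxb' : x * b * x⁻¹ ∈ Q := (Subgroup.mem_normalizer_iff.mp hxN.1 b).mp hbQ
        have h4 : (b ^ k)⁻¹ * (x * b * x⁻¹) ^ k ∈ S := by
          exact powS k hbQ hxb' hxb
        have hk : (x * b * x⁻¹) ^ k = x * b ^ k * x⁻¹ := conj_zpow
        rw [hk] at h4
        have hc : ∀ {c d : G}, c ∈ Q → d ∈ Q → c * d = d * c := fun {c d} hc hd =>
          congrArg (fun t : Q => (t : G)) (mul_comm (⟨c, hc⟩ : Q) ⟨d, hd⟩)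
        have hs' : x * s * x⁻¹ ∈ S := (Subgroup.mem_normalizer_iff.mp hxN.2 s).mp hs
        rw [show (s * b ^ k)⁻¹ * (x * (s * b ^ k) * x⁻¹) =
          (b ^ k)⁻¹ * (s⁻¹ * (x * s * x⁻¹)) * (x * b ^ k * x⁻¹) by group,
          hc (inv_mem (zpow_mem hbQ k)) (mul_mem (inv_mem (hS.le hs)) (hS.le hs')), mul_assoc]
        exact mul_mem (mul_mem (inv_mem hs) hs') h4
      rw [Subgroup.commutator_le]
      intro y hy g hg
      have h := inv_mem ((hK hg).2 _ (Q.inv_mem hy))
      rw [show ⁅y, g⁆ = y⁻¹⁻¹ * (g * y⁻¹ * g⁻¹) by rw [commutatorElement_def]; group]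
      exact (hK hg).2 _ (Q.inv_mem hy)
    · obtain ⟨g₁, hg₁, hne₁⟩ : ∃ g ∈ P, MulAut.conj g • S ≠ S := by
        obtain ⟨g, hg, hgS⟩ := SetLike.not_le_iff_exists.mp hPS
        exact ⟨g, hg, fun e => hgS (mem_normalizer_of_conj_eq e)⟩
      obtain ⟨hS₁, hW₁⟩ := hTconj S hS hW g₁ (hPQ hg₁) (hPN hg₁)
      have hmov₁ := hmov g₁ hg₁ hne₁
      have heq : (fun g : G => MulAut.conj g • S) '' (P : Set G) =
          insert S ((fun t : G => MulAut.conj t • (MulAut.conj g₁ • S)) '' (R : Set G)) := by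
        ext T
        constructor
        · rintro ⟨g, hg, rfl⟩
          by_cases e : MulAut.conj g • S = S
          · exact Or.inl e
          obtain ⟨h1, h2⟩ := hTconj S hS hW g (hPQ hg) (hPN hg)
          obtain ⟨t, ht, et⟩ := (regular hQN hRN hRQ hR hVp hcopQ hfix hQV hS₁ hW₁ hmov₁).2 _ h1 h2
            (hmov g hg e)
          exact Or.inr ⟨t, ht, et.symm⟩
        · rintro (rfl | ⟨t, ht, rfl⟩)
          · exact ⟨1, one_mem P, by simp⟩
          · refine ⟨t * g₁ * t⁻¹, (Subgroup.mem_normalizer_iff.mp (hRP ht) g₁).mp hg₁, ?_⟩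
            show MulAut.conj (t * g₁ * t⁻¹) • S = MulAut.conj t • MulAut.conj g₁ • S
            rw [← CfsgLib.conj_smul_mul, conj_eq_of_mem_normalizer (hfixS (R.inv_mem ht)),
              CfsgLib.conj_smul_mul]
      have hnot : S ∉ (fun t : G => MulAut.conj t • (MulAut.conj g₁ • S)) '' (R : Set G) := by
        rintro ⟨t, ht, e⟩
        refine hne₁ ?_
        have e' := congrArg (fun Z => MulAut.conj t⁻¹ • Z) e
        simp only [CfsgLib.conj_smul_mul, inv_mul_cancel_left] at e'
        rw [e', conj_eq_of_mem_normalizer (hfixS (R.inv_mem ht))]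
      have hcard : ((fun g : G => MulAut.conj g • S) '' (P : Set G)).ncard = r + 1 := by
        rw [heq, Set.ncard_insert_of_notMem hnot (Set.toFinite _), ncard_orbit hR hmov₁]
      -- an orbit of a `p`-group has odd size
      letI : MulAction P (Subgroup G) := MulAction.compHom _ ((MulAut.conj (G := G)).comp P.subtype)
      obtain ⟨n, hn⟩ := hP.card_orbit S
      have hset : (MulAction.orbit P S) = (fun g : G => MulAut.conj g • S) '' (P : Set G) := by
        ext T
        constructor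
        · rintro ⟨g, rfl⟩
          exact ⟨g, g.2, rfl⟩
        · rintro ⟨g, hg, rfl⟩
          exact ⟨⟨g, hg⟩, rfl⟩
      rw [Nat.card_coe_set_eq, hset, hcard] at hn
      have hodd : Odd (r + 1) := hn ▸ ((Fact.out : p.Prime).odd_of_ne_two hp).pow
      exact Nat.not_even_iff_odd.mpr hodd (((Fact.out : r.Prime).odd_of_ne_two hr).add_odd odd_one)
  · push_neg at hex
    have hreg := regular hQN hRN hRQ hR hVp hcopQ hfix hQV hS₀ hW₀ (hex S₀ hS₀ hW₀)
    set T := (fun t : G => MulAut.conj t • S₀) '' (R : Set G) with hT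
    have hTmem : ∀ S ∈ T, Hyper Q S ∧ V ⊓ centralizer (S : Set G) ≠ ⊥ := by
      rintro _ ⟨t, ht, rfl⟩
      exact hTconj S₀ hS₀ hW₀ t (hRQ ht) (hRN ht)
    have hTP : ∀ g ∈ P, ∀ S ∈ T, MulAut.conj g • S ∈ T := by
      intro g hg S hS
      obtain ⟨h1, h2⟩ := hTconj S (hTmem S hS).1 (hTmem S hS).2 g (hPQ hg) (hPN hg)
      obtain ⟨t, ht, e⟩ := hreg.2 _ h1 h2 (hex _ h1 h2)
      exact ⟨t, ht, e.symm⟩
    letI : MulAction P T :=
      { smul := fun g S => ⟨MulAut.conj (g : G) • (S : Subgroup G), hTP g g.2 S S.2⟩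
        one_smul := fun S => Subtype.ext (by
          show MulAut.conj ((1 : P) : G) • (S : Subgroup G) = S
          rw [Subgroup.coe_one, map_one, one_smul])
        mul_smul := fun g h S => Subtype.ext (by
          show MulAut.conj ((g * h : P) : G) • (S : Subgroup G) = MulAut.conj (g : G) • MulAut.conj (h : G) • _
          rw [Subgroup.coe_mul, CfsgLib.conj_smul_mul]) }
    obtain ⟨⟨S, hST⟩, hSfix⟩ := hP.nonempty_fixed_point_of_prime_not_dvd_card T (by
      rw [Nat.card_coe_set_eq, hT, ncard_orbit hR (hex S₀ hS₀ hW₀)]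
      exact fun hd => hrp ((Nat.prime_dvd_prime_iff_eq Fact.out Fact.out).mp hd).symm)
    obtain ⟨hS, hW⟩ := hTmem S hST
    have hcardW := (regular hQN hRN hRQ hR hVp hcopQ hfix hQV hS hW (hex S hS hW)).1
    have hPS : P ≤ normalizer (S : Set G) := fun g hg =>
      mem_normalizer_of_conj_eq (congrArg Subtype.val (hSfix ⟨g, hg⟩))
    have hn : ∀ A : Subgroup G, A ≤ normalizer (V : Set G) → A ≤ normalizer (S : Set G) →
        A ≤ normalizer ((V ⊓ centralizer (S : Set G) : Subgroup G) : Set G) := fun A hAV hAS a ha =>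
      mem_normalizer_of_conj_eq (by
        rw [Subgroup.smul_inf, conj_eq_of_mem_normalizer (hAV ha)]
        congr 1
        refine conj_eq_of_mem_normalizer ?_
        exact CfsgLib.CharP.normalizer_le_normalizer_centralizer S (hAS ha))
    have h1 : Q ≤ centralizer ((V ⊓ centralizer (S : Set G) : Subgroup G) : Set G) :=
      hQP.trans (commutator_le_centralizer_of_prime (by rw [hcardW]; exact Fact.out)
        (hn Q hQN (hQQ S hS.le)) (hn P hPN hPS))
    refine hW (le_bot_iff.mp (hQV ▸ le_inf inf_le_left fun x hx a ha => ?_))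
    exact (h1 ha x hx).symm

omit hQV in
/-- No nonabelian `Q` of exponent `q` and class two with `R` fixed-point-free on `Q'`. -/
theorem no_nonabelian_config {Z : Subgroup G} [IsMulCommutative Z] (hZ : Z = ⁅Q, Q⁆)
    (hZc : Q ≤ centralizer (Z : Set G)) (hQe : ∀ a ∈ Q, a ^ q = 1) (hRZ : R ≤ normalizer (Z : Set G))
    (hZR : Z ⊓ centralizer (R : Set G) = ⊥) (hrp : r ≠ p) (hrq : r ≠ q) (hV : V ≠ ⊥)
    (hZV : V ⊓ centralizer (Z : Set G) = ⊥) : False := by
  classical
  have hZQ : Z ≤ Q := hZ ▸ Subgroup.commutator_le_self Q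
  have hcopZ : (Nat.card V).Coprime (Nat.card Z) := hcopQ.coprime_dvd_right (Subgroup.card_dvd_of_le hZQ)
  obtain ⟨S, hS, hW⟩ := exists_hyper (hZQ.trans hQN) (fun a ha => hQe a (hZQ ha)) hcopZ.symm hV hZV
  set W := V ⊓ centralizer (S : Set G) with hWdef
  have hQS : Q ≤ centralizer (S : Set G) := fun a ha b hb => hZc ha b (hS.le hb)
  have hQW : Q ≤ normalizer (W : Set G) := fun a ha => mem_normalizer_of_conj_eq (by
    rw [hWdef, Subgroup.smul_inf, conj_eq_of_mem_normalizer (hQN ha)]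
    congr 1
    exact conj_eq_of_mem_normalizer (Subgroup.le_normalizer (hQS ha)))
  have hWZ : W ⊓ centralizer (Z : Set G) = ⊥ :=
    le_bot_iff.mp ((inf_le_inf_right _ inf_le_left).trans hZV.le)
  by_cases hmov : R ≤ normalizer (S : Set G)
  swap
  · have hcard := (regular (hZQ.trans hQN) hRN hRZ hR hVp hcopZ hfix hZV hS hW hmov).1
    have h1 : Z ≤ centralizer (W : Set G) :=
      hZ.le.trans (commutator_le_centralizer_of_prime (by rw [hcard]; exact Fact.out) hQW hQW)
    exact hW (le_bot_iff.mp (hWZ ▸ le_inf le_rfl fun x hx a ha => (h1 ha x hx).symm))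
  -- `R` normalises `W`, and `Z R` is a Frobenius group on it
  have hRW : R ≤ normalizer (W : Set G) := fun a ha => mem_normalizer_of_conj_eq (by
    rw [hWdef, Subgroup.smul_inf, conj_eq_of_mem_normalizer (hRN ha)]
    congr 1
    exact conj_eq_of_mem_normalizer (CfsgLib.CharP.normalizer_le_normalizer_centralizer S (hmov ha)))
  have hfpf : ∀ e ∈ R, e ≠ 1 → ∀ u ∈ Z, e * u = u * e → u = 1 := by
    intro e he he1 u hu hcomm
    have hge : zpowers e = R := by
      have heo : orderOf e = r := ((Fact.out : r.Prime).eq_one_or_self_of_dvd _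
        (hR ▸ Subgroup.orderOf_dvd_natCard R he)).resolve_left (fun h => he1 (orderOf_eq_one_iff.mp h))
      exact Subgroup.eq_of_le_of_card_ge (Subgroup.zpowers_le.mpr he) (by rw [Nat.card_zpowers, heo, hR])
    refine Subgroup.mem_bot.mp (hZR ▸ (⟨hu, ?_⟩ : u ∈ Z ⊓ centralizer (R : Set G)))
    rw [← hge]
    intro y hy
    obtain ⟨k, rfl⟩ := Subgroup.mem_zpowers_iff.mp hy
    exact ((show Commute e u from hcomm).zpow_left k).eq
  have hrV : (Nat.card R).Coprime (Nat.card W) := by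
    obtain ⟨k, hk⟩ := (hVp.to_le (inf_le_left : W ≤ V)).exists_card_eq
    rw [hR, hk]
    exact ((Nat.coprime_primes (Fact.out : r.Prime) (Fact.out : p.Prime)).mpr hrp).pow_right k
  have hcop : (Nat.card ↥(Z ⊔ R)).Coprime (Nat.card W) := by
    have hdvd : Nat.card ↥(Z ⊔ R) ∣ Nat.card Z * Nat.card R := by
      rw [sup_comm, mul_comm]
      exact CfsgLib.TIHall.card_sup_dvd_of_le_normalizer hRZ
    exact (Nat.Coprime.mul_left (hcopZ.coprime_dvd_left (Subgroup.card_dvd_of_le inf_le_left)).symm hrV).coprime_dvd_left hdvd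
  haveI : Group.IsNilpotent Z := by infer_instance
  have hWs : Group.IsSolvable W := by
    haveI := (hVp.to_le (inf_le_left : W ≤ V)).isNilpotent
    infer_instance
  have hord := CfsgLib.FrobAction.order_formula Z R hRZ hfpf W
    (sup_le (hZQ.trans hQW) hRW) hcop hWs
  rw [hWZ, show W ⊓ centralizer ((Z ⊔ R : Subgroup G) : Set G) = ⊥ from
    le_bot_iff.mp ((inf_le_inf_left W (Subgroup.centralizer_le (fun _ hx => Subgroup.mem_sup_left hx))).trans hWZ.le),
    Subgroup.card_bot, one_pow, one_mul, mul_one, hR] at hord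
  obtain ⟨m₀, hm₀⟩ := (hVp.to_le (inf_le_left.trans inf_le_left :
    W ⊓ centralizer (R : Set G) ≤ V)).exists_card_eq
  have hWr : Nat.card W = p ^ r := by
    rw [hord, hm₀, ← pow_mul]
    congr 1
    have hle : p ^ m₀ ≤ p ^ 1 := by
      rw [← hm₀, pow_one]
      exact (Subgroup.card_le_of_le (inf_le_inf_right _ inf_le_left)).trans hfix
    have hm1 := (Nat.pow_le_pow_iff_right (Fact.out : p.Prime).one_lt).mp hle
    interval_cases m₀
    · rw [pow_zero] at hm₀
      rw [hm₀, one_pow] at hord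
      exact absurd (Subgroup.card_eq_one.mp hord) hW
    · rw [one_mul]
  -- a commutator outside `S`
  obtain ⟨b, hb, a, ha, hzS⟩ : ∃ b ∈ Q, ∃ a ∈ Q, ⁅b, a⁆ ∉ S := by
    by_contra h
    push_neg at h
    exact hS.ne (hZ.le.trans (Subgroup.commutator_le.mpr h))
  set z := ⁅b, a⁆ with hz
  have hzZ : z ∈ Z := hZ ▸ Subgroup.commutator_mem_commutator hb ha
  have hWz : ∀ x ∈ W, Commute z x → x = 1 := by
    intro x hx hcz
    refine Subgroup.mem_bot.mp (hWZ ▸ (⟨hx, fun y hy => ?_⟩ : x ∈ W ⊓ centralizer (Z : Set G)))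
    have h : S ⊔ zpowers z ≤ centralizer ({x} : Set G) := sup_le
      (fun s hs => Subgroup.mem_centralizer_singleton_iff.mpr (hx.2 s hs))
      (Subgroup.zpowers_le.mpr (Subgroup.mem_centralizer_singleton_iff.mpr hcz))
    exact Subgroup.mem_centralizer_singleton_iff.mp (h (hS.max z hzZ hzS hy))
  have haz : Commute a z := (hZc ha z hzZ).symm
  set y := fun i : Fin q => a * z ^ (i : ℕ) with hy
  have hyQ : ∀ i, y i ∈ Q := fun i => mul_mem ha (pow_mem (hZQ hzZ) _)
  have hyW : ∀ i, zpowers (y i) ≤ normalizer (W : Set G) := fun i => Subgroup.zpowers_le.mpr (hQW (hyQ i))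
  haveI : IsMulCommutative W := ⟨⟨fun u w => Subtype.ext
    (congrArg (fun t : V => (t : G)) (mul_comm (⟨u, u.2.1⟩ : V) ⟨w, w.2.1⟩))⟩⟩
  set C := fun i : Fin q => (centralizer ({y i} : Set G)).subgroupOf W with hC
  have hyC : ∀ i (w : W), w ∈ C i → (w : G) ∈ centralizer (zpowers (y i) : Set G) := by
    intro i w hw t ht
    obtain ⟨k, rfl⟩ := Subgroup.mem_zpowers_iff.mp ht
    exact ((show Commute (y i) (w : G) from
      (Subgroup.mem_centralizer_singleton_iff.mp (Subgroup.mem_subgroupOf.mp hw)).symm).zpow_left k).eq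
  have hyy : ∀ i j, zpowers (y i) ≤ centralizer (zpowers (y j) : Set G) := fun i j => by
    rw [Subgroup.zpowers_eq_closure (y j), Subgroup.centralizer_closure]
    refine Subgroup.zpowers_le.mpr (Subgroup.mem_centralizer_singleton_iff.mpr ?_)
    show Commute (a * z ^ (i : ℕ)) (a * z ^ (j : ℕ))
    exact ((Commute.refl a).mul_right (haz.pow_right _)).mul_left
      ((haz.symm.pow_left _).mul_right ((Commute.refl z).pow_pow _ _))
  -- `W` is the product of the `C i`
  let Φ : (∀ i, C i) →* W :=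
    { toFun := fun w => ∏ i, (w i : W)
      map_one' := Finset.prod_eq_one fun i _ => rfl
      map_mul' := fun u w => by simp [Finset.prod_mul_distrib] }
  have hone : ∀ i j : Fin q, i ≠ j → ∀ w : W, w ∈ C i → normMap W (zpowers (y j)) (hyW j) w = 1 := by
    intro i j hij w hw
    have h1 := normMap_fixed (hyW j) w
    have h2 := normMap_mem (hyW j) (hyy j i) (hyC i w hw)
    have hcz : Commute ((z : G) ^ (i : ℕ) * (z ^ (j : ℕ))⁻¹) (normMap W (zpowers (y j)) (hyW j) w : G) := by
      have e1 : Commute (y i) (normMap W (zpowers (y j)) (hyW j) w : G) := h2 _ (Subgroup.mem_zpowers _)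
      have e2 : Commute (y j) (normMap W (zpowers (y j)) (hyW j) w : G) := h1 _ (Subgroup.mem_zpowers _)
      have e3 := e2.inv_left.mul_left e1
      rw [show (y j)⁻¹ * y i = z ^ (i : ℕ) * (z ^ (j : ℕ))⁻¹ by
        show (a * z ^ (j : ℕ))⁻¹ * (a * z ^ (i : ℕ)) = _
        rw [mul_inv_rev, mul_assoc, inv_mul_cancel_left,
          ((Commute.refl z).pow_pow (j : ℕ) (i : ℕ)).inv_left.eq]] at e3
      exact e3
    refine Subtype.ext (hWz _ (SetLike.coe_mem _) ?_)
    -- a power of the element is `z`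
    have hzo : orderOf z = q := orderOf_eq_prime (hQe z (hZQ hzZ)) fun e => hzS (e ▸ one_mem S)
    set t := z ^ (i : ℕ) * (z ^ (j : ℕ))⁻¹ with ht
    have ht1 : t ≠ 1 := fun e => hij (Fin.ext (by
      have e' := mul_inv_eq_one.mp e
      rw [pow_eq_pow_iff_modEq, hzo, Nat.ModEq, Nat.mod_eq_of_lt i.2, Nat.mod_eq_of_lt j.2] at e'
      exact e'))
    have htz : zpowers t = zpowers z := Subgroup.eq_of_le_of_card_ge
      (Subgroup.zpowers_le.mpr (mul_mem (pow_mem (Subgroup.mem_zpowers z) _)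
        (inv_mem (pow_mem (Subgroup.mem_zpowers z) _))))
      (by rw [Nat.card_zpowers, Nat.card_zpowers, hzo, orderOf_eq_prime (hQe t (mul_mem (pow_mem (hZQ hzZ) _)
        (inv_mem (pow_mem (hZQ hzZ) _)))) ht1])
    obtain ⟨k, hk⟩ := Subgroup.mem_zpowers_iff.mp (htz.ge (Subgroup.mem_zpowers z))
    rw [← hk]
    exact hcz.zpow_left k
  have hinj : Function.Injective Φ := by
    rw [injective_iff_map_eq_one]
    intro w hw
    funext j
    have h := congrArg (normMap W (zpowers (y j)) (hyW j)) hw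
    rw [map_one] at h
    change normMap W (zpowers (y j)) (hyW j) (∏ i, (w i : W)) = 1 at h
    rw [map_prod, Finset.prod_eq_single j (fun i _ hi => hone i j hi _ (w i).2)
      (fun hj => absurd (Finset.mem_univ j) hj), normMap_of_fixed _ (hyC j _ (w j).2)] at h
    exact Subtype.ext (pow_eq_one_coprime h ((hcopQ.coprime_dvd_left (Subgroup.card_dvd_of_le inf_le_left)).coprime_dvd_right
      (Subgroup.card_dvd_of_le (Subgroup.zpowers_le.mpr (hyQ j)))))
  have hsurj : Function.Surjective Φ := by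
    rw [← MonoidHom.range_eq_top]
    refine top_le_iff.mp fun w _ => ?_
    set B := zpowers a ⊔ zpowers z with hB
    have haQ : a ^ q = 1 := hQe a ha
    have hBQ : B ≤ Q := sup_le (Subgroup.zpowers_le.mpr ha) (Subgroup.zpowers_le.mpr (hZQ hzZ))
    have hel : ∀ g ∈ B, ∃ i j : ℕ, g = a ^ i * z ^ j := by
      intro g hg
      obtain ⟨u, hu, v, hv, e⟩ := CfsgLib.mem_sup_of_le_normalizer (A := zpowers z) (W := zpowers a)
        ((Subgroup.zpowers_le.mpr (Subgroup.mem_centralizer_iff.mpr fun c hc => by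
          obtain ⟨k, rfl⟩ := Subgroup.mem_zpowers_iff.mp hc
          exact (haz.zpow_left k).eq)).trans (Subgroup.centralizer_le_normalizer _)) hg
      obtain ⟨i, rfl⟩ := mem_powers_iff_mem_zpowers.mpr hu
      obtain ⟨j, rfl⟩ := mem_powers_iff_mem_zpowers.mpr hv
      exact ⟨i, j, e.symm⟩
    haveI : IsMulCommutative B := ⟨⟨fun g h => Subtype.ext (by
      obtain ⟨i, j, e1⟩ := hel g g.2
      obtain ⟨i', j', e2⟩ := hel h h.2
      show (g : G) * h = h * g
      rw [e1, e2]
      exact ((((Commute.refl a).pow_pow i i').mul_right (haz.pow_pow i j'))).mul_left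
        (((haz.symm.pow_pow j i')).mul_right ((Commute.refl z).pow_pow j j')))⟩⟩
    have ha0 : a ∉ zpowers z := fun h => by
      obtain ⟨k, hk⟩ := Subgroup.mem_zpowers_iff.mp h
      refine hzS ?_
      rw [hz, ← hk, commutatorElement_eq_one_iff_mul_comm.mpr
        ((show Commute b z from (hZc hb z hzZ).symm).zpow_right k).eq]
      exact one_mem S
    have hBnc : ¬ IsCyclic B := by
      intro hc
      obtain ⟨g, hg⟩ := hc.exists_generator
      have hzo : orderOf z = q := orderOf_eq_prime (hQe z (hZQ hzZ)) fun e => hzS (e ▸ one_mem S)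
      have h1 : Nat.card B ≤ q := by
        rw [← orderOf_eq_card_of_forall_mem_zpowers hg]
        exact Nat.le_of_dvd (Fact.out : q.Prime).pos (orderOf_dvd_of_pow_eq_one (Subtype.ext (hQe g (hBQ g.2))))
      have e : zpowers z = B := Subgroup.eq_of_le_of_card_ge le_sup_right (by rwa [Nat.card_zpowers, hzo])
      exact ha0 (e.ge (Subgroup.mem_sup_left (Subgroup.mem_zpowers a)))
    have hgen := CfsgLib.coprime_generated_by_centralizers hBnc (hBQ.trans hQW)
      ((hcopQ.coprime_dvd_left (Subgroup.card_dvd_of_le inf_le_left)).coprime_dvd_right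
        (Subgroup.card_dvd_of_le hBQ)).symm
    have hle : W ≤ Φ.range.map W.subtype := by
      refine hgen.ge.trans (iSup₂_le fun g hg => ?_)
      rintro x ⟨hxW, hxg⟩
      obtain ⟨i, j, rfl⟩ := hel g hg.1
      have hcx : Commute (a ^ i * z ^ j) x := (Subgroup.mem_centralizer_singleton_iff.mp hxg).symm
      by_cases hi : q ∣ i
      · obtain ⟨c, rfl⟩ := hi
        rw [pow_mul, haQ, one_pow, one_mul] at hcx
        have hj : ¬ q ∣ j := fun hj => hg.2 (by
          obtain ⟨d, rfl⟩ := hj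
          rw [pow_mul, haQ, one_pow, one_mul, pow_mul, hQe z (hZQ hzZ), one_pow])
        have hx1 : x = 1 := by
          refine hWz x hxW ?_
          have hzo : orderOf z = q := orderOf_eq_prime (hQe z (hZQ hzZ)) fun e => hzS (e ▸ one_mem S)
          have hcop' : j.Coprime (orderOf z) :=
            hzo ▸ ((Fact.out : q.Prime).coprime_iff_not_dvd.mpr hj).symm
          obtain ⟨m, hm⟩ := exists_pow_eq_self_of_coprime hcop'
          rw [← hm]
          exact hcx.pow_left m
        rw [hx1]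
        exact one_mem _
      · have hcop' : i.Coprime q := ((Fact.out : q.Prime).coprime_iff_not_dvd.mpr hi).symm
        obtain ⟨m, -, hm⟩ := Nat.exists_mul_mod_eq_one_of_coprime hcop' (Fact.out : q.Prime).one_lt
        set n : Fin q := ⟨j * m % q, Nat.mod_lt _ (Fact.out : q.Prime).pos⟩ with hn
        have hyn : (a ^ i * z ^ j) ^ m = y n := by
          rw [((haz.pow_pow i j)).mul_pow, ← pow_mul, ← pow_mul]
          show _ = a * z ^ (j * m % q)
          congr 1
          · rw [← Nat.div_add_mod (i * m) q, pow_add, pow_mul, haQ, one_pow, one_mul, hm, pow_one]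
          · rw [← Nat.div_add_mod (j * m) q, pow_add, pow_mul, hQe z (hZQ hzZ), one_pow, one_mul,
              Nat.div_add_mod]
        refine ⟨⟨x, hxW⟩, ⟨Pi.mulSingle n ⟨⟨x, hxW⟩, ?_⟩, ?_⟩, rfl⟩
        · rw [Subgroup.mem_subgroupOf, Subgroup.mem_centralizer_singleton_iff, ← hyn]
          exact (hcx.pow_left m).eq.symm
        · show ∏ k, ((Pi.mulSingle n _ : ∀ k, C k) k : W) = _
          rw [Finset.prod_eq_single n (fun k _ hk => by rw [Pi.mulSingle_eq_of_ne hk]; rfl)
            (fun h => absurd (Finset.mem_univ n) h), Pi.mulSingle_eq_same]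
    obtain ⟨w', hw', e⟩ := hle w.2
    exact (show w' = w from Subtype.ext e) ▸ hw'
  have hbC : ∀ i : Fin q, Nat.card (C i) = Nat.card (C ⟨0, (Fact.out : q.Prime).pos⟩) := by
    have step : ∀ n : ℕ, Nat.card ↥((centralizer ({a * z ^ n} : Set G)).subgroupOf W) =
        Nat.card ↥((centralizer ({a * z ^ (n + 1)} : Set G)).subgroupOf W) := by
      intro n
      set φ := W.normalizerMonoidHom (Subgroup.inclusion hQW ⟨b, hb⟩)
      have hba : b * (a * z ^ n) * b⁻¹ = a * z ^ (n + 1) := by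
        have h1 : b * a * b⁻¹ = z * a := by
          rw [hz, commutatorElement_def]
          group
        have hbz : b * z ^ n * b⁻¹ = z ^ n := by
          rw [((show Commute b z from (hZc hb z hzZ).symm).pow_right n).eq, mul_inv_cancel_right]
        calc b * (a * z ^ n) * b⁻¹ = (b * a * b⁻¹) * (b * z ^ n * b⁻¹) := by group
          _ = z * a * z ^ n := by rw [h1, hbz]
          _ = a * z ^ (n + 1) := by rw [haz.symm.eq, mul_assoc, ← pow_succ']
      refine Nat.card_congr
        { toFun := fun w => ⟨φ w, ?_⟩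
          invFun := fun w => ⟨φ⁻¹ w, ?_⟩
          left_inv := fun w => Subtype.ext (φ.symm_apply_apply _)
          right_inv := fun w => Subtype.ext (φ.apply_symm_apply _) }
      · rw [Subgroup.mem_subgroupOf, Subgroup.mem_centralizer_singleton_iff, ← hba]
        show b * (w : W) * b⁻¹ * _ = _ * (b * (w : W) * b⁻¹)
        have hw := Subgroup.mem_centralizer_singleton_iff.mp (Subgroup.mem_subgroupOf.mp w.2)
        calc b * ((w : W) : G) * b⁻¹ * (b * (a * z ^ n) * b⁻¹) = b * (((w : W) : G) * (a * z ^ n)) * b⁻¹ := by group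
          _ = b * ((a * z ^ n) * ((w : W) : G)) * b⁻¹ := by rw [hw]
          _ = _ := by group
      · have hw := Subgroup.mem_centralizer_singleton_iff.mp (Subgroup.mem_subgroupOf.mp w.2)
        have e : b * ((φ⁻¹ (w : W) : W) : G) * b⁻¹ = ((w : W) : G) :=
          congrArg Subtype.val (φ.apply_symm_apply (w : W))
        have hw' : b * ((φ⁻¹ (w : W) : W) : G) * b⁻¹ * (b * (a * z ^ n) * b⁻¹) =
            b * (a * z ^ n) * b⁻¹ * (b * ((φ⁻¹ (w : W) : W) : G) * b⁻¹) := by
          rw [e, hba]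
          exact hw
        rw [Subgroup.mem_subgroupOf, Subgroup.mem_centralizer_singleton_iff]
        have h2 := congrArg (fun t => b⁻¹ * t * b) hw'
        simpa [mul_assoc] using h2
    rintro ⟨n, hn⟩
    induction n with
    | zero => rfl
    | succ n ih =>
      rw [← ih (by omega)]
      exact (step n).symm
  have hcount : Nat.card W = ∏ i, Nat.card (C i) := by
    rw [← Nat.card_pi]
    exact (Nat.card_congr (MulEquiv.ofBijective Φ ⟨hinj, hsurj⟩).toEquiv).symm
  rw [Finset.prod_congr rfl (fun i _ => hbC i), Finset.prod_const, Finset.card_univ, Fintype.card_fin] at hcount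
  obtain ⟨k, hk⟩ := ((hVp.to_le (inf_le_left : W ≤ V)).to_subgroup (C ⟨0, (Fact.out : q.Prime).pos⟩)).exists_card_eq
  rw [hk, hWr, ← pow_mul] at hcount
  have hrk := Nat.pow_right_injective (Fact.out : p.Prime).two_le hcount
  exact hrq ((Nat.prime_dvd_prime_iff_eq Fact.out Fact.out).mp (Dvd.intro_left k hrk.symm)).symm

end CfsgLib.SmallFixed
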