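import Cfsg.Agent.Lib.MinSimpleOdd.FittingRankThree
import Cfsg.Agent.Lib.OddLocal.SmallFixedPoints
import Cfsg.Agent.Lib.OddLocal.NarrowDerived
import Cfsg.Agent.Lib.Elementary
import Cfsg.Agent.Lib.NilpotentCommute
import Cfsg.Agent.Lib.PSeries
import Cfsg.Agent.Lib.PowerGraph
import Cfsg.Agent.S1445

/-!
`[H, R]` has `p`-length one when an element of prime order of `R` has a Z-group as centraliser in `H`.
-/

set_option autoImplicit false
set_option linter.unusedSectionVars false
set_option maxHeartbeats 1000000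

namespace CfsgLib.CommPLength

open Subgroup Cfsg CfsgLib.MinSimpleOdd
open scoped Pointwise commutatorElement

universe u
variable {G : Type u} [Group G] [Finite G] {p : ℕ} [Fact p.Prime]

/-- `p`-length one for a subgroup: a Sylow subgroup and `O_{p'}` generate a normal subgroup. -/
def PLen (p : ℕ) (H : Subgroup G) : Prop :=
  ∃ P : Subgroup G, P ≤ H ∧ IsPGroup p P ∧ ¬ p ∣ P.relIndex H ∧
    H ≤ normalizer ((P ⊔ coreP p H : Subgroup G) : Set G)

theorem pLengthLE_of_sup_normal {S N : Subgroup G} (hS : IsPGroup p S) (hSidx : ¬ p ∣ S.index) [N.Normal]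
    (hN : (Nat.card N).Coprime p) (hn : (S ⊔ N).Normal) : PLengthLE p 1 G := by
  haveI := hn
  have h1 : N ≤ PSeries.U p G 1 := PSeries.le_succ_of_even Even.zero fun x hx =>
    ⟨Nat.card N, hN, by
      rw [show x ^ Nat.card N = 1 from congrArg Subtype.val (pow_card_eq_one' (x := (⟨x, hx⟩ : N)))]
      exact one_mem _⟩
  have h2 : S ⊔ N ≤ PSeries.U p G 2 := PSeries.le_succ_of_odd (by decide) fun x hx => by
    obtain ⟨k, hk⟩ := hS.exists_card_eq
    refine ⟨k, h1 ((QuotientGroup.eq_one_iff _).mp ?_)⟩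
    obtain ⟨y, hy, w, hw, rfl⟩ := Subgroup.mem_sup_of_normal_right.mp hx
    rw [QuotientGroup.mk_pow, QuotientGroup.mk_mul, (QuotientGroup.eq_one_iff w).mpr hw, mul_one, ← hk,
      ← QuotientGroup.mk_pow,
      show y ^ Nat.card S = 1 from congrArg Subtype.val (pow_card_eq_one' (x := (⟨y, hy⟩ : S))),
      QuotientGroup.mk_one]
  have h3 : (⊤ : Subgroup G) ≤ PSeries.U p G 3 := PSeries.le_succ_of_even (by decide) fun x _ => by
    refine ⟨(S ⊔ N).index, (((Fact.out : p.Prime).coprime_iff_not_dvd.mpr fun hd => hSidx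
      (hd.trans (Subgroup.index_dvd_of_le le_sup_left))).symm), h2 ?_⟩
    exact (S ⊔ N).pow_index_mem x
  exact top_le_iff.mp h3

theorem pLengthLE_of_pLen {H : Subgroup G} (h : PLen p H) : PLengthLE p 1 H := by
  obtain ⟨P, hPH, hPp, hidx, hn⟩ := h
  haveI : (pPrimeCore p H).Normal := Subgroup.sSup_normal _ (fun _ h => h.1)
  refine pLengthLE_of_sup_normal (hPp.comap_subtype (K := H)) hidx (N := pPrimeCore p H)
    (CfsgLib.card_pPrimeCore_coprime p) ?_
  have e : P.subgroupOf H ⊔ pPrimeCore p H = (P ⊔ coreP p H).subgroupOf H := by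
    rw [Subgroup.subgroupOf_sup hPH (piCoreOf_le _ _)]
    congr 1
    show pPrimeCore p H = (coreP p H).subgroupOf H
    rw [← pPrimeCore_map]
    exact (Subgroup.comap_map_eq_self_of_injective H.subtype_injective _).symm
  change (P.subgroupOf H ⊔ pPrimeCore p H).Normal
  rw [e]
  exact (Subgroup.normal_subgroupOf_iff_le_normalizer (sup_le hPH (piCoreOf_le _ _))).mpr hn

theorem eq_map_comap {N : Subgroup G} [N.Normal] {H : Subgroup G} (hNH : N ≤ H) :
    (H.map (QuotientGroup.mk' N)).comap (QuotientGroup.mk' N) = H := by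
  rw [Subgroup.comap_map_eq, QuotientGroup.ker_mk', sup_eq_left.mpr hNH]

theorem card_comap {N : Subgroup G} [N.Normal] (K : Subgroup (G ⧸ N)) :
    Nat.card (K.comap (QuotientGroup.mk' N)) = Nat.card N * Nat.card K := by
  have h0 := Subgroup.relIndex_comap (⊥ : Subgroup (G ⧸ N)) (QuotientGroup.mk' N) (K.comap (QuotientGroup.mk' N))
  rw [MonoidHom.comap_bot, QuotientGroup.ker_mk', Subgroup.map_comap_eq_self_of_surjective
    (QuotientGroup.mk'_surjective _), Subgroup.relIndex_bot_left] at h0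
  have hle : N ≤ K.comap (QuotientGroup.mk' N) := fun x hx => by
    show QuotientGroup.mk' N x ∈ K
    rw [QuotientGroup.mk'_apply, (QuotientGroup.eq_one_iff x).mpr hx]
    exact one_mem K
  rw [← CfsgLib.card_mul_relIndex hle, h0]

theorem coreP_normal {H : Subgroup G} [H.Normal] : (coreP p H).Normal := by
  refine Subgroup.normalizer_eq_top_iff.mp (top_le_iff.mp (le_trans ?_ (normalizer_le_normalizer_piCoreOf _ _)))
  exact (Subgroup.normalizer_eq_top (H := H)).ge

theorem pLen_of_normal_sylow {H P : Subgroup G} (hPH : P ≤ H) (hP : IsPGroup p P) (hidx : ¬ p ∣ P.relIndex H)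
    (hn : H ≤ normalizer (P : Set G)) : PLen p H :=
  ⟨P, hPH, hP, hidx, fun h hh => mem_normalizer_of_conj_smul (by
    rw [Subgroup.smul_sup, conj_smul_eq_of_mem_normalizer (hn hh),
      conj_smul_eq_of_mem_normalizer (le_normalizer_piCoreOf_self _ H hh)])⟩

/-- A normal subgroup containing one Sylow subgroup contains all. -/
theorem sylow_le_of_normalized {H P P' T : Subgroup G} (hPH : P ≤ H) (hP : IsPGroup p P)
    (hidx : ¬ p ∣ P.relIndex H) (hPT : P ≤ T) (hT : H ≤ normalizer (T : Set G)) (hP'H : P' ≤ H)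
    (hP' : IsPGroup p P') : P' ≤ T := by
  obtain ⟨S, hS, -⟩ := sylow_of_relIndex hPH hP hidx
  obtain ⟨S', hS'⟩ := (hP'.comap_subtype (K := H)).exists_le_sylow
  obtain ⟨g, hg⟩ := MulAction.exists_smul_eq H S S'
  intro x hx
  have h1 : (⟨x, hP'H hx⟩ : H) ∈ (S' : Subgroup H) := hS' hx
  rw [← hg, Sylow.coe_subgroup_smul, CfsgLib.mem_conj_smul_iff] at h1
  exact (Subgroup.mem_normalizer_iff''.mp (hT g.2) x).mpr (hPT (hS ▸ ⟨_, h1, rfl⟩))

/-- Lifting through a normal `p'`-subgroup. -/
theorem pLen_of_quotient {H N : Subgroup G} [H.Normal] [N.Normal] (hNH : N ≤ H) (hN : (Nat.card N).Coprime p)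
    (h : PLen p (H.map (QuotientGroup.mk' N))) : PLen p H := by
  set f := QuotientGroup.mk' N with hf
  obtain ⟨S, hSH, hSp, hSidx, hSn⟩ := h
  obtain ⟨P, -, hPH, hPp, hPidx⟩ := exists_sylow_ge (R := ⊥) (bot_le : ⊥ ≤ H) (IsPGroup.of_bot (p := p))
  haveI : (H.map f).Normal := Subgroup.Normal.map inferInstance f (QuotientGroup.mk'_surjective _)
  haveI : (coreP p (H.map f)).Normal := coreP_normal
  have hC : (coreP p (H.map f)).comap f ≤ coreP p H := by
    refine le_piCoreOf ((Subgroup.comap_mono (piCoreOf_le _ _)).trans (eq_map_comap hNH).le) ?_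
      (pi_of_coprime ?_)
    · exact (Subgroup.normalizer_eq_top (H := (coreP p (H.map f)).comap f)).symm ▸ le_top
    · rw [card_comap]
      exact Nat.Coprime.mul_left hN (coprime_coreP p _)
  have hPle : P.map f ≤ S ⊔ coreP p (H.map f) :=
    sylow_le_of_normalized hSH hSp hSidx le_sup_left hSn (Subgroup.map_mono hPH) (hPp.map f)
  refine ⟨P, hPH, hPp, hPidx, fun h hh => ?_⟩
  -- `P C = preimage`
  have hcore : (coreP p H).map f ≤ coreP p (H.map f) :=
    le_piCoreOf (Subgroup.map_mono (piCoreOf_le _ _))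
      ((Subgroup.map_mono (le_normalizer_piCoreOf_self _ H)).trans (Subgroup.le_normalizer_map _))
      (pi_of_coprime ((coprime_coreP p H).coprime_dvd_left (Subgroup.card_map_dvd _ _)))
  have hPidx' : ¬ p ∣ (P.map f).relIndex (H.map f) := fun hd => hPidx (hd.trans (by
    rw [Subgroup.relIndex_map_map, QuotientGroup.ker_mk', sup_eq_left.mpr hNH]
    exact Subgroup.relIndex_dvd_of_le_left _ le_sup_left))
  have hSle : S ≤ P.map f ⊔ coreP p (H.map f) := by
    have hn' : H.map f ≤ normalizer ((P.map f ⊔ coreP p (H.map f) : Subgroup (G ⧸ N)) : Set (G ⧸ N)) := by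
      intro y hy
      have e : P.map f ⊔ coreP p (H.map f) = S ⊔ coreP p (H.map f) := by
        refine Subgroup.eq_of_le_of_card_ge (sup_le hPle le_sup_right) ?_
        refine Nat.le_of_dvd Nat.card_pos ?_
        have hcop : (Nat.card S).Coprime (Nat.card (coreP p (H.map f))) := by
          obtain ⟨k, hk⟩ := hSp.exists_card_eq
          exact hk ▸ (coprime_coreP p _).symm.pow_left k
        refine (CfsgLib.card_sup_dvd_mul S (coreP p (H.map f))).trans (hcop.mul_dvd_of_dvd_of_dvd ?_
          (Subgroup.card_dvd_of_le le_sup_right))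
        obtain ⟨U, hU, hUp, hUp', hUidx⟩ := exists_sylow_ge (R := P.map f) (le_sup_left :
          P.map f ≤ P.map f ⊔ coreP p (H.map f)) (hPp.map f)
        have hUH : U ≤ H.map f := hUp.trans (sup_le (Subgroup.map_mono hPH) (piCoreOf_le _ _))
        have e1 := eq_of_sylow hPidx' hU hUH hUp'
        obtain ⟨S₁, hS₁, -⟩ := sylow_of_relIndex hSH hSp hSidx
        obtain ⟨S₂, hS₂, -⟩ := sylow_of_relIndex (Subgroup.map_mono hPH) (hPp.map f) hPidx'
        rw [← hS₁, Subgroup.card_map_of_injective (Subgroup.subtype_injective _),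
          Nat.card_congr (S₁.equiv S₂).toEquiv,
          ← Subgroup.card_map_of_injective (K := (S₂ : Subgroup ↥(H.map f))) (Subgroup.subtype_injective _), hS₂]
        exact Subgroup.card_dvd_of_le le_sup_left
      rw [e]
      exact hSn hy
    exact sylow_le_of_normalized (Subgroup.map_mono hPH) (hPp.map f) hPidx' le_sup_left hn' hSH hSp
  have e : P ⊔ coreP p H = (S ⊔ coreP p (H.map f)).comap f := by
    refine le_antisymm ?_ ?_
    · rw [← Subgroup.map_le_iff_le_comap, Subgroup.map_sup]
      exact sup_le hPle (hcore.trans le_sup_right)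
    · intro x hx
      have hx' : f x ∈ (P ⊔ coreP p H).map f := by
        refine (show S ⊔ coreP p (H.map f) ≤ (P ⊔ coreP p H).map f from sup_le ?_ ?_) hx
        · refine hSle.trans (sup_le (Subgroup.map_mono le_sup_left) ?_)
          intro y hy
          obtain ⟨z, rfl⟩ := QuotientGroup.mk'_surjective N y
          exact Subgroup.mem_map_of_mem f (Subgroup.mem_sup_right (hC hy))
        · intro y hy
          obtain ⟨z, rfl⟩ := QuotientGroup.mk'_surjective N y
          exact Subgroup.mem_map_of_mem f (Subgroup.mem_sup_right (hC hy))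
      obtain ⟨z, hz, e⟩ := hx'
      rw [show x = z * (z⁻¹ * x) by group]
      refine mul_mem hz (Subgroup.mem_sup_right (hC ?_))
      show f (z⁻¹ * x) ∈ coreP p (H.map f)
      rw [map_mul, map_inv, e, inv_mul_cancel]
      exact one_mem _
  rw [e]
  refine mem_normalizer_of_conj_smul ?_
  have hfh := conj_smul_eq_of_mem_normalizer (hSn (Subgroup.mem_map_of_mem f hh))
  ext x
  rw [CfsgLib.mem_conj_smul_iff, Subgroup.mem_comap, Subgroup.mem_comap, map_mul, map_mul, map_inv]
  conv_rhs => rw [← hfh]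
  rw [CfsgLib.mem_conj_smul_iff]

theorem cyclic_of_zgroup {X C : Subgroup G} (hC : IsZGroup C) (hXC : X ≤ C) {q : ℕ} [Fact q.Prime]
    (hX : IsPGroup q X) : IsCyclic X := by
  haveI := hC
  haveI : IsZGroup X := IsZGroup.of_injective (Subgroup.inclusion_injective hXC)
  haveI := hX.isNilpotent
  infer_instance

/-- B–G 3.6. -/
theorem main : ∀ (n : ℕ) (G : Type u) [Group G] [Finite G] [Group.IsSolvable G], Nat.card G = n →
    Odd (Nat.card G) → ∀ (H R R₀ : Subgroup G), H.Normal → H ⊔ R = ⊤ → (Nat.card R).Coprime (Nat.card H) →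
    R₀ ≤ R → (Nat.card R₀).Prime → IsZGroup ↥(H ⊓ centralizer (R₀ : Set G)) → ⁅H, R⁆ = H → PLen p H := by
  intro n
  induction n using Nat.strong_induction_on with
  | h n ih =>
  intro G _ _ _ hn hodd H R R₀ hH hHR hcop hR₀ hr hZ hHR'
  haveI := hH
  have hpp : p.Prime := Fact.out
  -- the quotient by a nontrivial normal subgroup
  have quot : ∀ N : Subgroup G, N.Normal → N ≤ H → N ≠ ⊥ → ∀ (_ : N.Normal),
      PLen p (H.map (QuotientGroup.mk' N)) := by
    intro N hNn hNH hN1 _
    set f := QuotientGroup.mk' N with hf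
    have hker : f.ker = N := QuotientGroup.ker_mk' N
    have hlt : Nat.card (G ⧸ N) < n := by
      rw [← hn, Subgroup.card_eq_card_quotient_mul_card_subgroup N]
      exact lt_mul_of_one_lt_right Nat.card_pos (Subgroup.one_lt_card_iff_ne_bot N |>.mpr hN1)
    have hR₀H : R₀ ⊓ N = ⊥ := disjoint_iff.mp (Subgroup.disjoint_of_coprime_natCard
      ((hcop.coprime_dvd_left (Subgroup.card_dvd_of_le hR₀)).coprime_dvd_right (Subgroup.card_dvd_of_le hNH)))
    have hcard : Nat.card (R₀.map f) = Nat.card R₀ := by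
      refine (Nat.card_congr (Equiv.ofBijective (fun t : R₀ => (⟨f t, Subgroup.mem_map_of_mem f t.2⟩ : R₀.map f))
        ⟨fun a b e => ?_, fun ⟨y, t, ht, e⟩ => ⟨⟨t, ht⟩, Subtype.ext e⟩⟩)).symm
      have e' : f (a : G) = f b := congrArg Subtype.val e
      have : (a : G)⁻¹ * b ∈ R₀ ⊓ N := ⟨R₀.mul_mem (R₀.inv_mem a.2) b.2, by
        show (a : G)⁻¹ * b ∈ N
        rw [← hker, MonoidHom.mem_ker, map_mul, map_inv, e', inv_mul_cancel]⟩
      rw [hR₀H, Subgroup.mem_bot] at this
      exact Subtype.ext (inv_mul_eq_one.mp this)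
    have hHR₀ : (Nat.card R₀).Coprime (Nat.card H) := hcop.coprime_dvd_left (Subgroup.card_dvd_of_le hR₀)
    refine ih _ hlt (G ⧸ N) rfl (hodd.of_dvd_nat (Subgroup.card_quotient_dvd_card N)) (H.map f) (R.map f) (R₀.map f)
      (Subgroup.Normal.map inferInstance f (QuotientGroup.mk'_surjective N))
      (by rw [← Subgroup.map_sup, hHR, Subgroup.map_top_of_surjective f (QuotientGroup.mk'_surjective N)])
      ((hcop.coprime_dvd_left (Subgroup.card_map_dvd _ _)).coprime_dvd_right (Subgroup.card_map_dvd _ _))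
      (Subgroup.map_mono hR₀) (hcard.symm ▸ hr) ?_
      (by rw [← Subgroup.map_commutator, hHR'])
    -- fixed points in the quotient come from fixed points
    have hle : H.map f ⊓ centralizer ((R₀.map f : Subgroup (G ⧸ N)) : Set (G ⧸ N)) ≤
        (H ⊓ centralizer (R₀ : Set G)).map f := by
      rintro y ⟨⟨k, hk, rfl⟩, hy⟩
      have hfix : ∀ a ∈ R₀, a * k * a⁻¹ * k⁻¹ ∈ N := fun a ha => by
        rw [← hker, MonoidHom.mem_ker, map_mul, map_mul, map_mul, map_inv, map_inv,
          hy (f a) (Subgroup.mem_map_of_mem f ha)]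
        group
      obtain ⟨c, hc, hkc⟩ := CfsgLib.coprime_fixed_quotient
        ((le_top : R₀ ≤ ⊤).trans (Subgroup.normalizer_eq_top (H := H)).ge) hHR₀ (Or.inr inferInstance) hNH
        ((le_top : H ≤ ⊤).trans (Subgroup.normalizer_eq_top (H := N)).ge)
        ((le_top : R₀ ≤ ⊤).trans (Subgroup.normalizer_eq_top (H := N)).ge) hk hfix
      refine ⟨c, hc, ?_⟩
      rw [← hker, MonoidHom.mem_ker, map_mul, map_inv, inv_mul_eq_one] at hkc
      exact hkc.symm
    haveI := hZ
    haveI : IsZGroup ↥((H ⊓ centralizer (R₀ : Set G)).map f) :=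
      IsZGroup.of_surjective (f.subgroupMap_surjective _)
    exact IsZGroup.of_injective (Subgroup.inclusion_injective hle)
  -- no normal `p'`-subgroup
  by_cases hcore : coreP p H = ⊥
  swap
  · haveI : (coreP p H).Normal := coreP_normal
    exact pLen_of_quotient (piCoreOf_le _ _) (coprime_coreP p H)
      (quot _ inferInstance (piCoreOf_le _ _) hcore inferInstance)
  by_cases hH1 : H = ⊥
  · subst hH1
    exact pLen_of_normal_sylow le_rfl (IsPGroup.of_bot) (by
      rw [Subgroup.relIndex_self]; exact hpp.not_dvd_one)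
      (fun x _ => by rw [Subgroup.normalizer_eq_top]; exact Subgroup.mem_top x)
  have hp'_bot : ∀ N : Subgroup G, N ≤ H → H ≤ normalizer (N : Set G) → (Nat.card N).Coprime p → N = ⊥ :=
    fun N hN hn hc => le_bot_iff.mp (hcore ▸ le_piCoreOf hN hn (pi_of_coprime hc))
  -- a minimal normal subgroup
  obtain ⟨V, ⟨hVn, hVH, hV1⟩, hVmin⟩ := (Set.toFinite {V : Subgroup G | V.Normal ∧ V ≤ H ∧ V ≠ ⊥}).exists_minimal
    ⟨H, hH, le_rfl, hH1⟩
  haveI := hVn
  have hmin : ∀ M : Subgroup G, M.Normal → M ≤ V → M = ⊥ ∨ M = V := fun M hM hle =>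
    or_iff_not_imp_left.mpr fun h => le_antisymm hle (hVmin ⟨hM, hle.trans hVH, h⟩ hle)
  obtain ⟨hVc, s, hs, hVe⟩ := CfsgLib.minimal_normal_elementary hV1 inferInstance hmin
  haveI := Fact.mk hs
  haveI := hVc
  have hVs : IsPGroup s V := fun b => ⟨1, Subtype.ext (by simpa using hVe b b.2)⟩
  have hsp : s = p := by
    by_contra hsp
    obtain ⟨k, hk⟩ := hVs.exists_card_eq
    exact hV1 (hp'_bot V hVH ((le_top : H ≤ ⊤).trans (Subgroup.normalizer_eq_top (H := V)).ge)
      (hk ▸ ((Nat.coprime_primes hs hpp).mpr hsp).pow_left k))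
  subst hsp
  set f := QuotientGroup.mk' V with hf
  obtain ⟨S, hSH, hSp, hSidx, hSn⟩ := quot V hVn hVH hV1 inferInstance
  haveI : (H.map f).Normal := Subgroup.Normal.map inferInstance f (QuotientGroup.mk'_surjective _)
  haveI hCn : (coreP s (H.map f)).Normal := coreP_normal
  set K₀ := (coreP s (H.map f)).comap f with hK₀
  haveI : K₀.Normal := Subgroup.normal_comap f
  have hK₀H : K₀ ≤ H := (Subgroup.comap_mono (piCoreOf_le _ _)).trans (eq_map_comap hVH).le
  have hVK₀ : V ≤ K₀ := fun x hx => by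
    show f x ∈ coreP s (H.map f)
    rw [hf, QuotientGroup.mk'_apply, (QuotientGroup.eq_one_iff x).mpr hx]
    exact one_mem _
  set π := primesNotDvd s with hπ
  have hcopK₀ : (Nat.card R).Coprime (Nat.card K₀) := hcop.coprime_dvd_right (Subgroup.card_dvd_of_le hK₀H)
  have hRn : ∀ N : Subgroup G, N.Normal → ∀ A : Subgroup G, A ≤ normalizer (N : Set G) := fun N hN A =>
    haveI := hN
    (le_top : A ≤ ⊤).trans (Subgroup.normalizer_eq_top (H := N)).ge
  obtain ⟨K, hK, hRK⟩ := CfsgLib.exists_invariant_hall π (hRn K₀ inferInstance R) hcopK₀ inferInstance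
  have hKp : (Nat.card K).Coprime s := by
    refine Nat.coprime_of_dvd fun r hr h1 h2 => ?_
    rw [(Nat.prime_dvd_prime_iff_eq hr hpp).mp h2] at h1
    exact (hK.2.1 s hpp h1).2 dvd_rfl
  have hK₀eq : K₀ = V ⊔ K := by
    refine le_antisymm ?_ (sup_le hVK₀ hK.1)
    refine Subgroup.relIndex_eq_one.mp (Nat.eq_one_iff_not_exists_prime_dvd.mpr fun r hr hd => ?_)
    by_cases hrs : r = s
    · have h1 : (V ⊔ K).relIndex K₀ ∣ V.relIndex K₀ :=
        Dvd.intro_left _ (Subgroup.relIndex_mul_relIndex V (V ⊔ K) K₀ le_sup_left (sup_le hVK₀ hK.1))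
      have h2 : V.relIndex K₀ = Nat.card (coreP s (H.map f)) := by
        have e := card_comap (N := V) (coreP s (H.map f))
        rw [← hK₀, ← CfsgLib.card_mul_relIndex hVK₀] at e
        exact Nat.eq_of_mul_eq_mul_left Nat.card_pos e
      exact hpp.ne_one (Nat.eq_one_of_dvd_coprimes (coprime_coreP s (H.map f)) (h2 ▸ (hrs ▸ hd).trans h1) dvd_rfl)
    · exact hK.2.2 r hr ⟨hr, fun h => hrs ((Nat.prime_dvd_prime_iff_eq hr hpp).mp h)⟩
        (hd.trans (Dvd.intro_left _ (Subgroup.relIndex_mul_relIndex K (V ⊔ K) K₀ le_sup_right (sup_le hVK₀ hK.1))))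
  set X := H ⊓ normalizer (K : Set G) with hX
  have hXK : X ≤ normalizer (K : Set G) := inf_le_right
  have hKX : K ≤ X := le_inf (hK.1.trans hK₀H) Subgroup.le_normalizer
  have hRX : R ≤ normalizer (X : Set G) := fun a ha => mem_normalizer_of_conj_smul (by
    rw [hX, Subgroup.smul_inf, conj_smul_eq_of_mem_normalizer (hRn H hH R ha)]
    congr 1
    exact conj_smul_eq_of_mem_normalizer (Subgroup.le_normalizer (hRK ha)))
  -- Frattini
  have hfrat : H ≤ V ⊔ X := by
    intro g hg
    have hgK : IsPiHallOf π (MulAut.conj g • K) K₀ := by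
      have h0 := CfsgLib.isPiHallOf_conj_smul hK (g := g)
        (hRn K₀ inferInstance H hg)
      exact h0
    obtain ⟨c, hc, e⟩ := CfsgLib.invariant_hall_conj (A := (⊥ : Subgroup G)) bot_le
      (by rw [Subgroup.card_bot]; exact Nat.coprime_one_left _) inferInstance hK bot_le hgK bot_le
    have hc' : c ∈ V ⊔ K := hK₀eq ▸ hc.1
    obtain ⟨v, hv, k, hk, rfl⟩ := CfsgLib.mem_sup_of_le_normalizer (hRn V hVn K) hc'
    have hn' : v⁻¹ * g ∈ normalizer (K : Set G) := mem_normalizer_of_conj_smul (by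
      rw [← CfsgLib.conj_smul_mul, ← e, CfsgLib.conj_smul_mul, inv_mul_cancel_left]
      exact conj_smul_eq_of_mem_normalizer (Subgroup.le_normalizer hk))
    rw [show g = v * (v⁻¹ * g) by group]
    exact mul_mem (Subgroup.mem_sup_left hv) (Subgroup.mem_sup_right ⟨H.mul_mem (H.inv_mem (hVH hv)) hg, hn'⟩)
  obtain ⟨P₁', hP₁'⟩ := CfsgLib.coprime_exists_invariant_sylow hRX
    (hcop.coprime_dvd_right (Subgroup.card_dvd_of_le inf_le_left)) (Or.inr inferInstance) s
  set P₁ := (P₁' : Subgroup X).map X.subtype with hP₁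
  have hP₁X : P₁ ≤ X := Subgroup.map_subtype_le _
  have hP₁p : IsPGroup s P₁ := P₁'.2.map _
  set P := V ⊔ P₁ with hP
  have hPp : IsPGroup s P := hVs.to_sup_of_normal_left' hP₁p (hRn V hVn P₁)
  have hPH : P ≤ H := sup_le hVH (hP₁X.trans inf_le_left)
  have hPidx : ¬ s ∣ P.relIndex H := by
    intro hd
    have hVX : V ⊔ X = H := le_antisymm (sup_le hVH inf_le_left) hfrat
    have h1 : P.relIndex H ∣ P₁.relIndex X := by
      rw [← hVX]
      have hle : V ⊔ X ≤ normalizer (V : Set G) := hRn V hVn _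
      have hn := (Subgroup.normal_subgroupOf_iff_le_normalizer (le_sup_left : V ≤ V ⊔ X)).mpr hle
      have h2 : Nat.card ↥(V ⊔ X) ∣ Nat.card V * Nat.card X := by
        rw [sup_comm, mul_comm]
        exact CfsgLib.card_sup_dvd_mul X V
      have h3 : P.relIndex (V ⊔ X) ∣ P₁.relIndex (V ⊔ X) :=
        Subgroup.relIndex_dvd_of_le_left _ le_sup_right
      have h4 : (V ⊔ P₁).relIndex (V ⊔ X) * Nat.card ↥(V ⊔ P₁) = Nat.card ↥(V ⊔ X) := by
        rw [mul_comm]; exact CfsgLib.card_mul_relIndex (sup_le le_sup_left (hP₁X.trans le_sup_right))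
      have h5 := CfsgLib.card_mul_relIndex hP₁X
      have h6 := CfsgLib.Products.card_inf_mul_relIndex V P₁
      have h7 := CfsgLib.card_mul_relIndex (le_sup_left : V ≤ V ⊔ P₁)
      have h8 := CfsgLib.Products.card_inf_mul_relIndex V X
      have h9 := CfsgLib.card_mul_relIndex (le_sup_left : V ≤ V ⊔ X)
      have h10 : V.relIndex (V ⊔ P₁) = V.relIndex P₁ := by rw [sup_comm, Subgroup.relIndex_sup_right]
      have h11 : V.relIndex (V ⊔ X) = V.relIndex X := by rw [sup_comm, Subgroup.relIndex_sup_right]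
      have h12 := Subgroup.relIndex_mul_relIndex (V ⊓ P₁) (V ⊓ X) X (inf_le_inf_left V hP₁X) inf_le_right
      have h13 := Subgroup.relIndex_mul_relIndex (V ⊓ P₁) P₁ X inf_le_right hP₁X
      rw [Subgroup.inf_relIndex_right] at h12 h13
      rw [hP]
      have e : Nat.card ↥(V ⊔ P₁) * ((V ⊔ P₁).relIndex (V ⊔ X) * (V ⊓ P₁).relIndex (V ⊓ X)) =
          Nat.card ↥(V ⊔ P₁) * P₁.relIndex X := by
        rw [← mul_assoc, mul_comm _ ((V ⊔ P₁).relIndex (V ⊔ X)), h4, ← h9, ← h7, h10, h11, mul_assoc, mul_assoc]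
        congr 1
        rw [mul_comm, h12, ← h13]
      exact Dvd.intro _ (Nat.eq_of_mul_eq_mul_left Nat.card_pos e)
    refine not_dvd_of_sylow X P₁' (hd.trans h1)
  -- `P` is not normal, so `K` is not centralised by `P₁`
  by_cases hKP : P₁ ≤ centralizer (K : Set G)
  · refine pLen_of_normal_sylow hPH hPp hPidx ?_
    have hKP' : K ≤ normalizer (P : Set G) := fun k hk => mem_normalizer_of_conj_smul (by
      rw [hP, Subgroup.smul_sup, conj_smul_eq_of_mem_normalizer (hRn V hVn K hk)]
      congr 1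
      exact conj_smul_eq_of_mem_normalizer (Subgroup.centralizer_le_normalizer _ fun y hy =>
        (hKP hy k hk).symm))
    set T := P ⊔ K with hT
    have hTP : T ≤ normalizer (P : Set G) := sup_le Subgroup.le_normalizer hKP'
    have hPleS : P.map f ≤ S ⊔ coreP s (H.map f) :=
      sylow_le_of_normalized hSH hSp hSidx le_sup_left hSn (Subgroup.map_mono hPH) (hPp.map f)
    have hPidx' : ¬ s ∣ (P.map f).relIndex (H.map f) := fun hd => hPidx (hd.trans (by
      rw [Subgroup.relIndex_map_map, QuotientGroup.ker_mk', sup_eq_left.mpr hVH]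
      exact Subgroup.relIndex_dvd_of_le_left _ le_sup_left))
    have hTeq : (S ⊔ coreP s (H.map f)).comap f = T := by
      symm
      refine le_antisymm ?_ ?_
      · rw [← Subgroup.map_le_iff_le_comap, hT, Subgroup.map_sup]
        exact sup_le hPleS ((Subgroup.map_le_iff_le_comap.mpr hK.1).trans le_sup_right)
      · intro x hx
        have hTVK : V ⊔ K ≤ T := sup_le_sup_right le_sup_left K
        have hcard : Nat.card ↥((S ⊔ coreP s (H.map f)).comap f) ∣ Nat.card T := by
          rw [card_comap]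
          have hVT : V ≤ T := le_sup_left.trans le_sup_left
          have e : Nat.card T = Nat.card V * Nat.card (T.map f) := by
            rw [← card_comap, eq_map_comap hVT]
          rw [e]
          refine Nat.mul_dvd_mul_left _ ?_
          have hcop : (Nat.card S).Coprime (Nat.card (coreP s (H.map f))) := by
            obtain ⟨k, hk⟩ := hSp.exists_card_eq
            exact hk ▸ (coprime_coreP s _).symm.pow_left k
          refine (CfsgLib.card_sup_dvd_mul S (coreP s (H.map f))).trans (hcop.mul_dvd_of_dvd_of_dvd ?_ ?_)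
          · obtain ⟨S₁, hS₁, -⟩ := sylow_of_relIndex hSH hSp hSidx
            obtain ⟨S₂, hS₂, -⟩ := sylow_of_relIndex (Subgroup.map_mono hPH) (hPp.map f) hPidx'
            rw [← hS₁, Subgroup.card_map_of_injective (Subgroup.subtype_injective _),
              Nat.card_congr (S₁.equiv S₂).toEquiv,
              ← Subgroup.card_map_of_injective (K := (S₂ : Subgroup ↥(H.map f))) (Subgroup.subtype_injective _),
              hS₂]
            exact Subgroup.card_dvd_of_le (Subgroup.map_mono le_sup_left)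
          · refine Subgroup.card_dvd_of_le ?_
            rw [← Subgroup.map_comap_eq_self_of_surjective (QuotientGroup.mk'_surjective V) (coreP s (H.map f))]
            exact Subgroup.map_mono (hK₀eq.le.trans hTVK)
        have hle : T ≤ (S ⊔ coreP s (H.map f)).comap f := by
          rw [← Subgroup.map_le_iff_le_comap, hT, Subgroup.map_sup]
          exact sup_le hPleS ((Subgroup.map_le_iff_le_comap.mpr hK.1).trans le_sup_right)
        exact (Subgroup.eq_of_le_of_card_ge hle (Nat.le_of_dvd Nat.card_pos hcard)).ge hx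
    intro g hg
    have hgT : MulAut.conj g • T = T := by
      rw [← hTeq]
      ext x
      rw [CfsgLib.mem_conj_smul_iff, Subgroup.mem_comap, Subgroup.mem_comap, map_mul, map_mul, map_inv]
      conv_rhs => rw [← conj_smul_eq_of_mem_normalizer (hSn (Subgroup.mem_map_of_mem f hg))]
      rw [CfsgLib.mem_conj_smul_iff]
    refine mem_normalizer_of_conj_smul ?_
    have hgP : MulAut.conj g • P ≤ T := hgT ▸ conj_smul_mono le_sup_left g
    have hgPp : IsPGroup s ↥(MulAut.conj g • P : Subgroup G) := by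
      obtain ⟨k, hk⟩ := hPp.exists_card_eq
      exact IsPGroup.of_card (n := k) (by rw [CfsgLib.card_conj_smul, hk])
    have hU : MulAut.conj g • P ⊔ P = P := eq_of_sylow hPidx le_sup_right
      (sup_le (hgP.trans (sup_le hPH (hK.1.trans hK₀H))) hPH)
      (hgPp.to_sup_of_normal_right' hPp (hgP.trans hTP))
    exact Subgroup.eq_of_le_of_card_ge (sup_eq_right.mp hU) (by rw [CfsgLib.card_conj_smul])
  -- facts about the complement
  have hK1 : K ≠ ⊥ := fun e => hKP (fun a _ b hb => by
    rw [e, SetLike.mem_coe, Subgroup.mem_bot] at hb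
    rw [hb, one_mul, mul_one])
  have hnormal : ∀ N : Subgroup G, N ≤ H → V ≤ normalizer (N : Set G) → X ≤ normalizer (N : Set G) →
      R ≤ normalizer (N : Set G) → N.Normal := fun N _ h1 h2 h3 => by
    refine Subgroup.normalizer_eq_top_iff.mp (top_le_iff.mp ?_)
    rw [← hHR]
    exact sup_le (hfrat.trans (sup_le h1 h2)) h3
  have hVV : V ≤ centralizer (V : Set G) := Subgroup.le_centralizer V
  have hCVK : V ⊓ centralizer (K : Set G) = ⊥ := by
    have hn : ∀ A : Subgroup G, A ≤ normalizer (K : Set G) →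
        A ≤ normalizer ((V ⊓ centralizer (K : Set G) : Subgroup G) : Set G) := fun A hA a ha =>
      mem_normalizer_of_conj_smul (by
        rw [Subgroup.smul_inf, conj_smul_eq_of_mem_normalizer (hRn V hVn A ha)]
        congr 1
        exact conj_smul_eq_of_mem_normalizer (CfsgLib.CharP.normalizer_le_normalizer_centralizer K (hA ha)))
    have hN := hnormal _ (inf_le_left.trans hVH) ((hVV.trans (centralizer_anti inf_le_left)).trans
      (Subgroup.centralizer_le_normalizer _)) (hn X hXK) (hn R hRK)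
    rcases hmin _ hN inf_le_left with e | e
    · exact e
    · exfalso
      refine hK1 (hp'_bot K (hK.1.trans hK₀H) ?_ hKp)
      refine hfrat.trans (sup_le ?_ hXK)
      exact (inf_eq_left.mp e).trans (Subgroup.centralizer_le_normalizer _)
  have hKV : K ⊓ centralizer (V : Set G) = ⊥ := by
    have hn : ∀ A : Subgroup G, A ≤ normalizer (K : Set G) →
        A ≤ normalizer ((K ⊓ centralizer (V : Set G) : Subgroup G) : Set G) := fun A hA a ha =>
      mem_normalizer_of_conj_smul (by
        rw [Subgroup.smul_inf, conj_smul_eq_of_mem_normalizer (hA ha)]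
        congr 1
        exact conj_smul_eq_of_mem_normalizer
          (CfsgLib.CharP.normalizer_le_normalizer_centralizer V (hRn V hVn A ha)))
    refine hp'_bot _ (inf_le_left.trans (hK.1.trans hK₀H)) (hfrat.trans (sup_le ?_ (hn X hXK)))
      (hKp.coprime_dvd_left (Subgroup.card_dvd_of_le inf_le_left))
    exact fun v hv => Subgroup.centralizer_le_normalizer _ fun k hk => (hk.2 v hv).symm
  have hKVd : K ⊓ V = ⊥ := le_bot_iff.mp ((inf_le_inf_left K hVV).trans hKV.le)
  have hVX : V ⊓ X = ⊥ := by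
    rw [eq_bot_iff]
    rintro v ⟨hv, hvX⟩
    refine hCVK ▸ (⟨hv, fun k hk => ?_⟩ : v ∈ V ⊓ centralizer (K : Set G))
    have h1 : ⁅k, v⁆ ∈ K ⊓ V := by
      refine ⟨?_, ?_⟩
      · rw [commutatorElement_def, mul_assoc, mul_assoc, ← mul_assoc v]
        exact K.mul_mem hk ((Subgroup.mem_normalizer_iff.mp (hXK hvX) _).mp (K.inv_mem hk))
      · rw [commutatorElement_def]
        exact V.mul_mem (hVn.conj_mem v hv k) (V.inv_mem hv)
    rw [hKVd, Subgroup.mem_bot, commutatorElement_eq_one_iff_mul_comm] at h1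
    exact h1
  have hXR : X ≤ ⁅X, R⁆ := by
    set D := ⁅X, R⁆ with hD
    have hDX : D ≤ X := CfsgLib.commutator_le_of_le_normalizer hRX
    have hVD : V ≤ normalizer ((V ⊔ D : Subgroup G) : Set G) :=
      (le_sup_left : V ≤ V ⊔ D).trans Subgroup.le_normalizer
    have hRD : R ≤ normalizer ((V ⊔ D : Subgroup G) : Set G) := fun a ha => mem_normalizer_of_conj_smul (by
      rw [Subgroup.smul_sup, conj_smul_eq_of_mem_normalizer (hRn V hVn R ha),
        conj_smul_eq_of_mem_normalizer (CfsgLib.right_le_normalizer_commutator R X ha)])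
    have hle : ⁅H, R⁆ ≤ V ⊔ D := by
      rw [Subgroup.commutator_le]
      intro g hg a ha
      obtain ⟨v, hv, x, hx, rfl⟩ := CfsgLib.mem_sup_of_le_normalizer (hRn V hVn X) (hfrat hg)
      rw [show ⁅v * x, a⁆ = v * ⁅x, a⁆ * (a * v⁻¹ * a⁻¹) by
        rw [commutatorElement_def, commutatorElement_def]; group]
      exact mul_mem (mul_mem (Subgroup.mem_sup_left hv)
        (Subgroup.mem_sup_right (Subgroup.commutator_mem_commutator hx ha)))
        (Subgroup.mem_sup_left (hVn.conj_mem _ (inv_mem hv) a))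
    rw [hHR'] at hle
    intro x hx
    obtain ⟨v, hv, d, hd, e⟩ := CfsgLib.mem_sup_of_le_normalizer (hRn V hVn D) (hle hx.1)
    have hvX : v ∈ V ⊓ X := ⟨hv, by rw [show v = x * d⁻¹ by rw [← e, mul_inv_cancel_right]]
                                    exact X.mul_mem hx (X.inv_mem (hDX hd))⟩
    rw [hVX, Subgroup.mem_bot] at hvX
    rw [← e, hvX, one_mul]
    exact hd
  exfalso
  set r := Nat.card R₀ with hrdef
  haveI := Fact.mk hr
  have hcop₀ : r.Coprime (Nat.card H) := hcop.coprime_dvd_left (Subgroup.card_dvd_of_le hR₀)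
  have hr2 : r ≠ 2 := fun e => hodd.not_two_dvd_nat (e ▸ Subgroup.card_subgroup_dvd_card R₀)
  have hs2 : s ≠ 2 := p_ne_two hodd hVs hV1
  have hrs : r ≠ s := by
    intro e
    obtain ⟨k, hk⟩ := hVs.exists_card_eq
    have hk0 : k ≠ 0 := fun h => hV1 (Subgroup.card_eq_one.mp (by rw [hk, h, pow_zero]))
    refine hr.ne_one (Nat.eq_one_of_dvd_coprimes hcop₀ dvd_rfl ?_)
    rw [e]
    exact (hk ▸ dvd_pow_self s hk0).trans (Subgroup.card_dvd_of_le hVH)
  set C := H ⊓ centralizer (R₀ : Set G) with hC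
  have hR₀K : R₀ ≤ normalizer (K : Set G) := hR₀.trans hRK
  have hKH : K ≤ H := hK.1.trans hK₀H
  by_cases hfix : V ⊓ centralizer (R₀ : Set G) = ⊥
  · -- `R₀` centralises `K`
    have hcent : ∀ q : ℕ, q.Prime → q ∣ Nat.card K → ∀ Q ∈ invSubgroups ⊤ R₀ {q}, Q ≤ K →
        Q ≤ centralizer (R₀ : Set G) := by
      intro q hq _ Q hQ hQK
      haveI := Fact.mk hq
      have hQV : Q ⊓ centralizer (V : Set G) = ⊥ := le_bot_iff.mp ((inf_le_inf_right _ hQK).trans hKV.le)
      set W := (V ⊔ Q) ⊔ R₀ with hW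
      haveI : Group.IsSolvable W := inferInstance
      have hRQ : R₀ ≤ normalizer ((V ⊔ Q : Subgroup G) : Set G) := fun a ha => mem_normalizer_of_conj_smul (by
        rw [Subgroup.smul_sup, conj_smul_eq_of_mem_normalizer (hRn V hVn R₀ ha),
          conj_smul_eq_of_mem_normalizer (hQ.2.2 ha)])
      set K' := (V ⊔ Q).subgroupOf W with hK'
      set R' := R₀.subgroupOf W with hR'
      haveI : K'.Normal := (Subgroup.normal_subgroupOf_iff_le_normalizer le_sup_left).mpr
        (sup_le Subgroup.le_normalizer hRQ)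
      have hKR' : K' ⊔ R' = ⊤ := by
        rw [hK', hR', ← Subgroup.subgroupOf_sup le_sup_left le_sup_right, Subgroup.subgroupOf_self]
      have hcop' : (Nat.card K').Coprime (Nat.card R') := by
        rw [Nat.card_congr (Subgroup.subgroupOfEquivOfLe (le_sup_left : V ⊔ Q ≤ W)).toEquiv,
          Nat.card_congr (Subgroup.subgroupOfEquivOfLe (le_sup_right : R₀ ≤ W)).toEquiv]
        exact hcop₀.symm.coprime_dvd_left (Subgroup.card_dvd_of_le (sup_le hVH (hQK.trans hKH)))
      have hfit : fittingOf K' ≤ V.subgroupOf W := by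
        intro x hx
        haveI := fittingOf_nilpotent K'
        have hVF : V.subgroupOf W ≤ fittingOf K' := le_fittingOf_of_normal
          (Subgroup.comap_mono le_sup_left)
          (fun y _ => by
            haveI : (V.subgroupOf W).Normal :=
              (Subgroup.normal_subgroupOf_iff_le_normalizer (le_sup_left.trans le_sup_left)).mpr (hRn V hVn W)
            rw [Subgroup.normalizer_eq_top]; exact Subgroup.mem_top y)
          (hVs.comap_subtype (K := W)).isNilpotent
        obtain ⟨v, hv, w, hw, e⟩ := CfsgLib.mem_sup_of_le_normalizer (hRn V hVn Q) (fittingOf_le K' hx)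
        have hvW : v ∈ W := Subgroup.mem_sup_left (Subgroup.mem_sup_left hv)
        have hwW : w ∈ W := Subgroup.mem_sup_left (Subgroup.mem_sup_right hw)
        have hwF : (⟨w, hwW⟩ : W) ∈ fittingOf K' := by
          rw [show (⟨w, hwW⟩ : W) = (⟨v, hvW⟩ : W)⁻¹ * x from Subtype.ext (by
            show w = v⁻¹ * (x : G)
            rw [show (x : G) = v * w from e.symm, inv_mul_cancel_left])]
          exact mul_mem (inv_mem (hVF hv)) hx
        have hw1 : w = 1 := by
          refine Subgroup.mem_bot.mp (hQV ▸ (⟨hw, fun b hb => ?_⟩ : w ∈ Q ⊓ centralizer (V : Set G)))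
          have hbW : b ∈ W := Subgroup.mem_sup_left (Subgroup.mem_sup_left hb)
          have h := CfsgLib.commute_of_nilpotent (⟨⟨b, hbW⟩, hVF hb⟩ : fittingOf K') ⟨⟨w, hwW⟩, hwF⟩ (by
            rw [Subgroup.orderOf_mk, Subgroup.orderOf_mk, Subgroup.orderOf_mk, Subgroup.orderOf_mk]
            obtain ⟨i, hi⟩ := hVs.exists_card_eq
            refine Nat.Coprime.coprime_dvd_left (Subgroup.orderOf_dvd_natCard V hb)
              (Nat.Coprime.coprime_dvd_right ((Subgroup.orderOf_dvd_natCard Q hw).trans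
                (Subgroup.card_dvd_of_le hQK)) ?_)
            rw [hi]
            exact hKp.symm.pow_left i)
          exact congrArg (fun t : fittingOf K' => ((t : W) : G)) h.eq
        show (x : G) ∈ V
        rw [show (x : G) = v * w from e.symm, hw1, mul_one]
        exact hv
      have hres := Cfsg.Agent.S1445.result (hodd.of_dvd_nat (Subgroup.card_subgroup_dvd_card W)) K' R' hKR' hcop'
        (fun x hx hx1 => by
          congr 1
          have hxR : (x : G) ∈ R₀ := hx
          have hxo : orderOf (x : G) = r := ((hr.eq_one_or_self_of_dvd _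
            (Subgroup.orderOf_dvd_natCard R₀ hxR)).resolve_left fun h => hx1 (Subtype.ext (orderOf_eq_one_iff.mp h)))
          have hge : R' = zpowers x := le_antisymm (by
            refine (Subgroup.eq_of_le_of_card_ge (Subgroup.zpowers_le.mpr hx) ?_).ge
            rw [Nat.card_zpowers, Nat.card_congr (Subgroup.subgroupOfEquivOfLe (le_sup_right : R₀ ≤ W)).toEquiv,
              ← Subgroup.orderOf_coe, hxo]) (Subgroup.zpowers_le.mpr hx)
          rw [hge, Subgroup.zpowers_eq_closure, Subgroup.centralizer_closure])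
        (by
          rw [eq_bot_iff]
          rintro x ⟨hx, hxR⟩
          have hxV : (x : G) ∈ V ⊓ centralizer (R₀ : Set G) := ⟨hfit hx, fun a ha =>
            congrArg Subtype.val (hxR ⟨a, Subgroup.mem_sup_right ha⟩ ha)⟩
          rw [hfix, Subgroup.mem_bot] at hxV
          exact Subgroup.mem_bot.mpr (Subtype.ext hxV))
      intro w hw a ha
      have hwW : w ∈ W := Subgroup.mem_sup_left (Subgroup.mem_sup_right hw)
      have haW : a ∈ W := Subgroup.mem_sup_right ha
      have h1 : (⁅w, a⁆ : G) ∈ V := hfit (hres (Subgroup.commutator_mem_commutator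
        (show (⟨w, hwW⟩ : W) ∈ K' from Subgroup.mem_sup_right hw) (show (⟨a, haW⟩ : W) ∈ R' from ha)))
      have h2 : ⁅w, a⁆ ∈ K ⊓ V := ⟨hQK (by
        rw [commutatorElement_def, mul_assoc, mul_assoc, ← mul_assoc a]
        exact mul_mem hw ((Subgroup.mem_normalizer_iff.mp (hQ.2.2 ha) _).mp (inv_mem hw))), h1⟩
      rw [hKVd, Subgroup.mem_bot, commutatorElement_eq_one_iff_mul_comm] at h2
      exact h2.symm
    have hKC : K ≤ C := le_inf hKH (le_of_invariant_parts hR₀K
      (hcop₀.coprime_dvd_right (Subgroup.card_dvd_of_le hKH)) inferInstance hcent)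
    -- `X = [X, R]` centralises the cyclic `K'`, so `K` is cyclic, so centralised
    have abel : ∀ D : Subgroup G, IsCyclic D → X ≤ normalizer (D : Set G) → R ≤ normalizer (D : Set G) →
        X ≤ centralizer (D : Set G) := by
      intro D hD hXD hRD
      haveI := hD
      refine hXR.trans ?_
      rw [Subgroup.commutator_le]
      intro a ha b hb
      have h : D.normalizerMonoidHom ⁅(⟨a, hXD ha⟩ : normalizer (D : Set G)), ⟨b, hRD hb⟩⁆ = 1 := by
        rw [map_commutatorElement, commutatorElement_eq_one_iff_mul_comm]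
        apply (IsCyclic.mulAutMulEquiv (G := D)).injective
        rw [map_mul, map_mul, mul_comm]
      have h' : ⁅(⟨a, hXD ha⟩ : normalizer (D : Set G)), ⟨b, hRD hb⟩⁆ ∈ D.normalizerMonoidHom.ker := h
      rw [Subgroup.normalizerMonoidHom_ker] at h'
      exact h'
    haveI := hZ
    haveI : IsZGroup K := IsZGroup.of_injective (Subgroup.inclusion_injective hKC)
    haveI := IsZGroup.isCyclic_commutator (G := K)
    set D := (commutator K).map K.subtype with hD
    have hDc : IsCyclic D := isCyclic_of_surjective _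
      ((commutator K).equivMapOfInjective K.subtype K.subtype_injective).surjective
    haveI : (commutator K).Characteristic := inferInstance
    have hXD := abel D hDc (CfsgLib.le_normalizer_map_characteristic hXK (commutator K)).1
      (CfsgLib.le_normalizer_map_characteristic hRK (commutator K)).1
    haveI : Group.IsNilpotent K := by
      have hc : commutator K ≤ Subgroup.center K := fun d hd => Subgroup.mem_center_iff.mpr fun k =>
        Subtype.ext (hXD (hKX k.2) _ (Subgroup.mem_map_of_mem K.subtype hd)).symm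
      exact Subgroup.isNilpotent_of_ker_le_center Abelianization.of (by rwa [Abelianization.ker_of])
    have hKc : IsCyclic K := inferInstance
    exact hKP (hP₁X.trans (abel K hKc hXK hRK))
  · -- `R₀` moves `P₁` freely
    have hVR : Nat.card ↥(V ⊓ centralizer (R₀ : Set G)) ≤ s := by
      refine card_le_of_cyclic hs (fun b hb => hVe b hb.1) ?_
      exact cyclic_of_zgroup hZ (inf_le_inf_right _ hVH) (hVs.to_le inf_le_left)
    have hPR : P₁ ⊓ centralizer (R₀ : Set G) = ⊥ := by
      by_contra hne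
      have hPC : IsCyclic ↥(P ⊓ centralizer (R₀ : Set G)) :=
        cyclic_of_zgroup hZ (inf_le_inf_right _ hPH) (hPp.to_le inf_le_left)
      haveI := hPC
      have ex : ∀ W : Subgroup G, W ≤ P ⊓ centralizer (R₀ : Set G) → W ≠ ⊥ → ∃ x ∈ W, orderOf x = s := by
        intro W hW hW1
        obtain ⟨k, hk⟩ := (hPp.to_le (hW.trans inf_le_left)).exists_card_eq
        have hk0 : k ≠ 0 := fun e => hW1 (Subgroup.card_eq_one.mp (by rw [hk, e, pow_zero]))
        obtain ⟨⟨x, hx⟩, hxo⟩ := exists_prime_orderOf_dvd_card' s (hk ▸ dvd_pow_self s hk0 : s ∣ Nat.card W)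
        exact ⟨x, hx, by rwa [Subgroup.orderOf_mk] at hxo⟩
      obtain ⟨v, hv, hvo⟩ := ex _ (inf_le_inf_right _ le_sup_left) hfix
      obtain ⟨x, hx, hxo⟩ := ex _ (inf_le_inf_right _ le_sup_right) hne
      have hvC : zpowers v ≤ P ⊓ centralizer (R₀ : Set G) :=
        Subgroup.zpowers_le.mpr ⟨Subgroup.mem_sup_left hv.1, hv.2⟩
      have hxC : zpowers x ≤ P ⊓ centralizer (R₀ : Set G) :=
        Subgroup.zpowers_le.mpr ⟨Subgroup.mem_sup_right hx.1, hx.2⟩
      have e : (zpowers v).subgroupOf (P ⊓ centralizer (R₀ : Set G)) =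
          (zpowers x).subgroupOf (P ⊓ centralizer (R₀ : Set G)) := CfsgLib.PowerGraph.subgroup_eq_of_card (by
        rw [Nat.card_congr (Subgroup.subgroupOfEquivOfLe hvC).toEquiv,
          Nat.card_congr (Subgroup.subgroupOfEquivOfLe hxC).toEquiv, Nat.card_zpowers, Nat.card_zpowers, hvo, hxo])
      have e' : zpowers v = zpowers x := by
        rw [← Subgroup.map_subgroupOf_eq_of_le hvC, e, Subgroup.map_subgroupOf_eq_of_le hxC]
      have : v ∈ V ⊓ X := ⟨hv.1, (Subgroup.zpowers_le.mpr (hP₁X hx.1)) (e' ▸ Subgroup.mem_zpowers v)⟩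
      rw [hVX, Subgroup.mem_bot] at this
      rw [this, orderOf_one] at hvo
      exact hs.ne_one hvo.symm
    set A := P₁ ⊔ R₀ with hA
    have hR₀P : R₀ ≤ normalizer (P₁ : Set G) := hR₀.trans hP₁'
    have hAK : A ≤ normalizer (K : Set G) := sup_le (hP₁X.trans hXK) hR₀K
    have hAcop : (Nat.card A).Coprime (Nat.card K) := by
      obtain ⟨i, hi⟩ := hP₁p.exists_card_eq
      refine Nat.Coprime.coprime_dvd_left ?_ (Nat.Coprime.mul_left (hi ▸ hKp.symm.pow_left i :
        (Nat.card P₁).Coprime (Nat.card K)) (hcop₀.coprime_dvd_right (Subgroup.card_dvd_of_le hKH)))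
      rw [hA, sup_comm, mul_comm]
      exact CfsgLib.TIHall.card_sup_dvd_of_le_normalizer hR₀P
    obtain ⟨q, hq, hqK, Q, hQ, hQK, hmov⟩ : ∃ q : ℕ, q.Prime ∧ q ∣ Nat.card K ∧
        ∃ Q ∈ invSubgroups ⊤ A {q}, Q ≤ K ∧ ¬ Q ≤ centralizer (P₁ : Set G) := by
      by_contra h
      push_neg at h
      exact hKP fun a ha k hk =>
        (le_of_invariant_parts hAK hAcop inferInstance (M := centralizer (P₁ : Set G))
          (fun q hq hd U hU hUK => h q hq hd U hU hUK) hk a ha).symm
    haveI := Fact.mk hq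
    have hQq := isPGroup_of_inv hQ
    have hQs : (Nat.card Q).Coprime s := hKp.coprime_dvd_left (Subgroup.card_dvd_of_le hQK)
    have hrq : r ≠ q := fun e => hr.ne_one
      (Nat.eq_one_of_dvd_coprimes hcop₀ dvd_rfl (e.symm ▸ hqK.trans (Subgroup.card_dvd_of_le hKH)))
    have hqs : q ≠ s := fun e => hq.ne_one (Nat.eq_one_of_dvd_coprimes hKp hqK (e ▸ dvd_rfl))
    have hq2 : q ≠ 2 := fun e => hodd.not_two_dvd_nat (e ▸ hqK.trans (Subgroup.card_subgroup_dvd_card K))
    obtain ⟨D, hDch, hDe, hD2, hDf⟩ := NarrowDerived.exists_omega_critical hq2 hQq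
    set D' := D.map Q.subtype with hD'
    have hD'Q : D' ≤ Q := Subgroup.map_subtype_le _
    have hAD : A ≤ normalizer (D' : Set G) := (CfsgLib.le_normalizer_map_characteristic hQ.2.2 D).1
    have hP₁Q : P₁ ≤ normalizer (Q : Set G) := le_sup_left.trans hQ.2.2
    obtain ⟨i₁, hi₁⟩ := hP₁p.exists_card_eq
    have hmovD : ¬ D' ≤ centralizer (P₁ : Set G) := by
      intro hle
      refine hmov fun w hw a ha => ?_
      have h : Q.normalizerMonoidHom ⟨a, hP₁Q ha⟩ = 1 := by
        refine hDf _ ?_ fun d hd => Subtype.ext ?_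
        · refine Nat.Coprime.coprime_dvd_left ((orderOf_map_dvd _ _).trans ?_)
            (((Nat.coprime_primes hs hq).mpr (Ne.symm hqs)).pow_left i₁)
          rw [Subgroup.orderOf_mk, ← hi₁]
          exact Subgroup.orderOf_dvd_natCard _ ha
        · show a * (d : G) * a⁻¹ = d
          have h8 : a * (d : G) = d * a := hle ⟨d, hd, rfl⟩ a ha
          rw [h8, mul_inv_cancel_right]
      exact mul_inv_eq_iff_eq_mul.mp (congrArg Subtype.val (MulEquiv.congr_fun h ⟨w, hw⟩))
    set Q₁ := ⁅D', P₁⁆ with hQ₁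
    have hQ₁D : Q₁ ≤ D' := CfsgLib.commutator_le_of_le_normalizer (le_sup_left.trans hAD)
    have hcopPD : ∀ U : Subgroup G, U ≤ Q → (Nat.card P₁).Coprime (Nat.card U) := fun U hU => by
      obtain ⟨j, hj⟩ := (hQq.to_le hU).exists_card_eq
      rw [hi₁, hj]
      exact ((Nat.coprime_primes hs hq).mpr (Ne.symm hqs)).pow i₁ j
    have hQ₁e : ∀ a ∈ Q₁, a ^ q = 1 := fun a ha => by
      obtain ⟨d, hd, rfl⟩ := hQ₁D ha
      rw [← map_pow, hDe d hd, map_one]
    have hQ₁n : ∀ U : Subgroup G, U ≤ A → U ≤ normalizer (Q₁ : Set G) := fun U hU a ha =>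
      mem_normalizer_of_conj_smul (by
        have e : MulAut.conj a • (P₁ : Subgroup G) = P₁ :=
          conj_smul_eq_of_mem_normalizer ((sup_le Subgroup.le_normalizer hR₀P) (hU ha))
        have : MulAut.conj a • ⁅D', P₁⁆ = ⁅MulAut.conj a • D', MulAut.conj a • P₁⁆ :=
          Subgroup.map_commutator _ _ _
        rw [hQ₁, this, e, conj_smul_eq_of_mem_normalizer (hAD (hU ha))])
    -- the abelian case
    have abelian : ∀ E : Subgroup G, E ≤ Q₁ → IsMulCommutative E → A ≤ normalizer (E : Set G) →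
        ¬ E ≤ centralizer (P₁ : Set G) → False := by
      intro E hE hEc hAE hmovE
      set F := ⁅E, P₁⁆ with hF
      have hFE : F ≤ E := CfsgLib.commutator_le_of_le_normalizer (le_sup_left.trans hAE)
      have hFQ : F ≤ Q := hFE.trans (hE.trans (hQ₁D.trans hD'Q))
      haveI : IsMulCommutative F := ⟨⟨fun x y => Subtype.ext
        (congrArg (fun t : E => (t : G)) (hEc.is_comm.comm ⟨x, hFE x.2⟩ ⟨y, hFE y.2⟩))⟩⟩
      have hcopE : (Nat.card P₁).Coprime (Nat.card E) := hcopPD E (hE.trans (hQ₁D.trans hD'Q))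
      have hidem : F ≤ ⁅F, P₁⁆ := by
        rw [hF, CfsgLib.coprime_commutator_commutator (le_sup_left.trans hAE) hcopE (Or.inr (by
          haveI := hEc; infer_instance))]
      have hAF : A ≤ normalizer (F : Set G) := fun a ha => mem_normalizer_of_conj_smul (by
        have e : MulAut.conj a • (P₁ : Subgroup G) = P₁ :=
          conj_smul_eq_of_mem_normalizer ((sup_le Subgroup.le_normalizer hR₀P) ha)
        have : MulAut.conj a • ⁅E, P₁⁆ = ⁅MulAut.conj a • E, MulAut.conj a • P₁⁆ :=
          Subgroup.map_commutator _ _ _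
        rw [hF, this, e, conj_smul_eq_of_mem_normalizer (hAE ha)])
      set V' := ⁅V, F⁆ with hV'
      have hV'V : V' ≤ V := CfsgLib.commutator_le_of_le_normalizer (hRn V hVn F)
      haveI : IsMulCommutative V' := ⟨⟨fun x y => Subtype.ext
        (congrArg (fun t : V => (t : G)) (hVc.is_comm.comm ⟨x, hV'V x.2⟩ ⟨y, hV'V y.2⟩))⟩⟩
      have hcopVQ : (Nat.card V).Coprime (Nat.card F) := by
        obtain ⟨j, hj⟩ := hVs.exists_card_eq
        rw [hj]
        exact (hQs.symm.coprime_dvd_right (Subgroup.card_dvd_of_le hFQ)).pow_left j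
      have hn : ∀ B : Subgroup G, B ≤ normalizer (F : Set G) → B ≤ normalizer (V' : Set G) := fun B hB a ha =>
        mem_normalizer_of_conj_smul (by
          have : MulAut.conj a • ⁅V, F⁆ = ⁅MulAut.conj a • V, MulAut.conj a • F⁆ := Subgroup.map_commutator _ _ _
          rw [hV', this, conj_smul_eq_of_mem_normalizer (hRn V hVn B ha), conj_smul_eq_of_mem_normalizer (hB ha)])
      have hV'0 : V' ≠ ⊥ := by
        intro e
        refine hmovE ?_
        have hF0 : F = ⊥ := le_bot_iff.mp (hKV ▸ le_inf (hFQ.trans hQK) fun w hw v hv => by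
          have := Subgroup.commutator_mem_commutator hv hw
          rw [← hV', e, Subgroup.mem_bot, commutatorElement_eq_one_iff_mul_comm] at this
          exact this)
        intro w hw a ha
        have := Subgroup.commutator_mem_commutator hw ha
        rw [← hF, hF0, Subgroup.mem_bot, commutatorElement_eq_one_iff_mul_comm] at this
        exact this.symm
      exact CfsgLib.SmallFixed.no_abelian_config (q := q) (p := s) (r := r) (R := R₀) (Q := F)
        (hn F Subgroup.le_normalizer) (hn R₀ (le_sup_right.trans hAF)) (le_sup_right.trans hAF) rfl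
        (hVs.to_le hV'V) (hcopVQ.coprime_dvd_left (Subgroup.card_dvd_of_le hV'V))
        ((Subgroup.card_le_of_le (inf_le_inf_right _ hV'V)).trans hVR)
        (le_bot_iff.mp ((inf_le_inf_right _ le_rfl).trans
          (CfsgLib.SmallFixed.commutator_fixed_bot (hRn V hVn F) hcopVQ).le))
        (fun a ha => hQ₁e a (hE (hFE ha))) hs2 hr2 hrs hV'0 hP₁p (hn P₁ (le_sup_left.trans hAF))
        (le_sup_left.trans hAF) hR₀P hPR hidem
    set Z := ⁅Q₁, Q₁⁆ with hZdef
    have hZQ₁ : Z ≤ Q₁ := Subgroup.commutator_le_self Q₁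
    have hZc : Q₁ ≤ centralizer (Z : Set G) := by
      rw [hZdef, Subgroup.le_centralizer_iff, Subgroup.commutator_le]
      intro a ha b hb c hc
      obtain ⟨a', ha', rfl⟩ := hQ₁D ha
      obtain ⟨b', hb', rfl⟩ := hQ₁D hb
      obtain ⟨c', hc', rfl⟩ := hQ₁D hc
      have h := hD2 a' ha' b' hb' c' hc'
      rw [← map_commutatorElement]
      show Q.subtype c' * Q.subtype ⁅a', b'⁆ = Q.subtype ⁅a', b'⁆ * Q.subtype c'
      rw [← map_mul, ← map_mul, h.eq]
    haveI hZcomm : IsMulCommutative Z := ⟨⟨fun x y => Subtype.ext ((hZc (hZQ₁ x.2)) _ y.2).symm⟩⟩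
    have hAZ : A ≤ normalizer (Z : Set G) := fun a ha => mem_normalizer_of_conj_smul (by
      have : MulAut.conj a • ⁅Q₁, Q₁⁆ = ⁅MulAut.conj a • Q₁, MulAut.conj a • Q₁⁆ := Subgroup.map_commutator _ _ _
      rw [hZdef, this, conj_smul_eq_of_mem_normalizer (hQ₁n A le_rfl ha)])
    by_cases hZP : Z ≤ centralizer (P₁ : Set G)
    swap
    · exact abelian Z hZQ₁ hZcomm hAZ hZP
    by_cases hZ0 : Z = ⊥
    · refine abelian Q₁ le_rfl ⟨⟨fun x y => Subtype.ext ?_⟩⟩ (hQ₁n A le_rfl) fun hle => hmovD ?_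
      · have := Subgroup.commutator_mem_commutator x.2 y.2
        rw [← hZdef, hZ0, Subgroup.mem_bot, commutatorElement_eq_one_iff_mul_comm] at this
        exact this
      · intro d hd a ha
        have h1 : ⁅⁅D', P₁⁆, P₁⁆ = ⁅D', P₁⁆ := CfsgLib.coprime_commutator_commutator (le_sup_left.trans hAD)
          (hcopPD D' hD'Q) (Or.inr (by
            haveI := (hQq.to_le hD'Q).isNilpotent
            infer_instance))
        have h2 : ⁅Q₁, P₁⁆ = ⊥ := by
          rw [eq_bot_iff, Subgroup.commutator_le]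
          intro x hx b hb
          rw [Subgroup.mem_bot, commutatorElement_eq_one_iff_mul_comm]
          exact (hle hx b hb).symm
        have h3 := Subgroup.commutator_mem_commutator hd ha
        rw [← h1, ← hQ₁, h2, Subgroup.mem_bot, commutatorElement_eq_one_iff_mul_comm] at h3
        exact h3.symm
    -- the nonabelian case
    have hQ₁Q : Q₁ ≤ Q := hQ₁D.trans hD'Q
    have hZR : Z ⊓ centralizer (R₀ : Set G) = ⊥ := by
      by_contra hne
      have hcyc : IsCyclic ↥(Q₁ ⊓ centralizer (R₀ : Set G)) := cyclic_of_zgroup hZ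
        (inf_le_inf_right _ ((hQ₁Q.trans hQK).trans hKH)) ((hQq.to_le hQ₁Q).to_le inf_le_left)
      have hle := card_le_of_cyclic hq (B := Q₁ ⊓ centralizer (R₀ : Set G)) (fun b hb => hQ₁e b hb.1) hcyc
      obtain ⟨j, hj⟩ := ((hQq.to_le (hZQ₁.trans hQ₁Q)).to_le
        (inf_le_left : Z ⊓ centralizer (R₀ : Set G) ≤ Z)).exists_card_eq
      have e : Z ⊓ centralizer (R₀ : Set G) = Q₁ ⊓ centralizer (R₀ : Set G) :=
        Subgroup.eq_of_le_of_card_ge (inf_le_inf_right _ hZQ₁) (hle.trans (hj ▸ Nat.le_self_pow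
          (fun e => hne (Subgroup.card_eq_one.mp (by rw [hj, e, pow_zero]))) q))
      have hfix1 : Q₁ ⊓ centralizer (R₀ : Set G) = Q₁ ⊓ centralizer ((P₁ ⊔ R₀ : Subgroup G) : Set G) := by
        refine le_antisymm (fun w hw => ⟨hw.1, fun a ha => ?_⟩)
          (inf_le_inf_left _ (centralizer_anti le_sup_right))
        have h : P₁ ⊔ R₀ ≤ centralizer ({w} : Set G) := sup_le
          (fun b hb => Subgroup.mem_centralizer_singleton_iff.mpr (hZP (e.ge hw).1 b hb))
          (fun b hb => Subgroup.mem_centralizer_singleton_iff.mpr (hw.2 b hb))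
        exact Subgroup.mem_centralizer_singleton_iff.mp (h ha)
      have hfpf : ∀ e ∈ R₀, e ≠ 1 → ∀ u ∈ P₁, e * u = u * e → u = 1 := by
        intro e he he1 u hu hcomm
        have hge : zpowers e = R₀ := by
          have heo : orderOf e = r := (hr.eq_one_or_self_of_dvd _
            (Subgroup.orderOf_dvd_natCard R₀ he)).resolve_left fun h => he1 (orderOf_eq_one_iff.mp h)
          exact Subgroup.eq_of_le_of_card_ge (Subgroup.zpowers_le.mpr he) (by rw [Nat.card_zpowers, heo])
        refine Subgroup.mem_bot.mp (hPR ▸ (⟨hu, ?_⟩ : u ∈ P₁ ⊓ centralizer (R₀ : Set G)))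
        rw [← hge]
        intro y hy
        obtain ⟨k, rfl⟩ := Subgroup.mem_zpowers_iff.mp hy
        exact ((show Commute e u from hcomm).zpow_left k).eq
      haveI := hP₁p.isNilpotent
      have hord := CfsgLib.FrobAction.order_formula P₁ R₀ hR₀P hfpf Q₁ (hQ₁n A le_rfl)
        (hAcop.coprime_dvd_right (Subgroup.card_dvd_of_le (hQ₁Q.trans hQK))) inferInstance
      rw [← hfix1] at hord
      have hall : Q₁ ≤ centralizer (P₁ : Set G) :=
        inf_eq_left.mp (Subgroup.eq_of_le_of_card_ge inf_le_left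
          (Nat.eq_of_mul_eq_mul_left (pow_pos Nat.card_pos _) hord).le)
      refine hmovD fun d hd a ha => ?_
      have h1 : ⁅⁅D', P₁⁆, P₁⁆ = ⁅D', P₁⁆ := CfsgLib.coprime_commutator_commutator (le_sup_left.trans hAD)
        (hcopPD D' hD'Q) (Or.inr inferInstance)
      have h2 : ⁅Q₁, P₁⁆ = ⊥ := by
        rw [eq_bot_iff, Subgroup.commutator_le]
        intro x hx b hb
        rw [Subgroup.mem_bot, commutatorElement_eq_one_iff_mul_comm]
        exact (hall hx b hb).symm
      have h3 := Subgroup.commutator_mem_commutator hd ha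
      rw [← h1, ← hQ₁, h2, Subgroup.mem_bot, commutatorElement_eq_one_iff_mul_comm] at h3
      exact h3.symm
    set V' := ⁅V, Z⁆ with hV'
    have hV'V : V' ≤ V := CfsgLib.commutator_le_of_le_normalizer (hRn V hVn Z)
    haveI : IsMulCommutative V' := ⟨⟨fun x y => Subtype.ext
      (congrArg (fun t : V => (t : G)) (hVc.is_comm.comm ⟨x, hV'V x.2⟩ ⟨y, hV'V y.2⟩))⟩⟩
    have hn : ∀ B : Subgroup G, B ≤ normalizer (Z : Set G) → B ≤ normalizer (V' : Set G) := fun B hB a ha =>
      mem_normalizer_of_conj_smul (by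
        have : MulAut.conj a • ⁅V, Z⁆ = ⁅MulAut.conj a • V, MulAut.conj a • Z⁆ := Subgroup.map_commutator _ _ _
        rw [hV', this, conj_smul_eq_of_mem_normalizer (hRn V hVn B ha), conj_smul_eq_of_mem_normalizer (hB ha)])
    have hcopV : ∀ B : Subgroup G, B ≤ Q → (Nat.card V).Coprime (Nat.card B) := fun B hB => by
      obtain ⟨j, hj⟩ := hVs.exists_card_eq
      rw [hj]
      exact (hQs.symm.coprime_dvd_right (Subgroup.card_dvd_of_le hB)).pow_left j
    have hV'0 : V' ≠ ⊥ := by
      intro e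
      refine hZ0 (le_bot_iff.mp (hKV ▸ le_inf ((hZQ₁.trans hQ₁Q).trans hQK) fun w hw v hv => ?_))
      have := Subgroup.commutator_mem_commutator hv hw
      rw [← hV', e, Subgroup.mem_bot, commutatorElement_eq_one_iff_mul_comm] at this
      exact this
    exact CfsgLib.SmallFixed.no_nonabelian_config (q := q) (p := s) (r := r) (R := R₀) (Q := Q₁)
      (hn Q₁ (hZc.trans (Subgroup.centralizer_le_normalizer _))) (hn R₀ (le_sup_right.trans hAZ))
      (hQ₁n R₀ le_sup_right) rfl (hVs.to_le hV'V)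
      ((hcopV Q₁ hQ₁Q).coprime_dvd_left (Subgroup.card_dvd_of_le hV'V))
      ((Subgroup.card_le_of_le (inf_le_inf_right _ hV'V)).trans hVR)
      hZdef hZc hQ₁e (le_sup_right.trans hAZ) hZR hrs hrq hV'0
      (le_bot_iff.mp ((inf_le_inf_right _ le_rfl).trans
        (CfsgLib.SmallFixed.commutator_fixed_bot (hRn V hVn Z) (hcopV Z (hZQ₁.trans hQ₁Q))).le))

end CfsgLib.CommPLength
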