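import Mathlib
import Cfsg.Prelude.Def_Solvable
import Cfsg.Prelude.Def_CaseTheorems
import Cfsg.Prelude.Def_OddOrderLocal
import Cfsg.Agent.Lib.Basic
import Cfsg.Agent.Lib.PSolvable
import Cfsg.Agent.Lib.HallSolvable
import Cfsg.Agent.Lib.OddLocal.RankTwoDerived
import Cfsg.Agent.Lib.OddLocal.NarrowDerived

/-!
Solvable groups of odd order whose Fitting subgroup has rank at most two: nilpotent derived group, Sylow tower.
-/

set_option autoImplicit false
set_option linter.unusedSectionVars false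

namespace CfsgLib.RankTwoTower

open Cfsg
open scoped commutatorElement

theorem pRankLE_of_injective {p k : ℕ} {H K : Type*} [Group H] [Group K] (f : H →* K) (hf : Function.Injective f)
    (h : PRankLE p k K) : PRankLE p k H := by
  intro E hEc hEe
  rw [Nat.card_congr (E.equivMapOfInjective f hf).toEquiv]
  refine h _ ⟨⟨?_⟩⟩ ?_
  · rintro ⟨_, a, ha, rfl⟩ ⟨_, b, hb, rfl⟩
    refine Subtype.ext ?_
    show f a * f b = f b * f a
    rw [← map_mul, ← map_mul]
    exact congrArg f (congrArg Subtype.val (hEc.is_comm.comm ⟨a, ha⟩ ⟨b, hb⟩))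
  · rintro _ ⟨a, ha, rfl⟩
    rw [← map_pow, hEe a ha, map_one]

variable {G : Type*} [Group G] [Finite G] [Group.IsSolvable G]

theorem small_of_rank {p : ℕ} {R : Type*} [Group R] (h : PRankLE p 2 R) :
    ∃ x : R, x ^ p = 1 ∧ PRankLE p 2 ↥(Subgroup.centralizer ({x} : Set R)) :=
  ⟨1, one_pow _, pRankLE_of_injective (Subgroup.centralizer ({(1 : R)} : Set R)).subtype Subtype.val_injective h⟩

theorem exists_pow_eq {r : ℕ} [Fact r.Prime] {R : Subgroup G} (hR : IsPGroup r R) {x : G} (hx : x ∈ R) :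
    ∃ k : ℕ, x ^ r ^ k = 1 := by
  obtain ⟨k, hk⟩ := hR ⟨x, hx⟩
  exact ⟨k, congrArg Subtype.val hk⟩

theorem centralizes_iff {q : ℕ} (x : G) :
    (MulAut.conjNormal (H := pCore q G)) x = 1 ↔ x ∈ Subgroup.centralizer (pCore q G : Set G) := by
  rw [Subgroup.mem_centralizer_iff]
  constructor
  · intro h y hy
    have h' := congrArg Subtype.val (DFunLike.congr_fun h ⟨y, hy⟩)
    rw [MulAut.conjNormal_apply, MulAut.one_apply] at h'
    exact (mul_inv_eq_iff_eq_mul.1 h').symm
  · intro h
    refine MulEquiv.ext fun y => Subtype.ext ?_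
    rw [MulAut.conjNormal_apply, MulAut.one_apply]
    exact mul_inv_eq_iff_eq_mul.2 (h y y.2).symm

theorem pCore_two_eq_bot (hodd : Odd (Nat.card G)) : pCore 2 G = ⊥ := by
  haveI : Fact (Nat.Prime 2) := ⟨Nat.prime_two⟩
  obtain ⟨k, hk⟩ := IsPGroup.iff_card.1 (CfsgLib.isPGroup_pCore (G := G) 2)
  refine Subgroup.eq_bot_of_card_eq _ ?_
  rw [hk]
  rcases k with _ | k
  · simp
  · exfalso
    refine Nat.not_even_iff_odd.2 hodd (even_iff_two_dvd.2 ((dvd_pow_self 2 k.succ_ne_zero).trans ?_))
    exact hk ▸ Subgroup.card_subgroup_dvd_card _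

variable (hodd : Odd (Nat.card G)) (hr : ∀ q : ℕ, q.Prime →
  ∃ x : ↥(pCore q G), x ^ q = 1 ∧ PRankLE q 2 ↥(Subgroup.centralizer ({x} : Set ↥(pCore q G))))

include hodd hr

theorem derived_pow_centralizes (q : ℕ) [Fact q.Prime] {x : G} (hx : x ∈ commutator G) :
    ∃ k : ℕ, x ^ q ^ k ∈ Subgroup.centralizer (pCore q G : Set G) := by
  by_cases h2 : q = 2
  · refine ⟨0, ?_⟩
    subst h2
    rw [pCore_two_eq_bot hodd, Subgroup.mem_centralizer_iff]
    intro y hy
    rw [SetLike.mem_coe, Subgroup.mem_bot] at hy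
    rw [hy, one_mul, mul_one]
  let φ : G →* MulAut ↥(pCore q G) := MulAut.conjNormal
  haveI : Finite (MulAut ↥(pCore q G)) :=
    Finite.of_injective (fun f => (f : ↥(pCore q G) → ↥(pCore q G))) DFunLike.coe_injective
  haveI : Group.IsSolvable φ.range := solvable_of_surjective φ.rangeRestrict_surjective
  obtain ⟨x0, hx0, hr0⟩ := hr q Fact.out
  have hA := CfsgLib.NarrowDerived.derived_isPGroup h2 (CfsgLib.isPGroup_pCore q) hx0 hr0
    (hodd.of_dvd_nat (Subgroup.card_range_dvd φ)) φ.range.subtype Subtype.val_injective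
  have hm : φ.rangeRestrict x ∈ commutator φ.range := by
    have h1 : (commutator G).map φ.rangeRestrict ≤ commutator φ.range := by
      rw [commutator_def, Subgroup.map_commutator]
      exact Subgroup.commutator_mono le_top le_top
    exact h1 ⟨x, hx, rfl⟩
  obtain ⟨k, hk⟩ := hA ⟨_, hm⟩
  refine ⟨k, (centralizes_iff _).1 ?_⟩
  rw [map_pow]
  exact congrArg (fun y : ↥(commutator φ.range) => ((y : φ.range) : MulAut ↥(pCore q G))) hk

theorem derived_centralizes {q r k : ℕ} (hq : q.Prime) (hrp : r.Prime) (hqr : q ≠ r) {x : G}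
    (hx : x ∈ commutator G) (hxr : x ^ r ^ k = 1) : x ∈ Subgroup.centralizer (pCore q G : Set G) := by
  haveI := Fact.mk hq
  obtain ⟨j, hj⟩ := derived_pow_centralizes hodd hr q hx
  rw [← centralizes_iff] at hj ⊢
  rw [map_pow] at hj
  rw [← orderOf_eq_one_iff]
  refine Nat.eq_one_of_dvd_coprimes (Nat.Coprime.pow j k ((Nat.coprime_primes hq hrp).2 hqr))
    (orderOf_dvd_of_pow_eq_one hj) (orderOf_dvd_of_pow_eq_one ?_)
  rw [← map_pow, hxr, map_one]

theorem big_centralizes {q r k : ℕ} (hq : q.Prime) (hrp : r.Prime) (hqr : q < r) {x : G}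
    (hxr : x ^ r ^ k = 1) : x ∈ Subgroup.centralizer (pCore q G : Set G) := by
  haveI := Fact.mk hq
  by_cases h2 : q = 2
  · subst h2
    rw [pCore_two_eq_bot hodd, Subgroup.mem_centralizer_iff]
    intro y hy
    rw [SetLike.mem_coe, Subgroup.mem_bot] at hy
    rw [hy, one_mul, mul_one]
  rw [← centralizes_iff]
  by_contra hne
  haveI : Finite (MulAut ↥(pCore q G)) :=
    Finite.of_injective (fun f => (f : ↥(pCore q G) → ↥(pCore q G))) DFunLike.coe_injective
  have hd : orderOf ((MulAut.conjNormal (H := pCore q G)) x) ∣ r ^ k :=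
    orderOf_dvd_of_pow_eq_one (by rw [← map_pow, hxr, map_one])
  obtain ⟨j, -, hj⟩ := (Nat.dvd_prime_pow hrp).1 hd
  rcases j with _ | j
  · exact hne (orderOf_eq_one_iff.1 (by rw [hj, pow_zero]))
  have hdvd : r ∣ Nat.card (MulAut ↥(pCore q G)) := (dvd_pow_self r j.succ_ne_zero).trans (hj ▸ orderOf_dvd_natCard _)
  obtain ⟨x0, hx0, hr0⟩ := hr q hq
  have h := CfsgLib.NarrowDerived.aut_prime_lt h2 (CfsgLib.isPGroup_pCore q) hx0 hr0 hrp hqr.ne' hdvd
  omega

theorem sylow_derived_normal (r : ℕ) [Fact r.Prime] (P : Sylow r ↥(commutator G)) :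
    (P : Subgroup ↥(commutator G)).Normal := by
  set R := (P : Subgroup ↥(commutator G)).map (commutator G).subtype with hR
  have hRp : IsPGroup r R := P.2.map _
  have hRle : R ≤ commutator G := Subgroup.map_subtype_le _
  have hrel : ¬ r ∣ R.relIndex (commutator G) := by
    rw [Subgroup.relIndex, hR, Subgroup.subgroupOf, Subgroup.comap_map_eq_self_of_injective Subtype.val_injective]
    exact P.not_dvd_index
  have hmax : ∀ Q : Subgroup G, Q ≤ commutator G → IsPGroup r Q → R ≤ Q → Q = R := by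
    intro Q hQle hQp hRQ
    refine (Subgroup.eq_of_le_of_card_ge hRQ ?_).symm
    obtain ⟨a, ha⟩ := IsPGroup.iff_card.1 hQp
    have h1 := Subgroup.card_mul_index (R.subgroupOf Q)
    rw [Nat.card_congr (Subgroup.subgroupOfEquivOfLe hRQ).toEquiv] at h1
    have h2 : R.relIndex Q ∣ R.relIndex (commutator G) := Dvd.intro _ (Subgroup.relIndex_mul_relIndex R Q _ hRQ hQle)
    have h3 : R.relIndex Q ∣ r ^ a := ha ▸ h1 ▸ dvd_mul_left _ _
    obtain ⟨b, -, hb⟩ := (Nat.dvd_prime_pow (Fact.out : r.Prime)).1 h3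
    rcases b with _ | b
    · rw [Subgroup.relIndex] at hb
      rw [← h1, hb, pow_zero, mul_one]
    · exact absurd ((dvd_pow_self r b.succ_ne_zero).trans (hb ▸ h2)) hrel
  set F := fittingSubgroup G with hF
  have hFN : F ≤ Subgroup.normalizer (R : Set G) := by
    rw [hF, CfsgLib.fittingSubgroup_eq_iSup_pCore]
    refine iSup_le fun q => ?_
    by_cases hq : (q : ℕ) = r
    · intro z hz
      rw [hq] at hz
      have hsup : IsPGroup r ↥((R ⊔ pCore r G) ⊓ commutator G) :=
        (hRp.to_sup_of_normal_right (CfsgLib.isPGroup_pCore r)).to_le inf_le_left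
      have he := hmax _ inf_le_right hsup (le_inf le_sup_left hRle)
      have hnorm : ∀ w ∈ R, ∀ z ∈ pCore r G, z * w * z⁻¹ ∈ R := by
        intro w hw z hz
        rw [← he]
        exact Subgroup.mem_inf.2 ⟨mul_mem (mul_mem (Subgroup.mem_sup_right hz) (Subgroup.mem_sup_left hw))
          ((R ⊔ pCore r G).inv_mem (Subgroup.mem_sup_right hz)), Subgroup.Normal.conj_mem inferInstance w (hRle hw) z⟩
      rw [Subgroup.mem_normalizer_iff]
      intro w
      refine ⟨fun hw => hnorm w hw z hz, fun hw => ?_⟩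
      have h := hnorm _ hw z⁻¹ (inv_mem hz)
      simpa [mul_assoc] using h
    · refine le_trans ?_ (Subgroup.centralizer_le_normalizer _)
      intro z hz
      rw [Subgroup.mem_centralizer_iff]
      intro w hw
      obtain ⟨k, hk⟩ := exists_pow_eq hRp hw
      exact ((Subgroup.mem_centralizer_iff.1 (derived_centralizes hodd hr q.2 Fact.out hq (hRle hw) hk)) z hz).symm
  set M := commutator G ⊓ ⨅ q : {q : ℕ // q.Prime ∧ q ≠ r}, Subgroup.centralizer (pCore (q : ℕ) G : Set G) with hM
  set Z := commutator G ⊓ Subgroup.centralizer (F : Set G) with hZ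
  have hZF : Z ≤ F := inf_le_right.trans CfsgLib.centralizer_fitting_le
  have hZM : Z ≤ M := by
    refine le_inf inf_le_left (le_iInf fun q => inf_le_right.trans (Subgroup.centralizer_le ?_))
    exact CfsgLib.pCore_le_fittingSubgroup q.2.1
  have hRM : R ≤ M := by
    refine le_inf hRle (le_iInf fun q w hw => ?_)
    obtain ⟨k, hk⟩ := exists_pow_eq hRp hw
    exact derived_centralizes hodd hr q.2.1 Fact.out q.2.2 (hRle hw) hk
  have hJN : R ⊔ Z ≤ Subgroup.normalizer (R : Set G) := sup_le Subgroup.le_normalizer (hZF.trans hFN)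
  have hMJ : M ≤ R ⊔ Z := by
    haveI : Z.Normal := inferInstance
    have hpq : IsPGroup r (M ⧸ Z.subgroupOf M) := by
      intro x
      induction x using QuotientGroup.induction_on with
      | H m =>
        obtain ⟨k, hk⟩ := derived_pow_centralizes hodd hr r (Subgroup.mem_inf.1 m.2).1
        refine ⟨k, ?_⟩
        rw [← QuotientGroup.mk_pow, QuotientGroup.eq_one_iff, Subgroup.mem_subgroupOf]
        refine Subgroup.mem_inf.2 ⟨pow_mem (Subgroup.mem_inf.1 m.2).1 _, ?_⟩
        rw [hF, CfsgLib.fittingSubgroup_eq_iSup_pCore, Subgroup.mem_centralizer_iff]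
        intro y hy
        have hle : (⨆ q : Nat.Primes, pCore (q : ℕ) G) ≤ Subgroup.centralizer {(m : G) ^ r ^ k} := by
          refine iSup_le fun q => ?_
          intro y hy
          rw [Subgroup.mem_centralizer_singleton_iff]
          by_cases hq : (q : ℕ) = r
          · rw [hq] at hy
            exact Subgroup.mem_centralizer_iff.1 hk y hy
          · have h := (Subgroup.mem_iInf.1 (Subgroup.mem_inf.1 m.2).2) ⟨q, q.2, hq⟩
            exact Subgroup.mem_centralizer_iff.1 (pow_mem h _) y hy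
        exact Subgroup.mem_centralizer_singleton_iff.1 (hle hy)
    obtain ⟨a, ha⟩ := IsPGroup.iff_card.1 hpq
    have h1 : (R ⊔ Z).relIndex M ∣ r ^ a := ha ▸ Subgroup.relIndex_dvd_of_le_left M le_sup_right
    have h2 : (R ⊔ Z).relIndex M ∣ R.relIndex (commutator G) :=
      (Subgroup.relIndex_dvd_of_le_left M le_sup_left).trans
        (Dvd.intro _ (Subgroup.relIndex_mul_relIndex R M _ hRM inf_le_left))
    obtain ⟨b, -, hb⟩ := (Nat.dvd_prime_pow (Fact.out : r.Prime)).1 h1
    rcases b with _ | b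
    · exact Subgroup.relIndex_eq_one.1 hb
    · exact absurd ((dvd_pow_self r b.succ_ne_zero).trans (hb ▸ h2)) hrel
  have hconj : ∀ g ∈ commutator G, ∀ w ∈ R, g * w * g⁻¹ ∈ R := by
    intro g hg w hw
    set Q := R.map (MulAut.conj g).toMonoidHom with hQ
    haveI hMn : M.Normal := by
      haveI : ∀ q : {q : ℕ // q.Prime ∧ q ≠ r}, (Subgroup.centralizer (pCore (q : ℕ) G : Set G)).Normal :=
        fun q => inferInstance
      haveI := Subgroup.normal_iInf_normal (a := fun q : {q : ℕ // q.Prime ∧ q ≠ r} =>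
        Subgroup.centralizer (pCore (q : ℕ) G : Set G)) (fun q => inferInstance)
      exact Subgroup.normal_inf_normal _ _
    have hQN : Q ≤ Subgroup.normalizer (R : Set G) := by
      rintro _ ⟨v, hv, rfl⟩
      exact hJN (hMJ (hMn.conj_mem v (hRM hv) g))
    have hQle : Q ≤ commutator G := by
      rintro _ ⟨v, hv, rfl⟩
      exact Subgroup.Normal.conj_mem inferInstance v (hRle hv) g
    have hsup : IsPGroup r ↥(Q ⊔ R) := (hRp.map (MulAut.conj g).toMonoidHom).to_sup_of_normal_right' hRp hQN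
    exact (hmax _ (sup_le hQle hRle) hsup le_sup_right).le (Subgroup.mem_sup_left ⟨w, hw, rfl⟩)
  refine ⟨fun w hw g => ?_⟩
  obtain ⟨v, hv, h⟩ := hconj g g.2 (w : G) ⟨w, hw, rfl⟩
  have : v = g * w * g⁻¹ := Subtype.ext h
  exact this ▸ hv

theorem derived_nilpotent : Group.IsNilpotent ↥(commutator G) :=
  ((Group.isNilpotent_of_finite_tfae (G := ↥(commutator G))).out 0 3).mpr
    fun r hr' P => @sylow_derived_normal G _ _ _ hodd hr r hr' P

theorem derived_le_fitting : commutator G ≤ fittingSubgroup G :=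
  CfsgLib.le_fittingSubgroup (derived_nilpotent hodd hr)

theorem char_le_derived_normal (q : ℕ) [Fact q.Prime] (S : Sylow q G) (T : Subgroup ↥(S : Subgroup G))
    (hT : T.Characteristic) (hle : T.map (S : Subgroup G).subtype ≤ ⁅(S : Subgroup G), (S : Subgroup G)⁆) :
    (T.map (S : Subgroup G).subtype).Normal := by
  set U := T.map (S : Subgroup G).subtype with hU
  have hUG : U ≤ commutator G := hle.trans (by rw [commutator_def]; exact Subgroup.commutator_mono le_top le_top)
  have hUp : IsPGroup q U := (S.2.to_subgroup T).map _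
  have hNS : Subgroup.normalizer ((S : Subgroup G) : Set G) ≤ Subgroup.normalizer (U : Set G) := by
    intro g hg
    have hmem : ∀ g ∈ Subgroup.normalizer ((S : Subgroup G) : Set G), ∀ u ∈ U, g * u * g⁻¹ ∈ U := by
      rintro g hg _ ⟨u, hu, rfl⟩
      let φ : MulAut ↥(S : Subgroup G) := (S : Subgroup G).normalizerMonoidHom ⟨g, hg⟩
      exact ⟨φ u, (Subgroup.characteristic_iff_map_le.1 hT φ) ⟨u, hu, rfl⟩, rfl⟩
    rw [Subgroup.mem_normalizer_iff]
    intro w
    refine ⟨hmem g hg w, fun hw => ?_⟩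
    have h := hmem g⁻¹ (inv_mem hg) _ hw
    simpa [mul_assoc] using h
  have hFN : fittingSubgroup G ≤ Subgroup.normalizer (U : Set G) := by
    rw [CfsgLib.fittingSubgroup_eq_iSup_pCore]
    refine iSup_le fun r => ?_
    by_cases hq : (r : ℕ) = q
    · rw [hq]
      exact (CfsgLib.pCore_le_sylow S).trans (Subgroup.le_normalizer.trans hNS)
    · refine le_trans ?_ (Subgroup.centralizer_le_normalizer _)
      intro z hz
      rw [Subgroup.mem_centralizer_iff]
      intro w hw
      obtain ⟨k, hk⟩ := exists_pow_eq hUp hw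
      exact ((Subgroup.mem_centralizer_iff.1 (derived_centralizes hodd hr r.2 Fact.out hq (hUG hw) hk)) z hz).symm
  set K := (S : Subgroup G) ⊔ commutator G with hK
  have hKN : K ≤ Subgroup.normalizer (U : Set G) :=
    sup_le (Subgroup.le_normalizer.trans hNS) ((derived_le_fitting hodd hr).trans hFN)
  haveI hKn : K.Normal := ⟨fun s hs g => by
    have h : g * s * g⁻¹ = ⁅g, s⁆ * s := by rw [commutatorElement_def]; group
    rw [h]
    exact mul_mem (Subgroup.mem_sup_right (Subgroup.commutator_mem_commutator (Subgroup.mem_top g) (Subgroup.mem_top s))) hs⟩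
  have htop : Subgroup.normalizer (U : Set G) = ⊤ := by
    rw [eq_top_iff, ← Sylow.normalizer_sup_eq_top (S.subtype (le_sup_left : (S : Subgroup G) ≤ K))]
    refine sup_le ?_ hKN
    intro g hg
    apply hNS
    convert hg using 2
    rw [Sylow.coe_subtype, Subgroup.subgroupOf_map_subtype, inf_eq_left.2 le_sup_left]
  exact Subgroup.normalizer_eq_top_iff.1 htop

theorem exists_hall (p : ℕ) : ∃ N : Subgroup G, N.Characteristic ∧ IsPiHall {q | q.Prime ∧ p < q} N := by
  classical
  set s := (Nat.card G).primeFactors with hs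
  set f := (Nat.card G).factorization with hf
  set m := ∏ q ∈ s.filter (fun q => p < q), q ^ f q with hm
  set n := ∏ q ∈ s.filter (fun q => ¬ p < q), q ^ f q with hn
  have hcard : Nat.card G = m * n := by
    rw [hm, hn, Finset.prod_filter_mul_prod_filter_not, hs, ← Nat.support_factorization]
    exact (Nat.factorization_prod_pow_eq_self Nat.card_pos.ne').symm
  have hcop : m.Coprime n := by
    refine Nat.Coprime.prod_left fun a ha => Nat.Coprime.prod_right fun b hb => ?_
    rw [Finset.mem_filter] at ha hb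
    exact Nat.coprime_pow_primes _ _ (Nat.prime_of_mem_primeFactors ha.1) (Nat.prime_of_mem_primeFactors hb.1)
      (fun hab => hb.2 (hab ▸ ha.2))
  obtain ⟨H, hH⟩ := (CfsgLib.hall_main hcard hcop).1
  have hHi : H.index = n := by
    have h := Subgroup.card_mul_index H
    rw [hH, hcard] at h
    exact Nat.eq_of_mul_eq_mul_left (hH ▸ Nat.card_pos) h
  have hm' : ∀ a : ℕ, a.Prime → a ∣ m → p < a := by
    intro a ha hd
    obtain ⟨b, hb, hab⟩ := (Prime.dvd_finsetProd_iff ha.prime _).1 hd
    rw [Finset.mem_filter] at hb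
    exact ((Nat.prime_dvd_prime_iff_eq ha (Nat.prime_of_mem_primeFactors hb.1)).1 (ha.dvd_of_dvd_pow hab)) ▸ hb.2
  have hn' : ∀ a : ℕ, a.Prime → p < a → ¬ a ∣ n := by
    intro a ha hpa hd
    obtain ⟨b, hb, hab⟩ := (Prime.dvd_finsetProd_iff ha.prime _).1 hd
    rw [Finset.mem_filter] at hb
    exact hb.2 ((Nat.prime_dvd_prime_iff_eq ha (Nat.prime_of_mem_primeFactors hb.1)).1 (ha.dvd_of_dvd_pow hab) ▸ hpa)
  have hsat : ∀ x : G, x ∈ Subgroup.normalizer (H : Set G) → (∀ a : ℕ, a.Prime → a ∣ orderOf x → p < a) → x ∈ H := by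
    intro x hx hord
    have hle : Subgroup.zpowers x ≤ Subgroup.normalizer (H : Set G) := Subgroup.zpowers_le.2 hx
    set Q := Subgroup.zpowers x ⊔ H with hQ
    have hQN : Q ≤ Subgroup.normalizer (H : Set G) := sup_le hle Subgroup.le_normalizer
    have hdvd : Nat.card Q ∣ Nat.card H * Nat.card (Subgroup.zpowers x) := by
      haveI : (H.subgroupOf (Subgroup.normalizer (H : Set G))).Normal := inferInstance
      have h := CfsgLib.card_sup_dvd_mul ((Subgroup.zpowers x).subgroupOf (Subgroup.normalizer (H : Set G)))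
        (H.subgroupOf (Subgroup.normalizer (H : Set G)))
      rw [← Subgroup.subgroupOf_sup hle Subgroup.le_normalizer,
        Nat.card_congr (Subgroup.subgroupOfEquivOfLe hQN).toEquiv,
        Nat.card_congr (Subgroup.subgroupOfEquivOfLe hle).toEquiv,
        Nat.card_congr (Subgroup.subgroupOfEquivOfLe (Subgroup.le_normalizer (H := H))).toEquiv] at h
      rwa [mul_comm]
    have hQc : (Nat.card Q).Coprime n := Nat.coprime_of_dvd fun a ha h1 h2 => by
      refine hn' a ha ?_ h2
      rcases ha.dvd_mul.1 (h1.trans hdvd) with h | h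
      · exact hm' a ha (hH ▸ h)
      · rw [Nat.card_zpowers] at h
        exact hord a ha h
    have hQH : Nat.card Q ∣ Nat.card H := hQc.dvd_of_dvd_mul_right (by
      rw [hH, ← hcard]; exact Subgroup.card_subgroup_dvd_card Q)
    exact ((Subgroup.eq_of_le_of_card_ge le_sup_right (Nat.le_of_dvd Nat.card_pos hQH)).ge
      (Subgroup.mem_sup_left (Subgroup.mem_zpowers x)))
  have hFN : fittingSubgroup G ≤ Subgroup.normalizer (H : Set G) := by
    rw [CfsgLib.fittingSubgroup_eq_iSup_pCore]
    refine iSup_le fun r => ?_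
    haveI := Fact.mk r.2
    by_cases hrpi : p < (r : ℕ)
    · refine le_trans ?_ Subgroup.le_normalizer
      obtain ⟨a, ha⟩ := IsPGroup.iff_card.1 (CfsgLib.isPGroup_pCore (G := G) (r : ℕ))
      have hJ1 : (Nat.card ↥(H ⊔ pCore (r : ℕ) G)).Coprime n := Nat.coprime_of_dvd fun b hb h1 h2 => by
        refine hn' b hb ?_ h2
        rcases hb.dvd_mul.1 (h1.trans (CfsgLib.card_sup_dvd_mul H (pCore (r : ℕ) G))) with h | h
        · exact hm' b hb (hH ▸ h)
        · rw [ha] at h
          exact ((Nat.prime_dvd_prime_iff_eq hb r.2).1 (hb.dvd_of_dvd_pow h)) ▸ hrpi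
      have hJ : Nat.card ↥(H ⊔ pCore (r : ℕ) G) ∣ Nat.card H := hJ1.dvd_of_dvd_mul_right (by
        rw [hH, ← hcard]
        exact Subgroup.card_subgroup_dvd_card _)
      exact le_sup_right.trans (Subgroup.eq_of_le_of_card_ge le_sup_left (Nat.le_of_dvd Nat.card_pos hJ)).ge
    · refine le_trans ?_ (Subgroup.centralizer_le_normalizer _)
      have hHC : H ≤ Subgroup.centralizer (pCore (r : ℕ) G : Set G) := by
        intro w hw
        set C := (Subgroup.centralizer (pCore (r : ℕ) G : Set G)).subgroupOf H with hC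
        have hi : C.index = 1 := by
          by_contra hne
          obtain ⟨a, ha, had⟩ := Nat.exists_prime_and_dvd hne
          haveI := Fact.mk ha
          have hpa : p < a := hm' a ha (hH ▸ had.trans (Subgroup.index_dvd_card C))
          let P : Sylow a H := default
          refine P.not_dvd_index (had.trans (Subgroup.index_dvd_of_le ?_))
          intro v hv
          obtain ⟨k, hk⟩ := P.2 ⟨v, hv⟩
          exact big_centralizes hodd hr r.2 ha (by omega) (x := (v : G)) (k := k)
            (congrArg (fun y : ↥(P : Subgroup H) => ((y : H) : G)) hk)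
        exact Subgroup.mem_subgroupOf.1 ((Subgroup.index_eq_one.1 hi).ge (Subgroup.mem_top (⟨w, hw⟩ : H)))
      exact Subgroup.le_centralizer_iff.1 hHC
  have hnormal : H.Normal := by
    refine ⟨fun w hw g => hsat _ ?_ ?_⟩
    · have h : g * w * g⁻¹ = ⁅g, w⁆ * w := by rw [commutatorElement_def]; group
      rw [h]
      exact mul_mem (hFN (derived_le_fitting hodd hr
        (Subgroup.commutator_mem_commutator (Subgroup.mem_top g) (Subgroup.mem_top w)))) (Subgroup.le_normalizer hw)
    · intro a ha hd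
      rw [← MulAut.conj_apply, MulEquiv.orderOf_eq] at hd
      exact hm' a ha (hH ▸ hd.trans (Subgroup.orderOf_coe (H := H) ⟨w, hw⟩ ▸ orderOf_dvd_natCard (⟨w, hw⟩ : H)))
  refine ⟨H, Subgroup.characteristic_iff_map_le.2 fun e x hx => ?_,
    fun a ha hd => ⟨ha, hm' a ha (hH ▸ hd)⟩, fun a ha hπ => hHi.symm ▸ hn' a ha hπ.2⟩
  obtain ⟨w, hw, rfl⟩ := hx
  refine hsat _ (by rw [Subgroup.normalizer_eq_top]; exact Subgroup.mem_top _) ?_
  intro a ha hd
  rw [MulEquiv.coe_toMonoidHom, MulEquiv.orderOf_eq] at hd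
  exact hm' a ha (hH ▸ hd.trans (Subgroup.orderOf_coe (H := H) ⟨w, hw⟩ ▸ orderOf_dvd_natCard (⟨w, hw⟩ : H)))

end CfsgLib.RankTwoTower
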