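import Mathlib
import Cfsg.Prelude.Def_Transfer
import Cfsg.Agent.Lib.OddLocal.PStructure
import Cfsg.Agent.Lib.OddLocal.NarrowDerived
import Cfsg.Agent.Lib.OddLocal.RankTwoTower

/-!
Elements with a small centraliser in narrow `p`-groups and in groups with `O_p` small.
-/

set_option autoImplicit false
set_option linter.unusedSectionVars false

namespace CfsgLib.NarrowStructure

open Cfsg

/-- From an elementary abelian subgroup with centraliser of rank two to a single element. -/
theorem exists_small {R : Type*} [Group R] [Finite R] {p : ℕ} [Fact p.Prime] (hR : IsPGroup p R) (E : Subgroup R)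
    (hE : IsElementaryAbelian p E) (hr : PRankLE p 2 ↥(Subgroup.centralizer (E : Set R))) :
    ∃ x : R, x ^ p = 1 ∧ PRankLE p 2 ↥(Subgroup.centralizer ({x} : Set R)) := by
  have hpp := (Fact.out : p.Prime)
  rcases subsingleton_or_nontrivial R with h | h
  · refine ⟨1, one_pow _, fun A _ _ => ?_⟩
    rw [Nat.card_of_subsingleton (1 : A)]
    exact Nat.one_le_pow _ _ hpp.pos
  haveI := hR.center_nontrivial
  have hdvd : p ∣ Nat.card ↥(Subgroup.center R) := by
    obtain ⟨k, hk⟩ := IsPGroup.iff_card.1 (hR.to_subgroup (Subgroup.center R))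
    rw [hk]
    rcases k with _ | k
    · rw [pow_zero] at hk
      exact absurd hk (Finite.one_lt_card).ne'
    · exact dvd_pow_self p k.succ_ne_zero
  obtain ⟨z, hz⟩ := exists_prime_orderOf_dvd_card' p hdvd
  have hzp : (z : R) ^ p = 1 := by
    rw [← Subgroup.coe_pow, ← hz, pow_orderOf_eq_one]; rfl
  have hzord : orderOf (z : R) = p := by rw [Subgroup.orderOf_coe, hz]
  have hzc : ∀ c : R, c * (z : R) = (z : R) * c := fun c => Subgroup.mem_center_iff.1 z.2 c
  by_cases hle : E ≤ Subgroup.zpowers (z : R)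
  · refine ⟨z, hzp, ?_⟩
    have h1 : (Subgroup.centralizer ({(z : R)} : Set R)) ≤ Subgroup.centralizer (E : Set R) := by
      intro c _
      rw [Subgroup.mem_centralizer_iff]
      intro e he
      obtain ⟨k, rfl⟩ := Subgroup.mem_zpowers_iff.1 (hle he)
      exact ((show Commute c (z : R) from hzc c).zpow_right k).eq.symm
    exact CfsgLib.RankTwoTower.pRankLE_of_injective (Subgroup.inclusion h1) (Subgroup.inclusion_injective _) hr
  obtain ⟨x, hxE, hxz⟩ := SetLike.not_le_iff_exists.1 hle
  refine ⟨x, hE.2 x hxE, ?_⟩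
  set B := E ⊔ Subgroup.zpowers (z : R) with hB
  have hgen : ∀ a ∈ (E : Set R) ∪ {(z : R)}, ∀ b ∈ (E : Set R) ∪ {(z : R)}, a * b = b * a := by
    rintro a (ha | ha) b (hb | hb)
    · exact congrArg Subtype.val (hE.1.is_comm.comm (⟨a, ha⟩ : E) ⟨b, hb⟩)
    · rw [Set.mem_singleton_iff.1 hb]; exact hzc a
    · rw [Set.mem_singleton_iff.1 ha]; exact (hzc b).symm
    · rw [Set.mem_singleton_iff.1 ha, Set.mem_singleton_iff.1 hb]
  have hBcl : B = Subgroup.closure ((E : Set R) ∪ {(z : R)}) := by
    rw [Subgroup.closure_union, Subgroup.closure_eq, hB, Subgroup.zpowers_eq_closure]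
  have hBc : ∀ a ∈ B, ∀ b ∈ B, a * b = b * a := by
    rw [hBcl]
    haveI := Subgroup.isMulCommutative_closure hgen
    exact fun a ha b hb => congrArg Subtype.val (mul_comm' (⟨a, ha⟩ : Subgroup.closure ((E : Set R) ∪ {(z : R)})) ⟨b, hb⟩)
  have hBe : ∀ a ∈ B, a ^ p = 1 := by
    have key : ∀ a ∈ Subgroup.closure ((E : Set R) ∪ {(z : R)}), a ^ p = 1 := by
      intro a ha
      induction ha using Subgroup.closure_induction with
      | mem a ha =>
        rcases ha with ha | ha
        · exact hE.2 a ha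
        · rw [Set.mem_singleton_iff.1 ha]; exact hzp
      | one => exact one_pow _
      | mul a b ha hb h1 h2 =>
        rw [(show Commute a b from hBc a (hBcl ▸ ha) b (hBcl ▸ hb)).mul_pow, h1, h2, one_mul]
      | inv a _ h => rw [inv_pow, h, inv_one]
    rw [hBcl]; exact key
  have hBE : B ≤ Subgroup.centralizer (E : Set R) := fun b hb => Subgroup.mem_centralizer_iff.2
    fun e he => hBc e (Subgroup.mem_sup_left he) b hb
  have hB2 : Nat.card B ≤ p ^ 2 := by
    rw [← Nat.card_congr (Subgroup.subgroupOfEquivOfLe hBE).toEquiv]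
    exact hr _ ⟨⟨fun a b => Subtype.ext (Subtype.ext (hBc _ a.2 _ b.2))⟩⟩ (fun a ha => Subtype.ext (hBe _ ha))
  set B' := Subgroup.zpowers x ⊔ Subgroup.zpowers (z : R) with hB'
  have hB'le : B' ≤ B := sup_le ((Subgroup.zpowers_le.2 hxE).trans le_sup_left) le_sup_right
  have heq : B' = B := by
    refine Subgroup.eq_of_le_of_card_ge hB'le (hB2.trans ?_)
    obtain ⟨k, hk⟩ := IsPGroup.iff_card.1 (hR.to_subgroup B')
    rw [hk]
    refine Nat.pow_le_pow_right hpp.pos ?_
    by_contra hk2
    have heq : Subgroup.zpowers (z : R) = B' := Subgroup.eq_of_le_of_card_ge le_sup_right (by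
      rw [hk, Nat.card_zpowers, hzord]
      calc p ^ k ≤ p ^ 1 := Nat.pow_le_pow_right hpp.pos (by omega)
        _ = p := pow_one p)
    exact hxz (heq.ge (Subgroup.mem_sup_left (Subgroup.mem_zpowers x)))
  have h1 : Subgroup.centralizer ({x} : Set R) ≤ Subgroup.centralizer (E : Set R) := by
    intro c hc
    rw [Subgroup.mem_centralizer_iff]
    intro e he
    have hle : B' ≤ Subgroup.centralizer {c} := sup_le
      (Subgroup.zpowers_le.2 (Subgroup.mem_centralizer_singleton_iff.2 (Subgroup.mem_centralizer_singleton_iff.1 hc).symm))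
      (Subgroup.zpowers_le.2 (Subgroup.mem_centralizer_singleton_iff.2 (hzc c).symm))
    exact Subgroup.mem_centralizer_singleton_iff.1 (hle (heq.ge (Subgroup.mem_sup_left he)))
  exact CfsgLib.RankTwoTower.pRankLE_of_injective (Subgroup.inclusion h1) (Subgroup.inclusion_injective _) hr

theorem small_of_equiv {R S : Type*} [Group R] [Group S] {p : ℕ} (e : R ≃* S)
    (h : ∃ x : R, x ^ p = 1 ∧ PRankLE p 2 ↥(Subgroup.centralizer ({x} : Set R))) :
    ∃ y : S, y ^ p = 1 ∧ PRankLE p 2 ↥(Subgroup.centralizer ({y} : Set S)) := by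
  obtain ⟨x, hx, hr⟩ := h
  refine ⟨e x, by rw [← map_pow, hx, map_one], ?_⟩
  let f : ↥(Subgroup.centralizer ({e x} : Set S)) →* ↥(Subgroup.centralizer ({x} : Set R)) :=
    (e.symm.toMonoidHom.comp (Subgroup.centralizer ({e x} : Set S)).subtype).codRestrict _ (fun c => by
      rw [Subgroup.mem_centralizer_singleton_iff]
      have h := congrArg e.symm (Subgroup.mem_centralizer_singleton_iff.1 c.2)
      simpa using h)
  exact CfsgLib.RankTwoTower.pRankLE_of_injective f
    (fun a b h => Subtype.ext (e.symm.injective (congrArg Subtype.val h))) hr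

theorem small_of_narrow {R : Type*} [Group R] [Finite R] {p : ℕ} [Fact p.Prime] (h : IsNarrow p R) :
    ∃ x : R, x ^ p = 1 ∧ PRankLE p 2 ↥(Subgroup.centralizer ({x} : Set R)) := by
  have hpp := (Fact.out : p.Prime)
  rcases h with h | ⟨R₀, R₁, hR₀, hcyc, hdisj, hcomm, hsup⟩
  · exact CfsgLib.RankTwoTower.small_of_rank h
  haveI : IsCyclic R₀ := isCyclic_of_prime_card hR₀
  obtain ⟨x, hx⟩ := (inferInstance : IsCyclic R₀).exists_generator
  have hgen : Subgroup.centralizer ({(x : R)} : Set R) = Subgroup.centralizer (R₀ : Set R) := by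
    refine le_antisymm (fun c hc => Subgroup.mem_centralizer_iff.2 fun e he => ?_)
      (Subgroup.centralizer_le (Set.singleton_subset_iff.2 x.2))
    obtain ⟨k, hk⟩ := Subgroup.mem_zpowers_iff.1 (hx ⟨e, he⟩)
    have hk' : (x : R) ^ k = e := congrArg Subtype.val hk
    rw [← hk']
    exact ((show Commute c (x : R) from Subgroup.mem_centralizer_singleton_iff.1 hc).zpow_right k).eq.symm
  refine ⟨x, ?_, ?_⟩
  · rw [← Subgroup.coe_pow, ← hR₀, pow_card_eq_one']; rfl
  intro A _ hAe
  have hdec : ∀ a : A, ∃ uv : R₀ × {b : R₁ // b ^ p = 1}, ((uv.1 : R) * ((uv.2 : R₁) : R)) = ((a : ↥(Subgroup.centralizer ({(x : R)} : Set R))) : R) := by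
    intro a
    have ha : ((a : ↥(Subgroup.centralizer ({(x : R)} : Set R))) : R) ∈ R₀ ⊔ R₁ := by
      rw [hsup, ← hgen]; exact a.1.2
    have hnorm : R₁ ≤ Subgroup.normalizer (R₀ : Set R) := by
      refine le_trans (fun b hb => ?_) (Subgroup.centralizer_le_normalizer _)
      exact Subgroup.mem_centralizer_iff.2 fun u hu => hcomm u hu b hb
    rw [← SetLike.mem_coe, Subgroup.coe_mul_of_right_le_normalizer_left _ _ hnorm] at ha
    obtain ⟨u, hu, b, hb, hub⟩ := Set.mem_mul.1 ha
    have hap : ((a : ↥(Subgroup.centralizer ({(x : R)} : Set R))) : R) ^ p = 1 := congrArg Subtype.val (hAe a.1 a.2)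
    rw [← hub, (show Commute u b from hcomm u hu b hb).mul_pow,
      show u ^ p = 1 from by
        have := congrArg Subtype.val (pow_card_eq_one' (G := R₀) (x := ⟨u, hu⟩))
        rwa [hR₀] at this, one_mul] at hap
    exact ⟨⟨⟨u, hu⟩, ⟨⟨b, hb⟩, Subtype.ext hap⟩⟩, hub⟩
  choose f hf using hdec
  have hinj : Function.Injective f := fun a b h => by
    have h1 := hf a
    rw [h, hf b] at h1
    exact Subtype.ext (Subtype.ext h1.symm)
  refine (Nat.card_le_card_of_injective f hinj).trans ?_
  rw [Nat.card_prod, hR₀, pow_two]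
  refine Nat.mul_le_mul_left _ ?_
  classical
  haveI := Fintype.ofFinite R₁
  rw [Nat.card_eq_fintype_card, Fintype.card_subtype]
  exact IsCyclic.card_pow_eq_one_le hpp.pos

end CfsgLib.NarrowStructure

namespace CfsgLib.PStructure

open Cfsg

variable {G : Type*} [Group G] [Finite G] {p : ℕ} [hp : Fact p.Prime]

theorem derived_of_small [Group.IsSolvable G] (hodd : Odd (Nat.card G)) (hp2 : p ≠ 2)
    (hO : pPrimeCore p G = ⊥)
    (hr : ∃ x : ↥(pCore p G), x ^ p = 1 ∧ PRankLE p 2 ↥(Subgroup.centralizer ({x} : Set ↥(pCore p G)))) :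
    IsPGroup p (commutator G) ∧ ∀ q : ℕ, q.Prime → q ≠ p → q ∣ Nat.card G → q < p := by
  obtain ⟨x0, hx0, hr0⟩ := hr
  set P := pCore p G with hP
  have hPp : IsPGroup p P := CfsgLib.isPGroup_pCore p
  haveI : P.Normal := hP ▸ (inferInstance : (pCore p G).Normal)
  let φ : G →* MulAut P := MulAut.conjNormal
  have hker : IsPGroup p φ.ker := by
    refine hPp.to_le (fun g hg => CfsgLib.centralizer_pCore_le Fact.out hO ?_)
    rw [Subgroup.mem_centralizer_iff]
    intro x hx
    have h := congrArg (fun α => ((α ⟨x, hx⟩ : P) : G)) (MonoidHom.mem_ker.1 hg)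
    simp only [φ, MulAut.conjNormal_apply, MulAut.one_apply] at h
    exact (mul_inv_eq_iff_eq_mul.1 h).symm
  haveI : Finite (MulAut P) := Finite.of_injective (fun f => (f : P → P)) DFunLike.coe_injective
  haveI : Group.IsSolvable φ.range := solvable_of_surjective φ.rangeRestrict_surjective
  have hoddA : Odd (Nat.card φ.range) := hodd.of_dvd_nat (Subgroup.card_range_dvd φ)
  have hA := CfsgLib.NarrowDerived.derived_isPGroup hp2 hPp hx0 hr0 hoddA φ.range.subtype Subtype.val_injective
  constructor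
  · intro g
    have hg : φ.rangeRestrict g.1 ∈ commutator φ.range := by
      have h1 : (commutator G).map φ.rangeRestrict ≤ commutator φ.range := by
        rw [commutator_def, Subgroup.map_commutator]
        exact Subgroup.commutator_mono le_top le_top
      exact h1 ⟨g.1, g.2, rfl⟩
    obtain ⟨k, hk⟩ := hA ⟨_, hg⟩
    have hmem : g.1 ^ p ^ k ∈ φ.ker := by
      rw [MonoidHom.mem_ker, map_pow]
      exact congrArg (fun y : ↥(commutator φ.range) => ((y : φ.range) : MulAut P)) hk
    obtain ⟨j, hj⟩ := hker ⟨_, hmem⟩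
    refine ⟨k + j, Subtype.ext ?_⟩
    rw [SubmonoidClass.coe_pow, pow_add, pow_mul]
    exact congrArg Subtype.val hj
  · intro q hq hqp hdvd
    refine CfsgLib.NarrowDerived.aut_prime_lt hp2 hPp hx0 hr0 hq hqp ?_
    obtain ⟨j, hj⟩ := IsPGroup.iff_card.1 hker
    have h1 : Nat.card G = Nat.card φ.range * p ^ j := by
      rw [← hj, ← Nat.card_congr (QuotientGroup.quotientKerEquivRange φ).toEquiv,
        ← Subgroup.card_eq_card_quotient_mul_card_subgroup]
    rw [h1] at hdvd
    rcases hq.dvd_mul.1 hdvd with h | h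
    · exact h.trans (Subgroup.card_subgroup_dvd_card _)
    · exact absurd ((Nat.prime_dvd_prime_iff_eq hq Fact.out).1 (hq.dvd_of_dvd_pow h)) hqp

end CfsgLib.PStructure
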