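/-
Groups of `p`-length at most one.
-/
import Mathlib
import Cfsg.Agent.Lib.PSolvable
import Cfsg.Agent.Lib.Coprime

set_option autoImplicit false

namespace CfsgLib.PLengthOne

open Subgroup Cfsg

universe u
variable {G : Type u} [Group G] [Finite G] {p : ℕ} [Fact p.Prime]

theorem series_one : (upperPSeries p G 1).1 = pPrimeCore p G := by
  show (if Even 0 then
      (⟨(pPrimeCore p (G ⧸ (⊥ : Subgroup G))).comap (QuotientGroup.mk' ⊥), inferInstance⟩ :
        {H : Subgroup G // H.Normal})
    else ⟨(pCore p (G ⧸ (⊥ : Subgroup G))).comap (QuotientGroup.mk' ⊥), inferInstance⟩).1 = _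
  rw [if_pos Even.zero]
  refine le_antisymm ?_ ?_
  · refine le_pPrimeCore ?_
    have hinj : Function.Injective (QuotientGroup.mk' (⊥ : Subgroup G)) := by
      rw [← MonoidHom.ker_eq_bot_iff, QuotientGroup.ker_mk']
    refine Nat.Coprime.coprime_dvd_left ?_ (card_pPrimeCore_coprime (G := G ⧸ (⊥ : Subgroup G)) p)
    rw [← Subgroup.card_map_of_injective hinj]
    exact Subgroup.card_dvd_of_le (Subgroup.map_comap_le _ _)
  · refine Subgroup.map_le_iff_le_comap.mp (le_pPrimeCore (hN := ?_) ?_)
    · exact Subgroup.Normal.map inferInstance _ (QuotientGroup.mk'_surjective _)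
    · exact (card_pPrimeCore_coprime p).coprime_dvd_left (Subgroup.card_map_dvd _ _)

/-- `O_p(G / O_{p'})` contains the image of every `p`-subgroup when the `p`-length is one. -/
theorem map_le_pCore (h : PLengthLE p 1 G) {S : Subgroup G} (hS : IsPGroup p S) :
    S.map (QuotientGroup.mk' (pPrimeCore p G)) ≤ pCore p (G ⧸ pPrimeCore p G) := by
  have h2 : (upperPSeries p G 2).1 =
      (pCore p (G ⧸ (upperPSeries p G 1).1)).comap (QuotientGroup.mk' (upperPSeries p G 1).1) := by
    show (if Even 1 then _ else _ : {H : Subgroup G // H.Normal}).1 = _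
    rw [if_neg (by decide)]
  have h3 : (upperPSeries p G 3).1 =
      (pPrimeCore p (G ⧸ (upperPSeries p G 2).1)).comap (QuotientGroup.mk' (upperPSeries p G 2).1) := by
    show (if Even 2 then _ else _ : {H : Subgroup G // H.Normal}).1 = _
    rw [if_pos (by decide)]
  set U := (upperPSeries p G 2).1 with hU
  have htop : (pPrimeCore p (G ⧸ U)) = ⊤ := by
    have h' : (upperPSeries p G 3).1 = ⊤ := h
    rw [h3] at h'
    rw [eq_top_iff]
    intro x _
    obtain ⟨g, rfl⟩ := QuotientGroup.mk'_surjective U x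
    have hg : g ∈ (pPrimeCore p (G ⧸ U)).comap (QuotientGroup.mk' U) := h' ▸ mem_top g
    exact hg
  have hSU : S ≤ U := by
    intro s hs
    obtain ⟨k, hk⟩ := hS ⟨s, hs⟩
    have h4 := (pPrimeCore p (G ⧸ U)).orderOf_dvd_natCard (show QuotientGroup.mk' U s ∈ _ from htop ▸ mem_top _)
    have h5 : orderOf (QuotientGroup.mk' U s) ∣ p ^ k := orderOf_dvd_of_pow_eq_one (by
      rw [← map_pow, show s ^ p ^ k = 1 by simpa using congrArg Subtype.val hk, map_one])
    exact (QuotientGroup.eq_one_iff s).mp (orderOf_eq_one_iff.mp (Nat.eq_one_of_dvd_coprimes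
      (((card_pPrimeCore_coprime p).pow_right k)) h4 h5))
  have key : ∀ (N : Subgroup G) [N.Normal], N = pPrimeCore p G →
      S ≤ (pCore p (G ⧸ N)).comap (QuotientGroup.mk' N) →
      S.map (QuotientGroup.mk' (pPrimeCore p G)) ≤ pCore p (G ⧸ pPrimeCore p G) := by
    rintro N _ rfl hle
    exact Subgroup.map_le_iff_le_comap.mpr hle
  exact key (upperPSeries p G 1).1 series_one (hSU.trans h2.le)

theorem sup_normal (h : PLengthLE p 1 G) (S : Sylow p G) : ((S : Subgroup G) ⊔ pPrimeCore p G).Normal := by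
  set π := QuotientGroup.mk' (pPrimeCore p G)
  have hπs : Function.Surjective π := QuotientGroup.mk'_surjective _
  have e : (S : Subgroup G).map π = pCore p (G ⧸ pPrimeCore p G) :=
    le_antisymm (map_le_pCore h S.2) (CfsgLib.pCore_le_sylow (S.mapSurjective hπs))
  have h2 : ((S : Subgroup G).map π).comap π = (S : Subgroup G) ⊔ pPrimeCore p G := by
    rw [Subgroup.comap_map_eq, QuotientGroup.ker_mk']
  rw [← h2, e]
  exact Subgroup.normal_comap π

theorem disjoint_core {S : Subgroup G} (hS : IsPGroup p S) : Disjoint S (pPrimeCore p G) := by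
  obtain ⟨k, hk⟩ := IsPGroup.exists_card_eq hS
  refine Subgroup.disjoint_of_coprime_natCard ?_
  rw [hk]
  exact ((CfsgLib.card_pPrimeCore_coprime (G := G) p).pow_right k).symm

/-- `G = N(S) O_{p'}`. -/
theorem exists_normalizer_mul (h : PLengthLE p 1 G) (S : Sylow p G) (x : G) :
    ∃ n ∈ normalizer ((S : Subgroup G) : Set G), ∃ o ∈ pPrimeCore p G, n * o = x := by
  haveI := sup_normal h S
  set M := (S : Subgroup G) ⊔ pPrimeCore p G
  set S' : Sylow p M := S.subtype le_sup_left
  have hf := Sylow.normalizer_sup_eq_top S'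
  have e : (S' : Subgroup M).map M.subtype = (S : Subgroup G) := by
    show ((S : Subgroup G).subgroupOf M).map M.subtype = _
    rw [Subgroup.map_subgroupOf_eq_of_le le_sup_left]
  rw [e] at hf
  have hf2 : normalizer ((S : Subgroup G) : Set G) ⊔ pPrimeCore p G = ⊤ := by
    refine top_le_iff.mp (hf.ge.trans (sup_le le_sup_left ?_))
    exact sup_le (Subgroup.le_normalizer.trans le_sup_left) le_sup_right
  exact Subgroup.mem_sup_of_normal_right.mp (hf2 ▸ mem_top x)

end CfsgLib.PLengthOne
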