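import Mathlib
import Cfsg.Prelude.Def_Transfer
import Cfsg.Prelude.Def_OddOrderLocal
import Cfsg.Agent.Lib.OddLocal.NarrowDerived
import Cfsg.Agent.Lib.PGroup.MetacyclicRank
import Cfsg.Agent.Lib.UniqueSubgroup
import Cfsg.Agent.S1453

/-!
Automorphisms of prime order of narrow `p`-groups.
-/

set_option autoImplicit false
set_option linter.unusedSectionVars false

namespace CfsgLib.NarrowAut

open scoped commutatorElement

universe u

variable {R : Type u} [Group R] [Finite R] {p : ℕ} [Fact p.Prime]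

/-- The subgroup of fixed points. -/
def fixedIn (D : Subgroup R) (α : MulAut R) : Subgroup R where
  carrier := {x | x ∈ D ∧ α x = x}
  one_mem' := ⟨one_mem D, map_one α⟩
  mul_mem' := fun {a b} ha hb => ⟨mul_mem ha.1 hb.1, by rw [map_mul, ha.2, hb.2]⟩
  inv_mem' := fun {a} ha => ⟨inv_mem ha.1, by rw [map_inv, ha.2]⟩

theorem fixed_all_or (hR : IsPGroup p R) {q : ℕ} [Fact q.Prime] (hqp : q ≠ p) {D : Subgroup R} {α : MulAut R}
    (hαq : α ^ q = 1) (hD : ∀ d ∈ D, α d ∈ D) {n : ℕ} (hn : Nat.card D = p ^ n) :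
    (∀ d ∈ D, α d = d) ∨ ∃ i < n, Nat.card (fixedIn D α) = p ^ i ∧ q ∣ p ^ (n - i) - 1 := by
  have hp := (Fact.out : p.Prime)
  obtain ⟨i, hi⟩ := IsPGroup.iff_card.1 (hR.to_subgroup (fixedIn D α))
  by_cases hin : i < n
  · right
    refine ⟨i, hin, hi, ?_⟩
    have hcg := CfsgLib.PGroupRankTwo.fixed_congr hαq hD (fixedIn D α) (fun x => Iff.rfl)
    rw [hi, hn] at hcg
    have hdvd : q ∣ p ^ i * (p ^ (n - i) - 1) := by
      rw [Nat.mul_sub, mul_one, ← pow_add, Nat.add_sub_of_le hin.le]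
      exact (Nat.modEq_iff_dvd' (Nat.pow_le_pow_right hp.pos hin.le)).1 hcg
    rcases (Fact.out : q.Prime).dvd_mul.1 hdvd with h | h
    · exact absurd ((Nat.prime_dvd_prime_iff_eq Fact.out hp).1 ((Fact.out : q.Prime).dvd_of_dvd_pow h)) hqp
    · exact h
  · left
    have heq : fixedIn D α = D := Subgroup.eq_of_le_of_card_ge (fun x hx => hx.1) (by
      rw [hi, hn]; exact Nat.pow_le_pow_right hp.pos (not_lt.1 hin))
    exact fun d hd => (heq.ge hd).2

theorem fixed_of_card_prime (hR : IsPGroup p R) {q : ℕ} [Fact q.Prime] (hq1 : ¬ q ∣ p - 1) (hqp : q ≠ p)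
    {D : Subgroup R} {α : MulAut R} (hαq : α ^ q = 1) (hD : ∀ d ∈ D, α d ∈ D) (hn : Nat.card D = p) :
    ∀ d ∈ D, α d = d := by
  rcases fixed_all_or hR hqp hαq hD (n := 1) (by rw [hn, pow_one]) with h | ⟨i, hi, -, h⟩
  · exact h
  · obtain rfl : i = 0 := by omega
    rw [Nat.sub_zero, pow_one] at h
    exact absurd h hq1

theorem mulAut_pow_sub_one {V : Type*} [Group V] [Finite V] (hV : Nat.card V ∣ p) (β : MulAut V) :
    β ^ (p - 1) = 1 := by
  have hp := (Fact.out : p.Prime)
  rcases (Nat.dvd_prime hp).1 hV with h | h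
  · haveI := (Nat.card_eq_one_iff_unique.1 h).1
    exact MulEquiv.ext fun v => Subsingleton.elim _ _
  · haveI := isCyclic_of_prime_card h
    haveI : Finite (MulAut V) := Finite.of_injective (fun f => (f : V → V)) DFunLike.coe_injective
    refine orderOf_dvd_iff_pow_eq_one.1 ((orderOf_dvd_natCard β).trans ?_)
    rw [IsCyclic.card_mulAut, h, Nat.totient_prime hp]

theorem factor_pow_sub_one {N M : Subgroup R} [M.Characteristic] [N.Characteristic]
    (hc : Nat.card (N ⧸ M.subgroupOf N) ∣ p) (α : MulAut R) : ∀ d ∈ N, d⁻¹ * (α ^ (p - 1)) d ∈ M := by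
  intro d hd
  set αN := CfsgLib.RankTwoDerived.restrictAut N α with hαN
  have hmap : (M.subgroupOf N).map (αN : ↥N →* ↥N) = M.subgroupOf N := by
    ext z
    constructor
    · rintro ⟨w, hw, rfl⟩
      exact CfsgLib.Small.apply_mem_of_char (C := M) α (Subgroup.mem_subgroupOf.1 hw)
    · intro hz
      exact ⟨αN.symm z, CfsgLib.Small.apply_mem_of_char (C := M) α.symm (Subgroup.mem_subgroupOf.1 hz),
        αN.apply_symm_apply z⟩
  set β := QuotientGroup.congr (M.subgroupOf N) (M.subgroupOf N) αN hmap with hβ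
  have hβpow : ∀ (i : ℕ) (z : N), ((β : MulAut (N ⧸ M.subgroupOf N)) ^ i) (QuotientGroup.mk z) =
      QuotientGroup.mk ((αN ^ i) z) := by
    intro i
    induction i with
    | zero => intro z; rfl
    | succ i ihi =>
      intro z
      rw [pow_succ', pow_succ', MulAut.mul_apply, MulAut.mul_apply, ihi]
      rfl
  have h := hβpow (p - 1) ⟨d, hd⟩
  rw [mulAut_pow_sub_one hc, MulAut.one_apply, hαN, ← map_pow] at h
  exact Subgroup.mem_subgroupOf.1 (QuotientGroup.eq.1 h)

theorem pow_sub_one_eq_one (hp : p ≠ 2) (hR : IsPGroup p R) (hr : ¬ Cfsg.PRankLE p 2 R) {x : R}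
    (hx : x ^ p = 1) (hx1 : x ≠ 1)
    (hcount : Nat.card {c : R // c * x = x * c ∧ c ^ p = 1} ≤ p ^ 2) {α : MulAut R} (hα : (orderOf α).Coprime p) :
    α ^ (p - 1) = 1 := by
  classical
  have hpp := (Fact.out : p.Prime)
  have hxord : orderOf x = p := orderOf_eq_prime hx hx1
  have habel : ∀ B : Subgroup R, B ≤ Subgroup.centralizer {x} → (∀ b ∈ B, b ^ p = 1) → Nat.card B ≤ p ^ 2 := by
    intro B hB he
    refine le_trans (Nat.card_le_card_of_injective
      (fun b : B => (⟨b, Subgroup.mem_centralizer_singleton_iff.1 (hB b.2), he b b.2⟩ :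
        {c : R // c * x = x * c ∧ c ^ p = 1})) ?_) hcount
    exact fun a b h => Subtype.ext (congrArg (fun z : {c : R // c * x = x * c ∧ c ^ p = 1} => z.1) h)
  have hxc : ∀ A : Subgroup R, (∀ a ∈ A, a * x = x * a) → A ≤ Subgroup.centralizer {x} :=
    fun A h a ha => Subgroup.mem_centralizer_singleton_iff.2 (h a ha)
  haveI : Nontrivial R := ⟨⟨x, 1, hx1⟩⟩
  haveI := hR.center_nontrivial
  have hdvd : p ∣ Nat.card ↥(Subgroup.center R) := by
    obtain ⟨k, hk⟩ := IsPGroup.iff_card.1 (hR.to_subgroup (Subgroup.center R))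
    rw [hk]
    rcases k with _ | k
    · rw [pow_zero] at hk
      exact absurd hk (Finite.one_lt_card).ne'
    · exact dvd_pow_self p k.succ_ne_zero
  obtain ⟨z, hz⟩ := exists_prime_orderOf_dvd_card' p hdvd
  have hzp : (z : R) ^ p = 1 := by rw [← Subgroup.coe_pow, ← hz, pow_orderOf_eq_one]; rfl
  have hzord : orderOf (z : R) = p := by rw [Subgroup.orderOf_coe, hz]
  have hzc : ∀ c : R, c * (z : R) = (z : R) * c := fun c => Subgroup.mem_center_iff.1 z.2 c
  have hxz : x ∉ Subgroup.center R := by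
    intro hxc'
    refine hr fun A _ hAe => habel A (hxc A fun a _ => Subgroup.mem_center_iff.1 hxc' a) hAe
  set E := Subgroup.zpowers x ⊔ Subgroup.zpowers (z : R) with hE
  have hgen : ∀ a ∈ ({x, (z : R)} : Set R), ∀ b ∈ ({x, (z : R)} : Set R), a * b = b * a := by
    simp only [Set.mem_insert_iff, Set.mem_singleton_iff]
    rintro a (ha | ha) b (hb | hb) <;> rw [ha, hb] <;>
      first
      | exact hzc x
      | exact (hzc x).symm
  have hEcl : E = Subgroup.closure ({x, (z : R)} : Set R) := by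
    rw [hE, Set.insert_eq, Subgroup.closure_union, Subgroup.zpowers_eq_closure, Subgroup.zpowers_eq_closure]
  have hEc : ∀ a ∈ E, ∀ b ∈ E, a * b = b * a := by
    rw [hEcl]
    haveI := Subgroup.isMulCommutative_closure hgen
    exact fun a ha b hb => congrArg Subtype.val (mul_comm' (⟨a, ha⟩ : Subgroup.closure ({x, (z : R)} : Set R)) ⟨b, hb⟩)
  have hEe : ∀ a ∈ E, a ^ p = 1 := by
    have key : ∀ a ∈ Subgroup.closure ({x, (z : R)} : Set R), a ^ p = 1 := by
      intro a ha
      induction ha using Subgroup.closure_induction with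
      | mem a ha =>
        simp only [Set.mem_insert_iff, Set.mem_singleton_iff] at ha
        rcases ha with ha | ha <;> rw [ha]
        · exact hx
        · exact hzp
      | one => exact one_pow _
      | mul a b ha hb h1 h2 =>
        rw [(show Commute a b from hEc a (hEcl ▸ ha) b (hEcl ▸ hb)).mul_pow, h1, h2, one_mul]
      | inv a _ h => rw [inv_pow, h, inv_one]
    rw [hEcl]; exact key
  have hEX : E ≤ Subgroup.centralizer {x} := hxc E fun a ha => hEc a ha x (Subgroup.mem_sup_left (Subgroup.mem_zpowers x))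
  have hE2 : Nat.card E = p ^ 2 := by
    obtain ⟨k, hk⟩ := IsPGroup.iff_card.1 (hR.to_subgroup E)
    have hk2 : k ≤ 2 := (Nat.pow_le_pow_iff_right hpp.one_lt).1 (hk ▸ habel E hEX hEe)
    rw [hk]
    congr 1
    by_contra hne
    have heq : Subgroup.zpowers (z : R) = E := Subgroup.eq_of_le_of_card_ge le_sup_right (by
      rw [hk, Nat.card_zpowers, hzord]
      calc p ^ k ≤ p ^ 1 := Nat.pow_le_pow_right hpp.pos (by omega)
        _ = p := pow_one p)
    obtain ⟨j, hj⟩ := Subgroup.mem_zpowers_iff.1 (heq.ge (Subgroup.mem_sup_left (Subgroup.mem_zpowers x)))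
    exact hxz (hj ▸ zpow_mem z.2 j)
  have hEmax : ∀ B : Subgroup R, Cfsg.IsElementaryAbelian p B → E ≤ B → B = E := by
    intro B hB hle
    refine (Subgroup.eq_of_le_of_card_ge hle ?_).symm
    rw [hE2]
    refine habel B (hxc B fun b hb => ?_) hB.2
    exact congrArg Subtype.val (hB.1.is_comm.comm (⟨b, hb⟩ : B) ⟨x, hle (Subgroup.mem_sup_left (Subgroup.mem_zpowers x))⟩)
  obtain ⟨hnot, -, -, hTch, hTind⟩ := Cfsg.Agent.S1453.result p hp hR hr E
    ⟨⟨⟨fun a b => Subtype.ext (hEc _ a.2 _ b.2)⟩⟩, hEe⟩ hE2 hEmax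
  set T := Subgroup.centralizer
    ((Subgroup.closure {x : R | x ∈ Subgroup.upperCentralSeries R 2 ∧ x ^ p = 1} : Subgroup R) : Set R) with hT
  haveI := hTch
  have hxT : x ∉ T := fun h => hnot (sup_le (Subgroup.zpowers_le.2 h)
    (Subgroup.zpowers_le.2 (Subgroup.mem_centralizer_iff.2 fun w _ => hzc w)))
  obtain ⟨D, hDch, hDe, -, hDf⟩ := CfsgLib.NarrowDerived.exists_omega_critical hp hR
  set T' := D ⊓ T with hT'
  haveI : T'.Characteristic := inferInstance
  have hsmall : Nat.card ↥(T' ⊓ Subgroup.centralizer {x}) ≤ p := by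
    set C := T' ⊓ Subgroup.centralizer {x} with hC
    refine Nat.le_of_mul_le_mul_right (?_ : Nat.card C * p ≤ p * p) hpp.pos
    rw [← pow_two]
    conv_lhs => rw [← hxord, ← Nat.card_zpowers, ← Nat.card_prod]
    refine le_trans (Nat.card_le_card_of_injective (fun cu : C × Subgroup.zpowers x =>
      (⟨(cu.1 : R) * (cu.2 : R), ?_, ?_⟩ : {c : R // c * x = x * c ∧ c ^ p = 1})) ?_) hcount
    · obtain ⟨i, hi⟩ := Subgroup.mem_zpowers_iff.1 cu.2.2
      have h1 : Commute (cu.1 : R) x := Subgroup.mem_centralizer_singleton_iff.1 (Subgroup.mem_inf.1 cu.1.2).2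
      rw [← hi]
      exact (h1.mul_left ((Commute.refl x).zpow_left i)).eq
    · obtain ⟨i, hi⟩ := Subgroup.mem_zpowers_iff.1 cu.2.2
      have h1 : Commute (cu.1 : R) x := Subgroup.mem_centralizer_singleton_iff.1 (Subgroup.mem_inf.1 cu.1.2).2
      rw [← hi, (h1.zpow_right i).mul_pow, hDe _ (Subgroup.mem_inf.1 (Subgroup.mem_inf.1 cu.1.2).1).1,
        ← zpow_natCast, ← zpow_mul, mul_comm, zpow_mul, zpow_natCast, hx, one_zpow, one_mul]
    · intro a b hab
      have h : (a.1 : R) * a.2 = b.1 * b.2 := congrArg Subtype.val hab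
      have hd : Disjoint C (Subgroup.zpowers x) := by
        rw [Subgroup.disjoint_def]
        intro w hw hwx
        by_contra hw1
        have hle : Subgroup.zpowers w = Subgroup.zpowers x := Subgroup.eq_of_le_of_card_ge (Subgroup.zpowers_le.2 hwx) (by
          rw [Nat.card_zpowers, Nat.card_zpowers, hxord]
          exact le_of_eq (orderOf_eq_prime (hDe _ (Subgroup.mem_inf.1 (Subgroup.mem_inf.1 hw).1).1) hw1).symm)
        exact hxT ((Subgroup.zpowers_le.2 (Subgroup.mem_inf.1 (Subgroup.mem_inf.1 hw).1).2) (hle.ge (Subgroup.mem_zpowers x)))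
      exact Subgroup.mul_injective_of_disjoint hd h
  set β := α ^ (p - 1) with hβ
  have hβc : (orderOf β).Coprime p := Nat.Coprime.coprime_dvd_left (orderOf_pow_dvd (p - 1)) hα
  have main : ∀ n, ∀ N : Subgroup R, Nat.card N = n → N.Characteristic → N ≤ T' → ∀ d ∈ N, β d = d := by
    intro n
    induction n using Nat.strong_induction_on with
    | _ n ih =>
      intro N hn hNch hNT d hd
      haveI := hNch
      by_cases hN : N = ⊥
      · rw [hN, Subgroup.mem_bot] at hd; rw [hd, map_one]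
      set M := ⁅N, (⊤ : Subgroup R)⁆ with hM
      have hlt : M < N := CfsgLib.NarrowDerived.commutator_top_lt hR N hN
      haveI hMch : M.Characteristic := Subgroup.commutator_characteristic N ⊤
      have hc : Nat.card (N ⧸ M.subgroupOf N) ∣ p := by
        have h1 := CfsgLib.NarrowDerived.card_le_commutator_mul N x
        have h2 : Nat.card ↥(N ⊓ Subgroup.centralizer {x}) ≤ p :=
          (Nat.le_of_dvd Nat.card_pos (Subgroup.card_dvd_of_le (inf_le_inf_right _ hNT))).trans hsmall
        have h3 := Subgroup.card_eq_card_quotient_mul_card_subgroup (M.subgroupOf N)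
        rw [Nat.card_congr (Subgroup.subgroupOfEquivOfLe hlt.le).toEquiv] at h3
        have h4 : Nat.card (N ⧸ M.subgroupOf N) ≤ p := by
          refine Nat.le_of_mul_le_mul_right (?_ : Nat.card (N ⧸ M.subgroupOf N) * Nat.card M ≤ p * Nat.card M) Nat.card_pos
          calc Nat.card (N ⧸ M.subgroupOf N) * Nat.card M = Nat.card N := h3.symm
            _ ≤ Nat.card M * Nat.card ↥(N ⊓ Subgroup.centralizer {x}) := h1
            _ ≤ p * Nat.card M := by rw [mul_comm p]; exact Nat.mul_le_mul_left _ h2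
        obtain ⟨j, hj⟩ := IsPGroup.iff_card.1 ((hR.to_subgroup N).to_quotient (M.subgroupOf N))
        rw [hj] at h4 ⊢
        exact (pow_dvd_pow p ((Nat.pow_le_pow_iff_right hpp.one_lt).1 (h4.trans (pow_one p).ge))).trans (pow_one p).dvd
      have hstep := factor_pow_sub_one hc α d hd
      have hfM := ih (Nat.card M)
        (hn ▸ lt_of_le_of_ne (Nat.le_of_dvd Nat.card_pos (Subgroup.card_dvd_of_le hlt.le))
          (fun h => hlt.ne (Subgroup.eq_of_le_of_card_ge hlt.le h.ge))) M rfl hMch (hlt.le.trans hNT)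
      exact CfsgLib.Small.apply_eq_self_of_step hR hβc (hfM _ hstep)
  refine hDf β hβc fun d hd => ?_
  have hc : Nat.card (D ⧸ T'.subgroupOf D) ∣ p := by
    rw [← Subgroup.index_eq_card, show (T'.subgroupOf D).index = T'.relIndex D from rfl, hT', inf_comm,
      Subgroup.inf_relIndex_right, ← hTind]
    exact Subgroup.relIndex_dvd_index_of_normal T D
  exact CfsgLib.Small.apply_eq_self_of_step hR hβc
    (main _ T' rfl inferInstance le_rfl _ (factor_pow_sub_one (M := T') hc α d hd))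

theorem fix_cyclic (hR : IsPGroup p R) {C : Subgroup R} {α : MulAut R} (hα : (orderOf α).Coprime p)
    (hC : ∀ c ∈ C, α c ∈ C) [IsCyclic C] (hfix : ∀ c ∈ C, c ^ p = 1 → α c = c) : ∀ c ∈ C, α c = c := by
  have hpp := (Fact.out : p.Prime)
  intro c hc
  induction h : orderOf c using Nat.strong_induction_on generalizing c with
  | _ n ih =>
    subst h
    obtain ⟨k, hk⟩ := IsPGroup.iff_orderOf.1 hR c
    rcases k with _ | k
    · rw [pow_zero] at hk
      rw [orderOf_eq_one_iff.1 hk, map_one]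
    obtain ⟨g, hg⟩ := (inferInstance : IsCyclic C).exists_generator
    obtain ⟨m, hm⟩ := Subgroup.mem_zpowers_iff.1 (hg ⟨α g, hC g g.2⟩)
    obtain ⟨i, hi⟩ := Subgroup.mem_zpowers_iff.1 (hg ⟨c, hc⟩)
    have hc' : c = (g : R) ^ i := (congrArg Subtype.val hi).symm
    have hm' : (g : R) ^ m = α g := congrArg Subtype.val hm
    have hαc : α c = c ^ m := by
      rw [hc', map_zpow, ← hm', ← zpow_mul, ← zpow_mul, mul_comm]
    have hz : (c ^ p ^ k) ^ p = 1 := by rw [← pow_mul, ← pow_succ, ← hk, pow_orderOf_eq_one]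
    have hf := hfix _ (pow_mem hc _) hz
    have h1 : c ^ ((m - 1) * (p ^ k : ℕ)) = 1 := by
      rw [map_pow, hαc, ← zpow_natCast, ← zpow_natCast c, ← zpow_mul] at hf
      rw [sub_mul, one_mul, zpow_sub, hf, mul_inv_cancel]
    have h2 : ((p ^ (k + 1) : ℕ) : ℤ) ∣ (m - 1) * (p ^ k : ℕ) := hk ▸ orderOf_dvd_iff_zpow_eq_one.2 h1
    have h3 : (p : ℤ) ∣ m - 1 := by
      rw [pow_succ', Nat.cast_mul] at h2
      exact Int.dvd_of_mul_dvd_mul_right (by exact_mod_cast (pow_pos hpp.pos k).ne') h2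
    refine CfsgLib.Small.apply_eq_self_of_step hR hα (ih (orderOf (c⁻¹ * α c)) ?_ _ (mul_mem (inv_mem hc) (hC c hc)) rfl)
    obtain ⟨t, ht⟩ := h3
    have he : c⁻¹ * α c = (c ^ p) ^ t := by
      rw [hαc, ← zpow_natCast, ← zpow_mul, ← ht, zpow_sub, zpow_one]
      exact ((Commute.refl c).inv_left.zpow_right m).eq
    rw [he]
    refine lt_of_le_of_lt (Nat.le_of_dvd (orderOf_pos _) (orderOf_dvd_of_mem_zpowers (Subgroup.zpow_mem_zpowers (c ^ p) t))) ?_
    rw [orderOf_pow' c hpp.ne_zero, hk, Nat.gcd_eq_right (dvd_pow_self p k.succ_ne_zero)]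
    exact Nat.div_lt_self (pow_pos hpp.pos _) hpp.one_lt

theorem moves_into_three (hp : p ≠ 2) (hR : IsPGroup p R) (hrk : Cfsg.PRankLE p 2 R) {q : ℕ} [Fact q.Prime]
    (hq2 : q ≠ 2) (hqp : q ≠ p) (hq1 : ¬ q ∣ p - 1) {α : MulAut R} (hαq : α ^ q = 1) (hα1 : α ≠ 1)
    (hnab : ¬ ∀ a b : R, a * b = b * a) :
    ∃ D : Subgroup R, Nat.card D = p ^ 3 ∧ ∀ r : R, r⁻¹ * α r ∈ D := by
  classical
  have hpp := (Fact.out : p.Prime)
  have hqq := (Fact.out : q.Prime)
  have hαc : (orderOf α).Coprime p :=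
    Nat.Coprime.coprime_dvd_left (orderOf_dvd_of_pow_eq_one hαq) ((Nat.coprime_primes hqq hpp).2 hqp)
  obtain ⟨D, hDch, hDe, hD2, hDf⟩ := CfsgLib.NarrowDerived.exists_omega_critical hp hR
  haveI := hDch
  have hDα : ∀ d ∈ D, α d ∈ D := fun d hd => CfsgLib.Small.apply_mem_of_char α hd
  have hmv : ¬ ∀ d ∈ D, α d = d := fun h => hα1 (hDf α hαc h)
  obtain ⟨n, hn⟩ := IsPGroup.iff_card.1 (hR.to_subgroup D)
  have hn3 : n ≤ 3 := (Nat.pow_le_pow_iff_right hpp.one_lt).1
    (hn ▸ CfsgLib.PGroupRankTwo.card_exp_class_two_le hR hrk hDe hD2)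
  have habl : ∀ S : Subgroup R, (∀ a ∈ S, ∀ b ∈ S, a * b = b * a) → (∀ a ∈ S, a ^ p = 1) → Nat.card S ≤ p ^ 2 :=
    fun S h he => hrk S ⟨⟨fun a b => Subtype.ext (h _ a.2 _ b.2)⟩⟩ he
  have hstable : ∀ K : Subgroup R, (∀ k ∈ K, α k ∈ K) → ∀ i, Nat.card K = p ^ i → i ≤ 1 → ∀ k ∈ K, α k = k := by
    intro K hK i hi hi1
    rcases i with _ | i
    · intro k hk
      rw [pow_zero] at hi
      rw [Subgroup.eq_bot_of_card_eq _ hi, Subgroup.mem_bot] at hk
      rw [hk, map_one]
    · obtain rfl : i = 0 := by omega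
      rw [zero_add, pow_one] at hi
      exact fixed_of_card_prime hR hq1 hqp hαq hK hi
  by_cases hDab : ∀ a ∈ D, ∀ b ∈ D, a * b = b * a
  · exfalso
    have hn2 : n = 2 := by
      have h := (Nat.pow_le_pow_iff_right hpp.one_lt).1 (hn ▸ habl D hDab hDe)
      by_contra hne
      exact hmv (hstable D hDα n hn (by omega))
    subst hn2
    obtain ⟨i, hi2, hi, hdvd⟩ : ∃ i < 2, Nat.card (fixedIn D α) = p ^ i ∧ q ∣ p ^ (2 - i) - 1 :=
      (fixed_all_or hR hqp hαq hDα hn).resolve_left hmv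
    have hi0 : i = 0 := by
      by_contra h
      obtain rfl : i = 1 := by omega
      rw [pow_one] at hdvd
      exact hq1 hdvd
    subst hi0
    rw [pow_zero] at hi
    have hnofix : ∀ d ∈ D, α d = d → d = 1 := fun d hd h =>
      Subgroup.mem_bot.1 ((Subgroup.eq_bot_of_card_eq _ hi).le (show d ∈ fixedIn D α from ⟨hd, h⟩))
    have hDne : D ≠ ⊥ := fun h => by
      rw [h, Subgroup.card_bot] at hn
      exact absurd hn.symm (Nat.one_lt_pow two_ne_zero hpp.one_lt).ne'
    have hDcen : ∀ d ∈ D, ∀ r : R, r * d = d * r := by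
      set K := D ⊓ Subgroup.center R with hK
      have hKch : ∀ k ∈ K, α k ∈ K := fun k hk => Subgroup.mem_inf.2
        ⟨hDα k (Subgroup.mem_inf.1 hk).1, CfsgLib.Small.apply_mem_of_char α (Subgroup.mem_inf.1 hk).2⟩
      obtain ⟨i, hi⟩ := IsPGroup.iff_card.1 (hR.to_subgroup K)
      have hKne : K ≠ ⊥ := by
        intro hKb
        apply hDne
        have hlow : ∀ (j : ℕ) (N : Subgroup R), Nat.card N = j → N.Normal → N ≤ D → N = ⊥ := by
          intro j
          induction j using Nat.strong_induction_on with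
          | _ j ih =>
            intro N hj hN hND
            by_contra hne
            haveI := hN
            have hlt := CfsgLib.NarrowDerived.commutator_top_lt hR N hne
            have hb := ih _ (hj ▸ lt_of_le_of_ne (Nat.le_of_dvd Nat.card_pos (Subgroup.card_dvd_of_le hlt.le))
              (fun h => hlt.ne (Subgroup.eq_of_le_of_card_ge hlt.le h.ge))) _ rfl inferInstance (hlt.le.trans hND)
            apply hne
            rw [eq_bot_iff, ← hKb]
            refine le_inf hND fun k hk => Subgroup.mem_center_iff.2 fun r => ?_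
            exact (commutatorElement_eq_one_iff_mul_comm.1
              (Subgroup.mem_bot.1 (hb.le (Subgroup.commutator_mem_commutator hk (Subgroup.mem_top r))))).symm
        exact hlow _ D rfl inferInstance le_rfl
      have hi2 : 2 ≤ i := by
        by_contra h
        exact hKne ((Subgroup.eq_bot_iff_forall K).2 fun k hk =>
          hnofix k (Subgroup.mem_inf.1 hk).1 (hstable K hKch i hi (by omega) k hk))
      have hKD : K = D := Subgroup.eq_of_le_of_card_ge inf_le_left (by
        rw [hi, hn]; exact Nat.pow_le_pow_right hpp.pos hi2)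
      exact fun d hd r => Subgroup.mem_center_iff.1 (Subgroup.mem_inf.1 (hKD.ge hd)).2 r
    have hOm : ∀ w : R, w ^ p = 1 → w ∈ D := by
      intro w hw
      have hgen : ∀ a ∈ (D : Set R) ∪ {w}, ∀ b ∈ (D : Set R) ∪ {w}, a * b = b * a := by
        rintro a (ha | ha) b (hb | hb)
        · exact hDab a ha b hb
        · exact (hDcen a ha b).symm
        · exact hDcen b hb a
        · rw [Set.mem_singleton_iff.1 ha, Set.mem_singleton_iff.1 hb]
      haveI := Subgroup.isMulCommutative_closure hgen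
      set W := Subgroup.closure ((D : Set R) ∪ {w}) with hW
      have hWc : ∀ a ∈ W, ∀ b ∈ W, a * b = b * a :=
        fun a ha b hb => congrArg Subtype.val (mul_comm' (⟨a, ha⟩ : W) ⟨b, hb⟩)
      have hWe : ∀ a ∈ W, a ^ p = 1 := by
        intro a ha
        induction ha using Subgroup.closure_induction with
        | mem a ha =>
          rcases ha with ha | ha
          · exact hDe a ha
          · rw [Set.mem_singleton_iff.1 ha]; exact hw
        | one => exact one_pow _
        | mul a b ha hb h1 h2 => rw [(show Commute a b from hWc a ha b hb).mul_pow, h1, h2, one_mul]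
        | inv a _ h => rw [inv_pow, h, inv_one]
      have hDW : D ≤ W := fun d hd => Subgroup.subset_closure (Or.inl hd)
      exact (Subgroup.eq_of_le_of_card_ge hDW (by rw [hn]; exact habl W hWc hWe)).ge
        (Subgroup.subset_closure (Or.inr rfl))
    have hfpf : ∀ r : R, α r = r → r = 1 := by
      intro r hr
      by_contra hr1
      obtain ⟨k, hk⟩ := IsPGroup.iff_orderOf.1 hR r
      rcases k with _ | k
      · rw [pow_zero] at hk
        exact hr1 (orderOf_eq_one_iff.1 hk)
      have hz : (r ^ p ^ k) ^ p = 1 := by rw [← pow_mul, ← pow_succ, ← hk, pow_orderOf_eq_one]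
      have h1 := hnofix _ (hOm _ hz) (by rw [map_pow, hr])
      have h2 : p ^ (k + 1) ∣ p ^ k := hk ▸ orderOf_dvd_of_pow_eq_one h1
      exact absurd ((Nat.pow_dvd_pow_iff_le_right hpp.one_lt).1 h2) (by omega)
    have h2q : q ∣ p + 1 := by
      rw [Nat.sub_zero] at hdvd
      have h' : q ∣ (p + 1) * (p - 1) := by rwa [← Nat.sq_sub_sq, one_pow]
      exact (hqq.dvd_mul.1 h').resolve_right hq1
    have hp3 : 3 < p := by
      have h1 := hpp.two_le
      by_contra h
      obtain rfl : p = 3 := by omega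
      have h3 := (Nat.prime_dvd_prime_iff_eq hqq Nat.prime_two).1 (hqq.dvd_of_dvd_pow (show q ∣ 2 ^ 2 by simpa using h2q))
      exact hq2 h3
    obtain ⟨N, hN, hNc, hNq⟩ := CfsgLib.PGroupMeta.isMetacyclic hp3 hR (by
      rw [← hn]
      exact Nat.le_of_dvd Nat.card_pos (Subgroup.card_dvd_of_le ((Subgroup.closure_le D).2 hOm)))
    haveI := hN; haveI := hNc; haveI := hNq
    have hle : commutator R ≤ N := by
      letI := IsCyclic.commGroup (α := R ⧸ N)
      have h := Abelianization.commutator_subset_ker (QuotientGroup.mk' N)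
      rwa [QuotientGroup.ker_mk'] at h
    apply hnab
    intro a b
    by_contra hab
    have hCne : commutator R ≠ ⊥ := fun h => hab (commutatorElement_eq_one_iff_mul_comm.1
      (Subgroup.mem_bot.1 (h.le (Subgroup.commutator_mem_commutator (Subgroup.mem_top a) (Subgroup.mem_top b)))))
    haveI : IsCyclic ↥(commutator R) :=
      isCyclic_of_injective (Subgroup.inclusion hle) (Subgroup.inclusion_injective _)
    haveI : Nontrivial ↥(commutator R) := (Subgroup.nontrivial_iff_ne_bot _).2 hCne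
    obtain ⟨i, hi⟩ := IsPGroup.iff_card.1 (hR.to_subgroup (commutator R))
    have hdv : p ∣ Nat.card ↥(commutator R) := by
      rw [hi]
      rcases i with _ | i
      · rw [pow_zero] at hi
        exact absurd hi (Finite.one_lt_card).ne'
      · exact dvd_pow_self p i.succ_ne_zero
    obtain ⟨w, hw⟩ := exists_prime_orderOf_dvd_card' p hdv
    have hK : ∀ k ∈ (Subgroup.zpowers (w : R)), α k ∈ Subgroup.zpowers (w : R) := by
      intro k hk
      have hkC : k ∈ commutator R := (Subgroup.zpowers_le.2 w.2) hk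
      have hαk : α k ∈ commutator R := CfsgLib.Small.apply_mem_of_char α hkC
      have hkp : k ^ p = 1 := by
        obtain ⟨j, rfl⟩ := Subgroup.mem_zpowers_iff.1 hk
        rw [← zpow_natCast, ← zpow_mul, mul_comm, zpow_mul, zpow_natCast, ← hw, ← Subgroup.orderOf_coe,
          pow_orderOf_eq_one, one_zpow]
      have hsub : Nat.card {c : ↥(commutator R) // c ^ p = 1} ≤ p := by
        haveI := Fintype.ofFinite ↥(commutator R)
        rw [Nat.card_eq_fintype_card, Fintype.card_subtype]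
        exact IsCyclic.card_pow_eq_one_le hpp.pos
      by_contra hne
      have hinj : Function.Injective (fun o : Option (Subgroup.zpowers w) =>
          (match o with
            | none => ⟨⟨α k, hαk⟩, Subtype.ext (by rw [Subgroup.coe_pow, ← map_pow, hkp, map_one]; rfl)⟩
            | some u => ⟨u.1, orderOf_dvd_iff_pow_eq_one.1 (hw ▸ orderOf_dvd_of_mem_zpowers u.2)⟩ :
            {c : ↥(commutator R) // c ^ p = 1})) := by
        rintro (_ | u) (_ | v) h
        · rfl
        · exfalso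
          have h1 := congrArg (fun c : {c : ↥(commutator R) // c ^ p = 1} => ((c.1 : ↥(commutator R)) : R)) h
          obtain ⟨j, hj⟩ := Subgroup.mem_zpowers_iff.1 v.2
          apply hne
          simp only at h1
          rw [h1, ← hj, Subgroup.coe_zpow]
          exact Subgroup.zpow_mem_zpowers _ _
        · exfalso
          have h1 := congrArg (fun c : {c : ↥(commutator R) // c ^ p = 1} => ((c.1 : ↥(commutator R)) : R)) h
          obtain ⟨j, hj⟩ := Subgroup.mem_zpowers_iff.1 u.2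
          apply hne
          simp only at h1
          rw [← h1, ← hj, Subgroup.coe_zpow]
          exact Subgroup.zpow_mem_zpowers _ _
        · exact congrArg some (Subtype.ext (congrArg (fun c : {c : ↥(commutator R) // c ^ p = 1} => c.1) h))
      have h2 := (Nat.card_le_card_of_injective _ hinj).trans hsub
      rw [Finite.card_option, Nat.card_zpowers, hw] at h2
      omega
    have hfixw := hstable _ hK 1 (by rw [Nat.card_zpowers, Subgroup.orderOf_coe, hw, pow_one]) le_rfl w
      (Subgroup.mem_zpowers _)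
    have := hfpf w hfixw
    rw [← Subgroup.orderOf_coe, this, orderOf_one] at hw
    exact hpp.one_lt.ne hw
  push_neg at hDab
  obtain ⟨u, hu, v, hv, huv⟩ := hDab
  set w := ⁅u, v⁆ with hw
  have hwD : w ∈ D := by
    rw [hw, commutatorElement_def]
    exact mul_mem (mul_mem (mul_mem hu hv) (inv_mem hu)) (inv_mem hv)
  have hwc : ∀ c ∈ D, Commute w c := fun c hc => hD2 u hu v hv c hc
  have hw1 : w ≠ 1 := fun h => huv (commutatorElement_eq_one_iff_mul_comm.1 h)
  set Z := D ⊓ Subgroup.centralizer (D : Set R) with hZ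
  have hwZ : w ∈ Z := Subgroup.mem_inf.2 ⟨hwD, fun c hc => (hwc c hc).eq.symm⟩
  haveI : Z.Characteristic := inferInstance
  obtain ⟨j, hj⟩ := IsPGroup.iff_card.1 (hR.to_subgroup Z)
  set A0 := Subgroup.closure ((Z : Set R) ∪ {u}) with hA0
  have hZu : ∀ a ∈ (Z : Set R) ∪ {u}, ∀ b ∈ (Z : Set R) ∪ {u}, a * b = b * a := by
    rintro a (ha | ha) b (hb | hb)
    · exact ((Subgroup.mem_inf.1 hb).2 a (Subgroup.mem_inf.1 ha).1)
    · rw [Set.mem_singleton_iff.1 hb]; exact ((Subgroup.mem_inf.1 ha).2 u hu).symm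
    · rw [Set.mem_singleton_iff.1 ha]; exact (Subgroup.mem_inf.1 hb).2 u hu
    · rw [Set.mem_singleton_iff.1 ha, Set.mem_singleton_iff.1 hb]
  haveI := Subgroup.isMulCommutative_closure hZu
  have hA0c : ∀ a ∈ A0, ∀ b ∈ A0, a * b = b * a :=
    fun a ha b hb => congrArg Subtype.val (mul_comm' (⟨a, ha⟩ : A0) ⟨b, hb⟩)
  have hA0D : A0 ≤ D := by
    rw [hA0, Subgroup.closure_le]
    rintro a (ha | ha)
    · exact (Subgroup.mem_inf.1 ha).1
    · exact (Set.mem_singleton_iff.1 ha).symm ▸ hu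
  have hZA : Z ≤ A0 := fun a ha => Subgroup.subset_closure (Or.inl ha)
  obtain ⟨j0, hj0⟩ := IsPGroup.iff_card.1 (hR.to_subgroup A0)
  have hjj0 : j < j0 := by
    by_contra h
    have heq : Z = A0 := Subgroup.eq_of_le_of_card_ge hZA (by
      rw [hj, hj0]; exact Nat.pow_le_pow_right hpp.pos (not_lt.1 h))
    exact huv ((Subgroup.mem_inf.1 (heq.ge (Subgroup.subset_closure (Or.inr rfl)))).2 v hv).symm
  have hj02 : j0 ≤ 2 := (Nat.pow_le_pow_iff_right hpp.one_lt).1 (hj0 ▸ habl A0 hA0c (fun a ha => hDe a (hA0D ha)))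
  have hj0n : j0 < n := by
    by_contra h
    have heq : A0 = D := Subgroup.eq_of_le_of_card_ge hA0D (by
      rw [hn, hj0]; exact Nat.pow_le_pow_right hpp.pos (not_lt.1 h))
    exact huv (hA0c u (Subgroup.subset_closure (Or.inr rfl)) v (heq.ge hv))
  have hj1 : 1 ≤ j := by
    by_contra h
    rw [show j = 0 by omega, pow_zero] at hj
    exact hw1 (Subgroup.mem_bot.1 ((Subgroup.eq_bot_of_card_eq _ hj).le hwZ))
  obtain rfl : j = 1 := by omega
  obtain rfl : n = 3 := by omega
  rw [pow_one] at hj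
  have hZα : ∀ z ∈ Z, α z ∈ Z := fun z hz => CfsgLib.Small.apply_mem_of_char α hz
  have hZfix := fixed_of_card_prime hR hq1 hqp hαq hZα hj
  have hZw : Subgroup.zpowers w = Z := Subgroup.eq_of_le_of_card_ge (Subgroup.zpowers_le.2 hwZ) (by
    rw [hj, Nat.card_zpowers]; exact (orderOf_eq_prime (hDe w hwD) hw1).ge)
  -- every element acts trivially on `D / Z`
  let K : Subgroup R :=
    { carrier := {d | d ∈ D ∧ ∀ r : R, ⁅r, d⁆ ∈ Z}
      one_mem' := ⟨one_mem D, fun r => by rw [commutatorElement_one_right]; exact one_mem Z⟩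
      mul_mem' := fun {a b} ha hb => ⟨mul_mem ha.1 hb.1, fun r => by
        rw [show ⁅r, a * b⁆ = ⁅r, a⁆ * (a * ⁅r, b⁆ * a⁻¹) by simp only [commutatorElement_def]; group]
        exact mul_mem (ha.2 r) ((inferInstance : Z.Normal).conj_mem _ (hb.2 r) a)⟩
      inv_mem' := fun {a} ha => ⟨inv_mem ha.1, fun r => by
        rw [show ⁅r, a⁻¹⁆ = a⁻¹ * ⁅r, a⁆⁻¹ * a⁻¹⁻¹ by simp only [commutatorElement_def]; group]
        exact (inferInstance : Z.Normal).conj_mem _ (inv_mem (ha.2 r)) a⁻¹⟩ }
  have hZK : Z ≤ K := fun z hz => ⟨(Subgroup.mem_inf.1 hz).1, fun r => by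
    rw [commutatorElement_def]
    exact mul_mem ((inferInstance : Z.Normal).conj_mem _ hz r) (inv_mem hz)⟩
  have hKα : ∀ k ∈ K, α k ∈ K := fun k hk => ⟨hDα k hk.1, fun r => by
    have h := hZα _ (hk.2 (α.symm r))
    rw [map_commutatorElement, MulEquiv.apply_symm_apply] at h
    exact h⟩
  obtain ⟨i, hi⟩ := IsPGroup.iff_card.1 (hR.to_subgroup K)
  have hKZ : K ≠ Z := by
    intro hKeq
    have hlow : ∀ (j : ℕ) (N : Subgroup R), Nat.card N = j → N.Normal → N ≤ D → N ≤ Z := by
      intro j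
      induction j using Nat.strong_induction_on with
      | _ j ih =>
        intro N hj hN hND
        haveI := hN
        by_cases hne : N = ⊥
        · rw [hne]; exact bot_le
        have hlt := CfsgLib.NarrowDerived.commutator_top_lt hR N hne
        have hb := ih _ (hj ▸ lt_of_le_of_ne (Nat.le_of_dvd Nat.card_pos (Subgroup.card_dvd_of_le hlt.le))
          (fun h => hlt.ne (Subgroup.eq_of_le_of_card_ge hlt.le h.ge))) _ rfl inferInstance (hlt.le.trans hND)
        intro k hk
        rw [← hKeq]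
        refine ⟨hND hk, fun r => ?_⟩
        rw [← commutatorElement_inv]
        exact inv_mem (hb (Subgroup.commutator_mem_commutator hk (Subgroup.mem_top r)))
    exact huv ((Subgroup.mem_inf.1 (hlow _ D rfl inferInstance le_rfl hu)).2 v hv).symm
  have hKD : K = D := by
    refine Subgroup.eq_of_le_of_card_ge (fun k hk => hk.1) ?_
    rw [hn, hi]
    refine Nat.pow_le_pow_right hpp.pos ?_
    by_contra h3
    have hi2 : 2 ≤ i := by
      by_contra h
      refine hKZ (Subgroup.eq_of_le_of_card_ge hZK ?_).symm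
      rw [hi, hj]
      calc p ^ i ≤ p ^ 1 := Nat.pow_le_pow_right hpp.pos (by omega)
        _ = p := pow_one p
    obtain rfl : i = 2 := by omega
    rcases fixed_all_or hR hqp hαq hKα hi with hall | ⟨i', hi', hc, hdvd⟩
    · rcases fixed_all_or hR hqp hαq hDα hn with h | ⟨i', hi', hc, hdvd⟩
      · exact hmv h
      · have h1 : p ^ 2 ≤ p ^ i' := by
          rw [← hc, ← hi]
          exact Nat.le_of_dvd Nat.card_pos (Subgroup.card_dvd_of_le fun k hk => ⟨hk.1, hall k hk⟩)
        have h2 := (Nat.pow_le_pow_iff_right hpp.one_lt).1 h1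
        obtain rfl : i' = 2 := by omega
        exact hq1 (by simpa using hdvd)
    · have h1 : p ^ 1 ≤ p ^ i' := by
        rw [← hc, pow_one, ← hj]
        exact Nat.le_of_dvd Nat.card_pos (Subgroup.card_dvd_of_le fun z hz => ⟨hZK hz, hZfix z hz⟩)
      have h2 := (Nat.pow_le_pow_iff_right hpp.one_lt).1 h1
      obtain rfl : i' = 1 := by omega
      exact hq1 (by simpa using hdvd)
  set B := Subgroup.closure ({u, v} : Set R) with hB
  have hBD : B = D := by
    have hle : B ≤ D := (Subgroup.closure_le D).2 (by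
      rintro a (ha | ha)
      · exact ha ▸ hu
      · exact (Set.mem_singleton_iff.1 ha) ▸ hv)
    refine Subgroup.eq_of_le_of_card_ge hle ?_
    obtain ⟨b, hb⟩ := IsPGroup.iff_card.1 (hR.to_subgroup B)
    rw [hn, hb]
    refine Nat.pow_le_pow_right hpp.pos ?_
    by_contra h
    have huB : u ∈ B := Subgroup.subset_closure (Or.inl rfl)
    have hvB : v ∈ B := Subgroup.subset_closure (Or.inr rfl)
    refine huv ?_
    exact congrArg Subtype.val (CfsgLib.PGroupOmega.commutative_of_card_le (hR.to_subgroup B)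
      (hb ▸ Nat.pow_le_pow_right hpp.pos (by omega)) ⟨u, huB⟩ ⟨v, hvB⟩)
  refine ⟨D, hn, fun r => ?_⟩
  obtain ⟨C, hCdef⟩ : ∃ C, C = Subgroup.centralizer (D : Set R) := ⟨_, rfl⟩
  haveI : C.Characteristic := hCdef ▸ inferInstance
  have hCα : ∀ c ∈ C, α c ∈ C := fun c hc => CfsgLib.Small.apply_mem_of_char α hc
  have hCp : ∀ c ∈ C, c ^ p = 1 → c ∈ Z := by
    intro c hc hcp
    rw [hCdef] at hc
    by_contra hcZ
    have hgen : ∀ a ∈ ({c, w, u} : Set R), ∀ b ∈ ({c, w, u} : Set R), a * b = b * a := by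
      simp only [Set.mem_insert_iff, Set.mem_singleton_iff]
      rintro a (ha | ha | ha) b (hb | hb | hb) <;> rw [ha, hb] <;>
        first
        | exact Subgroup.mem_centralizer_iff.1 hc w hwD
        | exact (Subgroup.mem_centralizer_iff.1 hc w hwD).symm
        | exact Subgroup.mem_centralizer_iff.1 hc u hu
        | exact (Subgroup.mem_centralizer_iff.1 hc u hu).symm
        | exact (hwc u hu).eq
        | exact (hwc u hu).eq.symm
    haveI := Subgroup.isMulCommutative_closure hgen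
    set W := Subgroup.closure ({c, w, u} : Set R) with hW
    have hWc : ∀ a ∈ W, ∀ b ∈ W, a * b = b * a :=
      fun a ha b hb => congrArg Subtype.val (mul_comm' (⟨a, ha⟩ : W) ⟨b, hb⟩)
    have hWe : ∀ a ∈ W, a ^ p = 1 := by
      intro a ha
      induction ha using Subgroup.closure_induction with
      | mem a ha =>
        simp only [Set.mem_insert_iff, Set.mem_singleton_iff] at ha
        rcases ha with ha | ha | ha <;> rw [ha]
        · exact hcp
        · exact hDe w hwD
        · exact hDe u hu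
      | one => exact one_pow _
      | mul a b ha hb h1 h2 => rw [(show Commute a b from hWc a ha b hb).mul_pow, h1, h2, one_mul]
      | inv a _ h => rw [inv_pow, h, inv_one]
    have hle : A0 ≤ W := by
      rw [hA0, Subgroup.closure_le]
      rintro a (ha | ha)
      · rw [← hZw] at ha
        exact (Subgroup.zpowers_le.2 (Subgroup.subset_closure (by simp : w ∈ ({c, w, u} : Set R)))) ha
      · exact Subgroup.subset_closure (by simp [Set.mem_singleton_iff.1 ha])
    have heq : A0 = W := Subgroup.eq_of_le_of_card_ge hle (by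
      rw [hj0]
      exact (habl W hWc hWe).trans (Nat.pow_le_pow_right hpp.pos (by omega)))
    exact hcZ (Subgroup.mem_inf.2 ⟨hA0D (heq.ge (Subgroup.subset_closure (by simp))), hc⟩)
  haveI : IsCyclic C := by
    have hwC : w ∈ C := hCdef ▸ (Subgroup.mem_inf.1 hwZ).2
    have hord : orderOf (⟨w, hwC⟩ : C) = p := by rw [Subgroup.orderOf_mk, orderOf_eq_prime (hDe w hwD) hw1]
    have huniq : ∀ x : C, x ^ p = 1 → x ∈ Subgroup.zpowers (⟨w, hwC⟩ : C) := by
      intro x hx
      obtain ⟨k, hk⟩ := Subgroup.mem_zpowers_iff.1 (hZw.ge (hCp x x.2 (congrArg Subtype.val hx)))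
      exact Subgroup.mem_zpowers_iff.2 ⟨k, Subtype.ext hk⟩
    exact (CfsgLib.UniqueSubgroup.cyclic_or_quaternion (hR.to_subgroup C) hord huniq).resolve_right
      (fun h => hp h.1)
  have hCfix := fix_cyclic hR hαc hCα (fun c hc hcp => hZfix c (hCp c hc hcp))
  -- `r` induces an inner automorphism on `D`
  obtain ⟨a, ha⟩ := Subgroup.mem_zpowers_iff.1 (hZw.ge ((hKD.ge hu).2 r))
  obtain ⟨b, hb⟩ := Subgroup.mem_zpowers_iff.1 (hZw.ge ((hKD.ge hv).2 r))
  set d0 := u ^ b * v ^ (-a) with hd0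
  have hd0D : d0 ∈ D := mul_mem (zpow_mem hu b) (zpow_mem hv (-a))
  have hzu : ∀ k : ℤ, u ^ k * v * (u ^ k)⁻¹ = w ^ k * v := by
    intro k
    have h2 : ∀ n : ℕ, u ^ n * v * (u ^ n)⁻¹ = w ^ n * v := by
      intro n
      induction n with
      | zero => simp
      | succ n ih =>
        rw [pow_succ', mul_inv_rev, show u * u ^ n * v * ((u ^ n)⁻¹ * u⁻¹) = u * (u ^ n * v * (u ^ n)⁻¹) * u⁻¹ by group,
          ih, show u * (w ^ n * v) * u⁻¹ = (u * w ^ n * u⁻¹) * (u * v * u⁻¹) by group,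
          show u * w ^ n * u⁻¹ = w ^ n by rw [← ((hwc u hu).pow_left n).eq, mul_inv_cancel_right],
          show u * v * u⁻¹ = w * v by rw [hw, commutatorElement_def]; group, ← mul_assoc, ← pow_succ]
    rcases Int.eq_nat_or_neg k with ⟨n, rfl | rfl⟩
    · simpa using h2 n
    · have h := h2 n
      rw [zpow_neg, zpow_neg, zpow_natCast, zpow_natCast, inv_inv]
      calc (u ^ n)⁻¹ * v * u ^ n = (u ^ n)⁻¹ * ((w ^ n)⁻¹ * (w ^ n * v)) * u ^ n := by group
        _ = (u ^ n)⁻¹ * (w ^ n)⁻¹ * (u ^ n) * v := by rw [← h]; group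
        _ = (w ^ n)⁻¹ * v := by
          rw [show (u ^ n)⁻¹ * (w ^ n)⁻¹ * u ^ n = (w ^ n)⁻¹ by
            rw [mul_assoc, (((hwc u hu).pow_pow n n).inv_left).eq, inv_mul_cancel_left]]
  have hzv : ∀ k : ℤ, v ^ k * u * (v ^ k)⁻¹ = w ^ (-k) * u := by
    intro k
    have h2 : ∀ n : ℕ, v ^ n * u * (v ^ n)⁻¹ = (w ^ n)⁻¹ * u := by
      intro n
      induction n with
      | zero => simp
      | succ n ih =>
        rw [pow_succ' v, mul_inv_rev, show v * v ^ n * u * ((v ^ n)⁻¹ * v⁻¹) = v * (v ^ n * u * (v ^ n)⁻¹) * v⁻¹ by group,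
          ih, show v * ((w ^ n)⁻¹ * u) * v⁻¹ = (v * (w ^ n)⁻¹ * v⁻¹) * (v * u * v⁻¹) by group,
          show v * (w ^ n)⁻¹ * v⁻¹ = (w ^ n)⁻¹ by rw [← (((hwc v hv).pow_left n).inv_left).eq, mul_inv_cancel_right],
          show v * u * v⁻¹ = w⁻¹ * u by rw [hw, commutatorElement_def]; group, pow_succ', mul_inv_rev, mul_assoc]
    rcases Int.eq_nat_or_neg k with ⟨n, rfl | rfl⟩
    · simpa using h2 n
    · have h := h2 n
      rw [neg_neg, zpow_neg, zpow_natCast, zpow_natCast, inv_inv]
      calc (v ^ n)⁻¹ * u * v ^ n = (v ^ n)⁻¹ * (w ^ n * ((w ^ n)⁻¹ * u)) * v ^ n := by group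
        _ = (v ^ n)⁻¹ * w ^ n * v ^ n * u := by rw [← h]; group
        _ = w ^ n * u := by
          rw [show (v ^ n)⁻¹ * w ^ n * v ^ n = w ^ n by
            rw [mul_assoc, ((hwc v hv).pow_pow n n).eq, inv_mul_cancel_left]]
  have hfu : ⁅d0, u⁆ = ⁅r, u⁆ := by
    rw [← ha, hd0, commutatorElement_def, show u ^ b * v ^ (-a) * u * (u ^ b * v ^ (-a))⁻¹ * u⁻¹ =
      u ^ b * (v ^ (-a) * u * (v ^ (-a))⁻¹) * (u ^ b)⁻¹ * u⁻¹ by group, hzv, neg_neg,
      show u ^ b * (w ^ a * u) * (u ^ b)⁻¹ * u⁻¹ = u ^ b * w ^ a * (u ^ b)⁻¹ by group,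
      ← ((hwc _ (zpow_mem hu b)).zpow_left a).eq, mul_inv_cancel_right]
  have hfv : ⁅d0, v⁆ = ⁅r, v⁆ := by
    rw [← hb, hd0, commutatorElement_def, show u ^ b * v ^ (-a) * v * (u ^ b * v ^ (-a))⁻¹ * v⁻¹ =
      u ^ b * v * (u ^ b)⁻¹ * v⁻¹ by group, hzu, mul_inv_cancel_right]
  have hcen : d0⁻¹ * r ∈ C := by
    rw [hCdef, ← hBD, hB, Subgroup.centralizer_closure, Subgroup.mem_centralizer_iff]
    intro x hx
    have hx' : ⁅d0, x⁆ = ⁅r, x⁆ := by
      rcases hx with hx | hx
      · rw [hx]; exact hfu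
      · rw [Set.mem_singleton_iff.1 hx]; exact hfv
    rw [commutatorElement_def, commutatorElement_def] at hx'
    have h2 : d0 * x * d0⁻¹ = r * x * r⁻¹ := mul_right_cancel hx'
    calc x * (d0⁻¹ * r) = d0⁻¹ * (d0 * x * d0⁻¹) * r := by group
      _ = d0⁻¹ * r * x := by rw [h2]; group
  have hαr : α r = α d0 * (d0⁻¹ * r) := by
    conv_lhs => rw [show r = d0 * (d0⁻¹ * r) by group, map_mul, hCfix _ hcen]
  rw [hαr]
  have hnorm : (d0⁻¹ * r)⁻¹ * (d0⁻¹ * α d0) * (d0⁻¹ * r) ∈ D := by
    have h := (inferInstance : D.Normal).conj_mem _ (mul_mem (inv_mem hd0D) (hDα _ hd0D)) (d0⁻¹ * r)⁻¹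
    rwa [inv_inv] at h
  convert hnorm using 1
  group

end CfsgLib.NarrowAut
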