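/-
`p`-stability of groups of odd order.
-/
import Mathlib
import Cfsg.Agent.Lib.Quadratic.Stable
import Cfsg.Agent.Lib.PSolvable

set_option autoImplicit false

namespace CfsgLib.OddStable

open Subgroup Cfsg
open scoped commutatorElement

universe u
variable {G : Type u} [Group G] [Finite G] {p : ℕ} [Fact p.Prime]

theorem two_dvd_card_sl2 (hp : p ≠ 2) :
    2 ∣ Nat.card (Matrix.SpecialLinearGroup (Fin 2) (ZMod p)) := by
  have hne : (-1 : Matrix.SpecialLinearGroup (Fin 2) (ZMod p)) ≠ 1 := fun h => by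
    have h1 := congrArg (fun M : Matrix.SpecialLinearGroup (Fin 2) (ZMod p) => M 0 0) h
    simp at h1
    have h2 : ((2 : ℕ) : ZMod p) = 0 := by push_cast; linear_combination -h1
    rw [ZMod.natCast_eq_zero_iff] at h2
    exact hp ((Nat.prime_dvd_prime_iff_eq (Fact.out : p.Prime) Nat.prime_two).mp h2)
  have h2 : orderOf (-1 : Matrix.SpecialLinearGroup (Fin 2) (ZMod p)) = 2 :=
    orderOf_eq_prime (by simp) hne
  have h3 := _root_.orderOf_dvd_natCard (-1 : Matrix.SpecialLinearGroup (Fin 2) (ZMod p))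
  rwa [h2] at h3

/-- In a group of odd order a quadratically acting element lies in `O_p` of the automiser. -/
theorem quad_mem_pCore (hodd : Odd (Nat.card G)) (hp : p ≠ 2) {V H : Subgroup G} (hV : IsPGroup p V)
    (hH : H ≤ normalizer (V : Set G)) [((centralizer (V : Set G)).subgroupOf H).Normal] {a : G} (haH : a ∈ H)
    (hq : ⁅⁅V, zpowers a⁆, zpowers a⁆ = ⊥) :
    (QuotientGroup.mk (⟨a, haH⟩ : H) : H ⧸ (centralizer (V : Set G)).subgroupOf H) ∈
      pCore p (H ⧸ (centralizer (V : Set G)).subgroupOf H) := by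
  by_contra hout
  obtain ⟨K, -, f, hf⟩ := CfsgLib.Quadratic.exists_sl2_section hp hV hH haH
    (CfsgLib.Quadratic.quad_pointwise hq) hout
  exact hodd.not_two_dvd_nat ((two_dvd_card_sl2 hp).trans
    ((Subgroup.card_dvd_of_surjective f hf).trans (card_subgroup_dvd_card K)))

theorem isNormalizerPStable (hodd : Odd (Nat.card G)) (hp : p ≠ 2) : IsNormalizerPStable p G :=
  fun _ hP _ hg hq => quad_mem_pCore hodd hp hP le_rfl hg hq

theorem quadStable (hodd : Odd (Nat.card G)) (hp : p ≠ 2) : ZJ.QuadStable p G :=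
  CfsgLib.Quadratic.quadStable_of_isNormalizerPStable (isNormalizerPStable hodd hp)

theorem odd_quotient (hodd : Odd (Nat.card G)) (N : Subgroup G) [N.Normal] : Odd (Nat.card (G ⧸ N)) :=
  hodd.of_dvd_nat (card_quotient_dvd_card N)

/-- An element quadratic on `O_p` lies in `O_p`, in a solvable group of odd order with `O_{p'} = 1`. -/
theorem mem_pCore_of_quad [Group.IsSolvable G] (hodd : Odd (Nat.card G)) (hp : p ≠ 2)
    (hO : pPrimeCore p G = ⊥) {a : G} (ha : ∃ k, a ^ p ^ k = 1)
    (hq : ⁅⁅pCore p G, zpowers a⁆, zpowers a⁆ = ⊥) : a ∈ pCore p G := by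
  have h := quadStable hodd hp (pCore p G) (isPGroup_pCore p) a ha hq
  set C := centralizer (pCore p G : Set G) with hC
  have hD : IsPGroup p ((pCore p (G ⧸ C)).comap (QuotientGroup.mk' C)) :=
    (isPGroup_pCore (G := G ⧸ C) p).comap_of_ker_isPGroup _ (by
      rw [QuotientGroup.ker_mk']
      exact (isPGroup_pCore p).to_le (centralizer_pCore_le Fact.out hO))
  exact le_pCore (N := (pCore p (G ⧸ C)).comap (QuotientGroup.mk' C)) hD h

end CfsgLib.OddStable
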