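/-
The field configuration that ends the odd order theorem: `P` is the additive group of a finite field, `U` the
group of elements of norm one, and a second element `y` moves the prime field into the normaliser of `U`.
-/
import Mathlib

set_option autoImplicit false
set_option linter.unusedVariables false

namespace CfsgLib.FieldConfig

open Finset

universe u v

/-- The data of the configuration, with `φ` the inverse of the additive chart of `P`. -/
structure Conf (G : Type u) [Group G] (F : Type v) [Field F] (p q : ℕ) where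
  φ : F → G
  φ_add : ∀ a b, φ (a + b) = φ a * φ b
  φ_inj : Function.Injective φ
  U : Subgroup G
  ψ : G → F
  act : ∀ u ∈ U, ∀ x, u * φ x * u⁻¹ = φ (ψ u * x)
  ψ_mul : ∀ u ∈ U, ∀ w ∈ U, ψ (u * w) = ψ u * ψ w
  ψ_inj : Set.InjOn ψ (U : Set G)
  ψ_ne : ∀ u ∈ U, ψ u ≠ 0
  card_U : Nat.card U * (p - 1) = p ^ q - 1
  coprime_U : (Nat.card U).Coprime (p - 1)
  Q : Subgroup G
  Q_comm : ∀ a ∈ Q, ∀ b ∈ Q, a * b = b * a
  Q_coprime : (Nat.card Q).Coprime p
  norm_Q : ∀ x : F, x ^ p = x → ∀ g ∈ Q, φ x * g * (φ x)⁻¹ ∈ Q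
  y : G
  y_mem : y ∈ Q
  norm_U : ∀ x : F, x ^ p = x → ∀ u ∈ U, y * φ x * y⁻¹ * u * (y * φ x * y⁻¹)⁻¹ ∈ U

variable {G : Type u} [Group G] [Finite G] {F : Type v} [Field F] [Fintype F] {p q : ℕ}
variable (C : Conf G F p q)

/-- `G_a(x)`: the conjugate of `φ x` by the translate of the prime field element `a`. -/
def Conf.cg (a x : F) : G := C.y * C.φ a * C.y⁻¹ * C.φ x * (C.y * C.φ a * C.y⁻¹)⁻¹

/-- The conjugates of `y`. -/
def Conf.Y (a : F) : G := (C.φ a)⁻¹ * C.y * C.φ a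

theorem φ_zero : C.φ 0 = 1 := by
  have := C.φ_add 0 0
  rwa [add_zero, left_eq_mul] at this

theorem φ_neg (a : F) : C.φ (-a) = (C.φ a)⁻¹ :=
  eq_inv_of_mul_eq_one_left (by rw [← C.φ_add, neg_add_cancel, φ_zero C])

theorem φ_sub (a b : F) : C.φ (a - b) = C.φ a * (C.φ b)⁻¹ := by
  rw [sub_eq_add_neg, C.φ_add, φ_neg C]

theorem φ_nsmul (m : ℕ) (a : F) : C.φ ((m : F) * a) = C.φ a ^ m := by
  induction m with
  | zero => simp [φ_zero C]
  | succ m ih => rw [Nat.cast_succ, add_mul, one_mul, C.φ_add, ih, pow_succ]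

theorem φ_comm (a b : F) : C.φ a * C.φ b = C.φ b * C.φ a := by
  rw [← C.φ_add, ← C.φ_add, add_comm]

variable [hp : Fact p.Prime] [CharP F p]

theorem fixed_cast (m : ℕ) : (m : F) ^ p = m := by
  rw [← frobenius_def, map_natCast]

theorem fixed_eq_cast {x : F} (hx : x ^ p = x) : ∃ m : ℕ, m < p ∧ (m : F) = x := by
  classical
  by_contra hne
  push Not at hne
  have hp1 : 1 < p := hp.out.one_lt
  set f : Polynomial F := Polynomial.X ^ p - Polynomial.X with hf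
  have hdeg : f.natDegree = p := FiniteField.X_pow_card_sub_X_natDegree_eq F hp1
  have hf0 : f ≠ 0 := FiniteField.X_pow_card_sub_X_ne_zero F hp1
  set S : Finset F := insert x ((range p).image fun m : ℕ => (m : F)) with hS
  have hcard : S.card = p + 1 := by
    rw [hS, card_insert_of_notMem, card_image_of_injOn, card_range]
    · intro a ha b hb hab
      have := (CharP.natCast_eq_natCast F p).mp hab
      rw [Nat.ModEq, Nat.mod_eq_of_lt (mem_range.mp ha), Nat.mod_eq_of_lt (mem_range.mp hb)] at this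
      exact this
    · simp only [mem_image, mem_range, not_exists, not_and]
      exact hne
  have hle : S.card ≤ f.natDegree := by
    refine Polynomial.card_le_degree_of_subset_roots (p := f) (fun z hz => ?_)
    rw [Polynomial.mem_roots hf0, Polynomial.IsRoot, hf,
      Polynomial.eval_sub, Polynomial.eval_pow, Polynomial.eval_X, sub_eq_zero]
    rcases mem_insert.mp (Finset.mem_val.mp hz) with rfl | h
    · exact hx
    · obtain ⟨m, -, rfl⟩ := mem_image.mp h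
      exact fixed_cast m
  omega

theorem φ_pow_p (a : F) : C.φ a ^ p = 1 := by
  rw [← φ_nsmul C, CharP.cast_eq_zero F p, zero_mul, φ_zero C]

theorem eq_zero_of_mem_Q {x : F} (h : C.φ x ∈ C.Q) : x = 0 := by
  apply C.φ_inj
  rw [φ_zero C, ← orderOf_eq_one_iff]
  exact Nat.eq_one_of_dvd_coprimes C.Q_coprime (C.Q.orderOf_dvd_natCard h)
    (orderOf_dvd_of_pow_eq_one (φ_pow_p C x))

theorem card_coprime (hq : q ≠ 0) : (Nat.card C.U).Coprime p := by
  refine ((hp.out).coprime_iff_not_dvd.mpr fun hd => ?_).symm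
  have h1 : p ∣ p ^ q - 1 := C.card_U ▸ dvd_mul_of_dvd_left hd _
  have h2 : p ∣ p ^ q := dvd_pow_self p hq
  have h3 : 1 ≤ p ^ q := Nat.one_le_pow _ _ hp.out.pos
  have := Nat.dvd_sub h2 h1
  rw [Nat.sub_sub_self h3, Nat.dvd_one] at this
  exact hp.out.ne_one this

theorem eq_zero_of_mem_U (hq : q ≠ 0) {x : F} (h : C.φ x ∈ C.U) : x = 0 := by
  apply C.φ_inj
  rw [φ_zero C, ← orderOf_eq_one_iff]
  exact Nat.eq_one_of_dvd_coprimes (card_coprime C hq) (C.U.orderOf_dvd_natCard h)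
    (orderOf_dvd_of_pow_eq_one (φ_pow_p C x))

theorem ψ_one : C.ψ 1 = 1 := by
  have := C.ψ_mul 1 C.U.one_mem 1 C.U.one_mem
  rw [mul_one] at this
  exact (mul_left_eq_self₀.mp this.symm).resolve_right (C.ψ_ne 1 C.U.one_mem)

theorem ψ_pow {u : G} (hu : u ∈ C.U) (m : ℕ) : C.ψ (u ^ m) = C.ψ u ^ m := by
  induction m with
  | zero => simp [ψ_one C]
  | succ m ih => rw [pow_succ, pow_succ, C.ψ_mul _ (pow_mem hu m) _ hu, ih]

theorem ψ_inv {u : G} (hu : u ∈ C.U) : C.ψ u⁻¹ = (C.ψ u)⁻¹ :=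
  eq_inv_of_mul_eq_one_left (by rw [← C.ψ_mul _ (inv_mem hu) _ hu, inv_mul_cancel, ψ_one C])

theorem ψ_pow_card {u : G} (hu : u ∈ C.U) : C.ψ u ^ Nat.card C.U = 1 := by
  rw [← ψ_pow C hu]
  have : u ^ Nat.card C.U = 1 := congrArg Subtype.val (pow_card_eq_one' (x := (⟨u, hu⟩ : C.U)))
  rw [this, ψ_one C]

theorem eq_one_of_fixed {u : G} (hu : u ∈ C.U) (h : C.ψ u ^ p = C.ψ u) : u = 1 := by
  have h1 : C.ψ u ^ (p - 1) = 1 := by
    have h2 : C.ψ u ^ (p - 1) * C.ψ u = 1 * C.ψ u := by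
      rw [← pow_succ, Nat.sub_add_cancel hp.out.one_le, h, one_mul]
    exact mul_right_cancel₀ (C.ψ_ne u hu) h2
  have h3 : C.ψ u = 1 := orderOf_eq_one_iff.mp (Nat.eq_one_of_dvd_coprimes C.coprime_U
    (orderOf_dvd_of_pow_eq_one (ψ_pow_card C hu)) (orderOf_dvd_of_pow_eq_one h1))
  exact C.ψ_inj hu C.U.one_mem (h3.trans (ψ_one C).symm)

variable (hF : Fintype.card F = p ^ q) (hq : 2 ≤ q)

include hF in
theorem exists_decomp {x : F} (hx : x ≠ 0) :
    ∃ k : ℕ, (k : F) ≠ 0 ∧ ∃ w ∈ C.U, x = (k : F) * C.ψ w := by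
  classical
  letI : Fintype C.U := Fintype.ofFinite _
  set D : Finset F := ((Ico 1 p) ×ˢ (univ : Finset C.U)).image fun z => (z.1 : F) * C.ψ z.2 with hD
  have hk : ∀ k ∈ Ico 1 p, (k : F) ≠ 0 := fun k hk h => by
    obtain ⟨h1, h2⟩ := mem_Ico.mp hk
    have := Nat.le_of_dvd h1 ((CharP.cast_eq_zero_iff F p k).mp h)
    omega
  have hinj : Set.InjOn (fun z : ℕ × C.U => (z.1 : F) * C.ψ z.2) ↑((Ico 1 p) ×ˢ (univ : Finset C.U)) := by
    rintro ⟨a, u⟩ ha ⟨b, w⟩ hb hab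
    simp only [coe_product, Set.mem_prod, coe_Ico, coe_univ, Set.mem_univ, and_true] at ha hb
    have ha' := hk a (mem_Ico.mpr ha)
    have hb' := hk b (mem_Ico.mpr hb)
    have huw : C.ψ ((u : G) * (w : G)⁻¹) = (b : F) * (a : F)⁻¹ := by
      have hw := C.ψ_ne _ w.2
      rw [C.ψ_mul _ u.2 _ (inv_mem w.2), ψ_inv C w.2]
      field_simp
      linear_combination hab
    have h1 := eq_one_of_fixed C (mul_mem u.2 (inv_mem w.2)) (by
      rw [huw, mul_pow, inv_pow, fixed_cast, fixed_cast])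
    rw [h1, ψ_one C, eq_comm, mul_inv_eq_one₀ ha', CharP.natCast_eq_natCast F p, Nat.ModEq,
      Nat.mod_eq_of_lt ha.2, Nat.mod_eq_of_lt hb.2] at huw
    exact Prod.ext huw.symm (Subtype.ext (mul_inv_eq_one.mp h1))
  have hsub : D ⊆ univ.erase 0 := by
    intro z hz
    obtain ⟨⟨k, w⟩, hkw, rfl⟩ := mem_image.mp hz
    exact mem_erase.mpr ⟨mul_ne_zero (hk k (mem_product.mp hkw).1) (C.ψ_ne _ w.2), mem_univ _⟩
  have hcard : (univ.erase (0 : F)).card ≤ D.card := by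
    rw [card_erase_of_mem (mem_univ _), card_univ, hF, hD, card_image_of_injOn hinj, card_product,
      Nat.card_Ico, card_univ, ← Nat.card_eq_fintype_card, mul_comm, C.card_U]
  have hmem : x ∈ D := by
    rw [eq_of_subset_of_card_le hsub hcard]
    exact mem_erase.mpr ⟨hx, mem_univ _⟩
  obtain ⟨⟨k, w⟩, hkw, rfl⟩ := mem_image.mp hmem
  exact ⟨k, hk k (mem_product.mp hkw).1, w, w.2, rfl⟩

include hF hq in
theorem exists_ne_one : ∃ u ∈ C.U, u ≠ 1 := by
  by_contra h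
  push Not at h
  have hU : Nat.card C.U = 1 := by
    rw [Subgroup.card_eq_one, Subgroup.eq_bot_iff_forall]
    exact h
  have h1 := C.card_U
  rw [hU, one_mul] at h1
  have h2 : p * p ≤ p ^ q := by rw [← pow_two]; exact Nat.pow_le_pow_right hp.out.pos hq
  have h3 := hp.out.two_le
  have h4 : p + p ≤ p * p := by nlinarith
  omega

include hF hq in
theorem one_not_normalises : ¬ ∀ u ∈ C.U, C.φ 1 * u * (C.φ 1)⁻¹ ∈ C.U := by
  intro h
  obtain ⟨u, hu, hu1⟩ := exists_ne_one C hF hq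
  have h1 : C.φ (C.ψ u - 1) ∈ C.U := by
    rw [φ_sub C, show C.φ (C.ψ u) = u * C.φ 1 * u⁻¹ by rw [C.act u hu, mul_one]]
    have := C.U.mul_mem hu (h u⁻¹ (inv_mem hu))
    simpa [mul_assoc] using this
  exact hu1 (C.ψ_inj hu C.U.one_mem ((sub_eq_zero.mp (eq_zero_of_mem_U C (by omega) h1)).trans (ψ_one C).symm))

include hF hq in
theorem y_not_comm : C.y * C.φ 1 ≠ C.φ 1 * C.y := by
  intro h
  refine one_not_normalises C hF hq fun u hu => ?_
  have := C.norm_U 1 (one_pow p) u hu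
  rwa [h, mul_inv_cancel_right] at this

theorem fixed_add {a b : F} (ha : a ^ p = a) (hb : b ^ p = b) : (a + b) ^ p = a + b := by
  rw [add_pow_char, ha, hb]

theorem fixed_neg {a : F} (ha : a ^ p = a) : (-a) ^ p = -a := by
  rw [← frobenius_def, map_neg, frobenius_def, ha]

theorem conj_φ_Q {a : F} (ha : a ^ p = a) {g : G} (hg : g ∈ C.Q) : (C.φ a)⁻¹ * g * C.φ a ∈ C.Q := by
  have := C.norm_Q (-a) (fixed_neg ha) g hg
  rwa [φ_neg C, inv_inv] at this

theorem Y_mem {a : F} (ha : a ^ p = a) : C.Y a ∈ C.Q := conj_φ_Q C ha C.y_mem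

theorem Y_shift (a j : F) : (C.φ j)⁻¹ * C.Y a * C.φ j = C.Y (a + j) := by
  simp only [Conf.Y, C.φ_add, mul_inv_rev, mul_assoc]

theorem Y_zero : C.Y 0 = C.y := by simp [Conf.Y, φ_zero C]

theorem commute_one_of_commute {a : F} (ha : a ^ p = a) (ha0 : a ≠ 0) {g : G}
    (h : g * C.φ a = C.φ a * g) : g * C.φ 1 = C.φ 1 * g := by
  obtain ⟨m, -, hm⟩ := fixed_eq_cast (p := p) (show a⁻¹ ^ p = a⁻¹ by rw [inv_pow, ha])
  have h1 : C.φ 1 = C.φ a ^ m := by rw [← φ_nsmul C, hm, inv_mul_cancel₀ ha0]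
  rw [h1]
  exact (Commute.pow_right h m).eq

include hF hq in
theorem Y_inj {a b : F} (ha : a ^ p = a) (hb : b ^ p = b) (h : C.Y a = C.Y b) : a = b := by
  by_contra hne
  refine y_not_comm C hF hq (commute_one_of_commute C (a := b - a) ?_ (sub_ne_zero.mpr (Ne.symm hne)) ?_)
  · rw [sub_eq_add_neg]; exact fixed_add hb (fixed_neg ha)
  · have h1 := congrArg (fun w => C.φ a * w * (C.φ b)⁻¹) h
    simp only [Conf.Y] at h1
    rw [φ_sub C]
    rw [show C.φ a * ((C.φ a)⁻¹ * C.y * C.φ a) * (C.φ b)⁻¹ = C.y * (C.φ a * (C.φ b)⁻¹) by group,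
      show C.φ a * ((C.φ b)⁻¹ * C.y * C.φ b) * (C.φ b)⁻¹ = C.φ a * (C.φ b)⁻¹ * C.y by group] at h1
    have h2 : Commute C.y (C.φ a * (C.φ b)⁻¹) := h1
    have h3 := h2.inv_right
    rwa [mul_inv_rev, inv_inv] at h3

/-- Translates of the prime field. -/
theorem T_mem {a : F} (ha : a ^ p = a) {u : G} (hu : u ∈ C.U) :
    (C.y * C.φ a * C.y⁻¹)⁻¹ * u * (C.y * C.φ a * C.y⁻¹) ∈ C.U := by
  have e : C.y * C.φ (-a) * C.y⁻¹ = (C.y * C.φ a * C.y⁻¹)⁻¹ := by
    rw [φ_neg C, mul_inv_rev, mul_inv_rev, inv_inv, mul_assoc]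
  have := C.norm_U (-a) (fixed_neg ha) u hu
  rwa [e, inv_inv] at this

/-- The element of `U` whose conjugate by the translate of `a` is `u`. -/
def Conf.tw (a : F) (u : G) : G := (C.y * C.φ a * C.y⁻¹)⁻¹ * u * (C.y * C.φ a * C.y⁻¹)

theorem conj_cg {a : F} (ha : a ^ p = a) {u : G} (hu : u ∈ C.U) (x : F) :
    u * C.cg a x * u⁻¹ = C.cg a (C.ψ (C.tw a u) * x) := by
  rw [Conf.cg, Conf.cg, Conf.tw, ← C.act _ (T_mem C ha hu)]
  group

theorem cg_add (a x z : F) : C.cg a (x + z) = C.cg a x * C.cg a z := by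
  simp only [Conf.cg, C.φ_add]
  group

theorem cg_zero (a : F) : C.cg a 0 = 1 := by simp [Conf.cg, φ_zero C]

theorem cg_neg (a x : F) : C.cg a (-x) = (C.cg a x)⁻¹ :=
  eq_inv_of_mul_eq_one_left (by rw [← cg_add C, neg_add_cancel, cg_zero C])

theorem cg_base (x : F) : C.cg 0 x = C.φ x := by simp [Conf.cg, φ_zero C]

theorem cg_shift (a e x : F) :
    (C.y * C.φ e * C.y⁻¹)⁻¹ * C.cg a x * (C.y * C.φ e * C.y⁻¹) = C.cg (a - e) x := by
  have hc := φ_comm C (-e) a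
  rw [φ_neg C] at hc
  simp only [Conf.cg, φ_sub C]
  rw [← hc]
  group

/-- The only relation used from the abelian group `Q`. -/
theorem base_identity {a b : F} (ha : a ^ p = a) (hb : b ^ p = b) :
    C.cg a (-b) * C.cg b a = C.φ (a - b) := by
  have hd : ∀ c : F, c ^ p = c → (C.φ c)⁻¹ * (C.y * C.φ c * C.y⁻¹) ∈ C.Q := fun c hc => by
    have := C.Q.mul_mem (Y_mem C hc) (inv_mem C.y_mem)
    simpa [Conf.Y, mul_assoc] using this
  have h := C.Q_comm _ (hd b hb) _ (hd a ha)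
  set A := C.y * C.φ a * C.y⁻¹ with hA
  set B := C.y * C.φ b * C.y⁻¹ with hB
  have hAB : Commute A B := by
    show A * B = B * A
    simp only [hA, hB, conj_mul, φ_comm C a b]
  have h1 : A * (C.φ b)⁻¹ * B = C.φ a * (C.φ b)⁻¹ * B * (C.φ a)⁻¹ * A := by
    have := congrArg (fun w => C.φ a * w) h
    simp only [mul_assoc, mul_inv_cancel_left] at this ⊢
    exact this.symm
  have h2 : A⁻¹ * B = B * A⁻¹ := (hAB.inv_left).eq
  show A * C.φ (-b) * A⁻¹ * (B * C.φ a * B⁻¹) = _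
  rw [φ_sub C, φ_neg C]
  calc A * (C.φ b)⁻¹ * A⁻¹ * (B * C.φ a * B⁻¹) = A * (C.φ b)⁻¹ * (A⁻¹ * B) * C.φ a * B⁻¹ := by group
    _ = (A * (C.φ b)⁻¹ * B) * A⁻¹ * C.φ a * B⁻¹ := by rw [h2]; group
    _ = C.φ a * (C.φ b)⁻¹ := by rw [h1]; group

theorem scaled_identity {a b : F} (ha : a ^ p = a) (hb : b ^ p = b) {u : G} (hu : u ∈ C.U) :
    C.φ (C.ψ u * (a - b)) = C.cg a (C.ψ (C.tw a u) * (-b)) * C.cg b (C.ψ (C.tw b u) * a) := by
  rw [← C.act u hu, ← base_identity C ha hb, ← conj_cg C ha hu, ← conj_cg C hb hu]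
  group

include hF hq in
/-- Two of the conjugates of `U` generate the configuration, so no translation of `Q` fixes two of them. -/
theorem diff_inj {a b c d : F} (ha : a ^ p = a) (hb : b ^ p = b) (hc : c ^ p = c) (hd : d ^ p = d)
    (h : C.Y a * (C.Y b)⁻¹ = C.Y c * (C.Y d)⁻¹) (hab : a ≠ b) : b = d := by
  let H : Subgroup G :=
    { carrier := {g | ∃ x, ∃ w ∈ C.U, g = C.φ x * w}
      one_mem' := ⟨0, 1, C.U.one_mem, by rw [φ_zero C, one_mul]⟩
      mul_mem' := by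
        rintro _ _ ⟨x, w, hw, rfl⟩ ⟨x', w', hw', rfl⟩
        exact ⟨x + C.ψ w * x', w * w', mul_mem hw hw', by rw [C.φ_add, ← C.act w hw]; group⟩
      inv_mem' := by
        rintro _ ⟨x, w, hw, rfl⟩
        exact ⟨C.ψ w⁻¹ * (-x), w⁻¹, inv_mem hw, by rw [← C.act _ (inv_mem hw), φ_neg C]; group⟩ }
  have hpow : ∀ x, ∀ w ∈ C.U, ∀ m : ℕ, ∃ x', (C.φ x * w) ^ m = C.φ x' * w ^ m := by
    intro x w hw m
    induction m with
    | zero => exact ⟨0, by rw [φ_zero C]; simp⟩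
    | succ m ih =>
      obtain ⟨x', hx'⟩ := ih
      refine ⟨x' + C.ψ (w ^ m) * x, ?_⟩
      rw [pow_succ, hx', C.φ_add, ← C.act _ (pow_mem hw m), pow_succ]
      group
  have hYH : ∀ e : F, e ^ p = e → ∀ w ∈ C.U, C.Y e * (C.y⁻¹ * w * C.y) * (C.Y e)⁻¹ ∈ H := by
    intro e he w hw
    set w' := C.y * C.φ e * C.y⁻¹ * w * (C.y * C.φ e * C.y⁻¹)⁻¹ with hw'
    refine ⟨-e + C.ψ w' * e, w', C.norm_U e he w hw, ?_⟩
    rw [C.φ_add, φ_neg C, ← C.act w' (C.norm_U e he w hw), hw']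
    simp only [Conf.Y]
    group
  have hrepr : ∀ e : F, e ^ p = e → ∀ w ∈ C.U, ∃ w₀ ∈ C.U,
      C.φ (e * (C.ψ w - 1)) * w = C.Y e * (C.y⁻¹ * w₀ * C.y) * (C.Y e)⁻¹ := by
    intro e he w hw
    refine ⟨_, T_mem C he hw, ?_⟩
    rw [mul_sub, mul_one, sub_eq_neg_add, C.φ_add, φ_neg C, mul_comm e, ← C.act w hw]
    simp only [Conf.Y]
    group
  set g := C.Y d * (C.Y b)⁻¹ with hg
  have hgQ : g ∈ C.Q := mul_mem (Y_mem C hd) (inv_mem (Y_mem C hb))
  have hga : g * C.Y a = C.Y c := by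
    rw [hg, mul_assoc, C.Q_comm _ (inv_mem (Y_mem C hb)) _ (Y_mem C ha), h, ← mul_assoc,
      C.Q_comm _ (Y_mem C hd) _ (Y_mem C hc), mul_inv_cancel_right]
  have hgb : g * C.Y b = C.Y d := by rw [hg, inv_mul_cancel_right]
  let K : Subgroup G := H ⊓ H.comap (MulAut.conj g).toMonoidHom
  have hmove : ∀ e e' : F, e ^ p = e → e' ^ p = e' → g * C.Y e = C.Y e' →
      ∀ w ∈ C.U, C.φ (e * (C.ψ w - 1)) * w ∈ K := by
    intro e e' he he' hge w hw
    refine Subgroup.mem_inf.mpr ⟨⟨_, w, hw, rfl⟩, ?_⟩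
    obtain ⟨w₀, hw₀, heq⟩ := hrepr e he w hw
    show g * (C.φ (e * (C.ψ w - 1)) * w) * g⁻¹ ∈ H
    rw [heq, show g * (C.Y e * (C.y⁻¹ * w₀ * C.y) * (C.Y e)⁻¹) * g⁻¹ =
      g * C.Y e * (C.y⁻¹ * w₀ * C.y) * (g * C.Y e)⁻¹ by group, hge]
    exact hYH e' he' w₀ hw₀
  obtain ⟨u, hu, hu1⟩ := exists_ne_one C hF hq
  set δ := (a - b) * (C.ψ u - 1) with hδ
  have hδ0 : δ ≠ 0 := mul_ne_zero (sub_ne_zero.mpr hab)
    (sub_ne_zero.mpr fun e => hu1 (C.ψ_inj hu C.U.one_mem (e.trans (ψ_one C).symm)))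
  have hK1 : C.φ δ ∈ K := by
    have := K.mul_mem (hmove a c ha hc hga u hu) (inv_mem (hmove b d hb hd hgb u hu))
    have e : C.φ (a * (C.ψ u - 1)) * u * (C.φ (b * (C.ψ u - 1)) * u)⁻¹ = C.φ δ := by
      rw [hδ, sub_mul, φ_sub C]
      group
    rwa [e] at this
  have hK2 : ∀ w ∈ C.U, C.φ (C.ψ w * δ) ∈ K := by
    intro w hw
    have h1 := hmove a c ha hc hga w hw
    have := K.mul_mem (K.mul_mem h1 hK1) (inv_mem h1)
    have e : C.φ (a * (C.ψ w - 1)) * w * C.φ δ * (C.φ (a * (C.ψ w - 1)) * w)⁻¹ = C.φ (C.ψ w * δ) := by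
      rw [← add_sub_cancel_left (a * (C.ψ w - 1)) (C.ψ w * δ), φ_sub C, C.φ_add, ← C.act w hw]
      group
    rwa [e] at this
  have hK3 : C.φ 1 ∈ K := by
    obtain ⟨k, -, w, hw, hkw⟩ := exists_decomp C hF (inv_ne_zero hδ0)
    have : C.φ 1 = C.φ (C.ψ w * δ) ^ k := by
      rw [← φ_nsmul C, ← mul_assoc, ← hkw, inv_mul_cancel₀ hδ0]
    rw [this]
    exact pow_mem (hK2 w hw) k
  obtain ⟨x, w, hw, hxw⟩ := (Subgroup.mem_inf.mp hK3).2
  replace hxw : g * C.φ 1 * g⁻¹ = C.φ x * w := hxw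
  have hw1 : w = 1 := by
    obtain ⟨x', hx'⟩ := hpow x w hw p
    rw [← hxw, conj_pow, φ_pow_p C, mul_one, mul_inv_cancel] at hx'
    have hwp : w ^ p = C.φ (-x') := by
      rw [φ_neg C]; exact eq_inv_of_mul_eq_one_right hx'.symm
    have h0 := eq_zero_of_mem_U C (by omega) (hwp ▸ pow_mem hw p)
    rw [h0, φ_zero C] at hwp
    exact orderOf_eq_one_iff.mp (Nat.eq_one_of_dvd_coprimes (card_coprime C (by omega))
      (C.U.orderOf_dvd_natCard hw) (orderOf_dvd_of_pow_eq_one hwp))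
  rw [hw1, mul_one] at hxw
  have hx1 : x = 1 := by
    have : C.φ (x - 1) ∈ C.Q := by
      rw [φ_sub C, ← hxw]
      have := C.Q.mul_mem hgQ (C.norm_Q 1 (one_pow p) g⁻¹ (inv_mem hgQ))
      simpa [mul_assoc] using this
    exact sub_eq_zero.mp (eq_zero_of_mem_Q C this)
  rw [hx1] at hxw
  have hcomm : Commute g (C.φ 1) := mul_inv_eq_iff_eq_mul.mp hxw
  -- `g` is a `p`-th root of one
  have hcast : ∀ m : ℕ, Commute g (C.φ (m : F)) := fun m => by
    rw [show C.φ (m : F) = C.φ 1 ^ m by rw [← φ_nsmul C, mul_one]]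
    exact hcomm.pow_right m
  have hpow' : ∀ m : ℕ, g ^ m = C.Y (b + (m : F) * (d - b)) * (C.Y b)⁻¹ := by
    intro m
    induction m with
    | zero => simp
    | succ m ih =>
      have hmd : ((m : F) * (d - b)) ^ p = (m : F) * (d - b) := by
        rw [mul_pow, fixed_cast, sub_eq_add_neg, fixed_add hd (fixed_neg hb)]
      obtain ⟨j, -, hj⟩ := fixed_eq_cast hmd
      have hg' : g = C.Y (d + j) * (C.Y (b + j))⁻¹ := by
        rw [← Y_shift C d j, ← Y_shift C b j,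
          show (C.φ (j : F))⁻¹ * C.Y d * C.φ j * ((C.φ (j : F))⁻¹ * C.Y b * C.φ j)⁻¹ =
            (C.φ (j : F))⁻¹ * g * C.φ j by rw [hg]; group]
        rw [mul_assoc, (hcast j).eq, inv_mul_cancel_left]
      have e1 : b + ((m + 1 : ℕ) : F) * (d - b) = d + (j : F) := by rw [hj]; push_cast; ring
      rw [pow_succ', ih, e1, ← hj]
      conv_lhs => rw [hg']
      group
  have hgp := hpow' p
  rw [CharP.cast_eq_zero F p, zero_mul, add_zero, mul_inv_cancel] at hgp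
  have hg1 : g = 1 := orderOf_eq_one_iff.mp (Nat.eq_one_of_dvd_coprimes C.Q_coprime
    (C.Q.orderOf_dvd_natCard hgQ) (orderOf_dvd_of_pow_eq_one hgp))
  exact (Y_inj C hF hq hd hb (mul_inv_eq_one.mp hg1)).symm

include hF hq in
/-- The conjugate of `P` by a non-trivial translate meets `P` trivially. -/
theorem cg_ne {m x z : F} (hm : m ^ p = m) (hm0 : m ≠ 0) (h : C.cg m x = C.φ z) : x = 0 := by
  by_contra hx
  set T := C.y * C.φ m * C.y⁻¹ with hT
  have hU : ∀ w ∈ C.U, ∃ z', C.cg m (C.ψ w * x) = C.φ z' := by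
    intro w hw
    refine ⟨C.ψ (T * w * T⁻¹) * z, ?_⟩
    have hw' : T * w * T⁻¹ ∈ C.U := C.norm_U m hm w hw
    rw [← C.act _ hw', ← h, conj_cg C hm hw']
    congr 2
    simp [Conf.tw, hT, mul_assoc]
  have hall : ∀ v, ∃ z', C.cg m v = C.φ z' := by
    intro v
    by_cases hv : v = 0
    · exact ⟨0, by rw [hv, cg_zero C, φ_zero C]⟩
    obtain ⟨k, -, w, hw, hkw⟩ := exists_decomp C hF (div_ne_zero hv hx)
    obtain ⟨z', hz'⟩ := hU w hw
    refine ⟨(k : F) * z', ?_⟩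
    rw [φ_nsmul C, ← hz', show v = (k : F) * (C.ψ w * x) by rw [← mul_assoc, ← hkw, div_mul_cancel₀ _ hx]]
    simp only [Conf.cg, φ_nsmul C, conj_pow]
  have hiter : ∀ (j : ℕ) (v : F), ∃ z', T ^ j * C.φ v * (T ^ j)⁻¹ = C.φ z' := by
    intro j
    induction j with
    | zero => intro v; exact ⟨v, by simp⟩
    | succ j ih =>
      intro v
      obtain ⟨z1, hz1⟩ := hall v
      obtain ⟨z2, hz2⟩ := ih z1
      refine ⟨z2, ?_⟩
      rw [← hz2, ← hz1, Conf.cg, pow_succ, ← hT]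
      group
  obtain ⟨j, -, hj⟩ := fixed_eq_cast (p := p) (show m⁻¹ ^ p = m⁻¹ by rw [inv_pow, hm])
  have hTj : T ^ j = C.y * C.φ 1 * C.y⁻¹ := by
    rw [hT, conj_pow, ← φ_nsmul C, hj, inv_mul_cancel₀ hm0]
  obtain ⟨z', hz'⟩ := hiter j 1
  rw [hTj] at hz'
  set t := C.y * C.φ 1 * C.y⁻¹ with ht
  set e := (C.φ 1)⁻¹ * t with he
  have heQ : e ∈ C.Q := by
    have := C.Q.mul_mem (Y_mem C (one_pow p)) (inv_mem C.y_mem)
    simpa [Conf.Y, he, ht, mul_assoc] using this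
  have hz1 : z' = 1 := by
    have : C.φ (z' - 1) ∈ C.Q := by
      rw [φ_sub C, ← hz']
      have h1 := C.Q.mul_mem heQ (C.norm_Q 1 (one_pow p) e⁻¹ (inv_mem heQ))
      have h2 := C.norm_Q 1 (one_pow p) _ h1
      have e2 : t * C.φ 1 * t⁻¹ * (C.φ 1)⁻¹ = C.φ 1 * (e * (C.φ 1 * e⁻¹ * (C.φ 1)⁻¹)) * (C.φ 1)⁻¹ := by
        rw [he]; group
      rwa [e2]
    exact sub_eq_zero.mp (eq_zero_of_mem_Q C this)
  rw [hz1] at hz'
  have hts : Commute t (C.φ 1) := mul_inv_eq_iff_eq_mul.mp hz'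
  have hep : e ^ p = 1 := by
    rw [he, (hts.symm.inv_left).mul_pow, inv_pow, φ_pow_p C, ht, conj_pow, φ_pow_p C]
    simp
  have he1 : e = 1 := orderOf_eq_one_iff.mp (Nat.eq_one_of_dvd_coprimes C.Q_coprime
    (C.Q.orderOf_dvd_natCard heQ) (orderOf_dvd_of_pow_eq_one hep))
  apply y_not_comm C hF hq
  rw [he, inv_mul_eq_one, ht] at he1
  exact (mul_inv_eq_iff_eq_mul.mp he1.symm)

include hF hq in
theorem cg_eq {a b x z : F} (ha : a ^ p = a) (hb : b ^ p = b) (hab : a ≠ b) (h : C.cg a x = C.cg b z) :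
    x = 0 ∧ z = 0 := by
  have key : ∀ a b x z : F, a ^ p = a → b ^ p = b → a ≠ b → C.cg a x = C.cg b z → x = 0 := by
    intro a b x z ha hb hab h
    refine cg_ne C hF hq (m := a - b) ?_ (sub_ne_zero.mpr hab) (z := z) ?_
    · rw [sub_eq_add_neg]; exact fixed_add ha (fixed_neg hb)
    · rw [← cg_shift C a b x, h, cg_shift C b b z, sub_self, cg_base C]
  exact ⟨key a b x z ha hb hab h, key b a z x hb ha hab.symm h.symm⟩

theorem eq_one_of_fixed_four {a b c d e : F} (ha : a ^ p = a) (hb : b ^ p = b) (hc : c ^ p = c)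
    (hd : d ^ p = d) (he : e ^ p = e) (he0 : e ≠ 0)
    (h : Commute (C.Y a * C.Y b * (C.Y c)⁻¹ * (C.Y d)⁻¹) (C.φ e)) :
    C.Y a * C.Y b * (C.Y c)⁻¹ * (C.Y d)⁻¹ = 1 := by
  classical
  set z := C.Y a * C.Y b * (C.Y c)⁻¹ * (C.Y d)⁻¹ with hz
  have h1 : Commute z (C.φ 1) := commute_one_of_commute C he he0 h.eq
  let Fp : AddSubgroup F :=
    { carrier := {x | x ^ p = x}
      add_mem' := fun ha hb => fixed_add ha hb
      zero_mem' := zero_pow hp.out.ne_zero
      neg_mem' := fun ha => fixed_neg ha }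
  letI : Fintype Fp := Fintype.ofFinite _
  letI : CommGroup C.Q := { (inferInstance : Group C.Q) with
    mul_comm := fun x w => Subtype.ext (C.Q_comm _ x.2 _ w.2) }
  let Yq : Fp → C.Q := fun x => ⟨C.Y x, Y_mem C x.2⟩
  have hzQ : z ∈ C.Q := mul_mem (mul_mem (mul_mem (Y_mem C ha) (Y_mem C hb)) (inv_mem (Y_mem C hc)))
    (inv_mem (Y_mem C hd))
  have hshift : ∀ x : Fp, (⟨z, hzQ⟩ : C.Q) = Yq (⟨a, ha⟩ + x) * Yq (⟨b, hb⟩ + x) *
      (Yq (⟨c, hc⟩ + x))⁻¹ * (Yq (⟨d, hd⟩ + x))⁻¹ := by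
    intro x
    apply Subtype.ext
    show z = C.Y (a + x) * C.Y (b + x) * (C.Y (c + x))⁻¹ * (C.Y (d + x))⁻¹
    rw [← Y_shift C a x, ← Y_shift C b x, ← Y_shift C c x, ← Y_shift C d x]
    obtain ⟨j, -, hj⟩ := fixed_eq_cast (p := p) x.2
    have h2 : Commute z (C.φ (x : F)) := by
      rw [← hj, show C.φ (j : F) = C.φ 1 ^ j by rw [← φ_nsmul C, mul_one]]
      exact h1.pow_right j
    calc z = (C.φ (x : F))⁻¹ * z * C.φ x := by rw [mul_assoc, h2.eq, inv_mul_cancel_left]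
      _ = _ := by rw [hz]; group
  have hS : ∀ a : Fp, ∏ x, Yq (a + x) = ∏ x, Yq x := fun a =>
    Equiv.prod_comp (Equiv.addLeft a) Yq
  have hprod : (⟨z, hzQ⟩ : C.Q) ^ Fintype.card Fp = 1 := by
    rw [← Finset.card_univ, ← Finset.prod_const, Finset.prod_congr rfl fun x _ => hshift x]
    simp only [prod_mul_distrib, prod_inv_distrib, hS]
    group
  have hcop : (Nat.card C.Q).Coprime (Fintype.card Fp) := by
    obtain ⟨n, -, hn⟩ := FiniteField.card F p
    have hdvd : Nat.card Fp ∣ p ^ (n : ℕ) := by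
      rw [← hn, ← Nat.card_eq_fintype_card]
      exact AddSubgroup.card_addSubgroup_dvd_card Fp
    obtain ⟨m, -, hm⟩ := (Nat.dvd_prime_pow hp.out).mp hdvd
    rw [← Nat.card_eq_fintype_card, hm]
    exact C.Q_coprime.pow_right m
  have hg : (⟨z, hzQ⟩ : C.Q) = 1 := orderOf_eq_one_iff.mp (Nat.eq_one_of_dvd_coprimes hcop
    (orderOf_dvd_natCard _) (orderOf_dvd_of_pow_eq_one hprod))
  exact congrArg Subtype.val hg

theorem φ_conj_Q {a : F} (ha : a ^ p = a) {g : G} (hg : g ∈ C.Q) : C.φ a * g * (C.φ a)⁻¹ ∈ C.Q :=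
  C.norm_Q a ha g hg

theorem cg_eval (a x : F) :
    C.cg a x = C.φ x * (C.Y x * (C.Y (x - a))⁻¹ * C.Y (-a) * (C.Y 0)⁻¹) := by
  have e1 : C.φ x * (C.φ (x - a))⁻¹ = C.φ a := by rw [← φ_sub C, sub_sub_cancel]
  have e2 : C.φ (x - a) * (C.φ (-a))⁻¹ = C.φ x := by rw [← φ_sub C]; congr 1; ring
  calc C.cg a x = C.y * (C.φ x * (C.φ (x - a))⁻¹) * C.y⁻¹ * (C.φ (x - a) * (C.φ (-a))⁻¹) *
        (C.y * C.φ (-a) * C.y⁻¹) := by rw [e1, e2, Conf.cg, φ_neg C]; group
    _ = _ := by simp only [Conf.Y, φ_zero C]; group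

set_option maxHeartbeats 800000 in
include hF hq in
/-- A relation of the standard shape forces the parameter to have norm one. -/
theorem standard (h2 : (2 : F) ≠ 0) {c A B C' : F} (hc : c ^ p = c) (hc0 : c ≠ 0) (hA : A ≠ 0)
    (h : C.cg c A * C.φ B * C.cg (-c) C' = 1)
    (hp' : C.cg c (A ^ p) * C.φ (B ^ p) * C.cg (-c) (C' ^ p) = 1) :
    A ^ Nat.card C.U = (-c) ^ Nat.card C.U := by
  have hnc : (-c) ^ p = -c := fixed_neg hc
  have hcc : c ≠ -c := fun e => hc0 ((mul_eq_zero.mp (show (2 : F) * c = 0 by linear_combination e)).resolve_left h2)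
  have hB : B ≠ 0 := fun hB => by
    rw [hB, φ_zero C, mul_one, mul_eq_one_iff_eq_inv, ← cg_neg C] at h
    exact hA (cg_eq C hF hq hc hnc hcc h).1
  obtain ⟨k, -, w, hw, hBw⟩ := exists_decomp C hF hB
  set s := C.tw c w⁻¹ with hs
  set r := C.tw (-c) w⁻¹ with hr
  have hsU : s ∈ C.U := T_mem C hc (inv_mem hw)
  have hrU : r ∈ C.U := T_mem C hnc (inv_mem hw)
  have hw0 : C.ψ w ≠ 0 := C.ψ_ne w hw
  have h1 : C.cg c (C.ψ s * A) * C.φ (k : F) * C.cg (-c) (C.ψ r * C') = 1 := by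
    rw [← conj_cg C hc (inv_mem hw), ← conj_cg C hnc (inv_mem hw),
      show (k : F) = C.ψ w⁻¹ * B by rw [hBw, ψ_inv C hw]; field_simp,
      ← C.act _ (inv_mem hw)]
    have := congrArg (fun g => w⁻¹ * g * w⁻¹⁻¹) h
    simpa [mul_assoc] using this
  have h1p : C.cg c ((C.ψ s * A) ^ p) * C.φ (k : F) * C.cg (-c) ((C.ψ r * C') ^ p) = 1 := by
    have e : ∀ a : F, C.tw a (w⁻¹ ^ p) = C.tw a w⁻¹ ^ p := fun a => by
      simp only [Conf.tw]
      exact (map_pow (MulAut.conj (C.y * C.φ a * C.y⁻¹)).symm.toMonoidHom w⁻¹ p)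
    rw [mul_pow, mul_pow, ← ψ_pow C hsU, ← ψ_pow C hrU, hs, hr, ← e, ← e,
      ← conj_cg C hc (pow_mem (inv_mem hw) p), ← conj_cg C hnc (pow_mem (inv_mem hw) p),
      show (k : F) = C.ψ (w⁻¹ ^ p) * B ^ p by
        rw [ψ_pow C (inv_mem hw), ψ_inv C hw, hBw, mul_pow, fixed_cast, inv_pow]; field_simp,
      ← C.act _ (pow_mem (inv_mem hw) p)]
    have := congrArg (fun g => w⁻¹ ^ p * g * (w⁻¹ ^ p)⁻¹) hp'
    simpa [mul_assoc] using this
  set α := C.ψ s * A with hα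
  set γ := C.ψ r * C' with hγ
  have hdiff : C.cg c (α ^ p - α) = C.cg (-c) (γ - γ ^ p) := by
    have e1 : C.φ (k : F) = (C.cg c α)⁻¹ * (C.cg (-c) γ)⁻¹ :=
      calc C.φ (k : F) = (C.cg c α)⁻¹ * (C.cg c α * C.φ (k : F) * C.cg (-c) γ) * (C.cg (-c) γ)⁻¹ := by group
        _ = _ := by rw [h1, mul_one]
    rw [e1] at h1p
    rw [sub_eq_add_neg (α ^ p), sub_eq_add_neg γ, cg_add C, cg_neg C, cg_add C, cg_neg C]
    calc C.cg c (α ^ p) * (C.cg c α)⁻¹
        = (C.cg c (α ^ p) * ((C.cg c α)⁻¹ * (C.cg (-c) γ)⁻¹) * C.cg (-c) (γ ^ p)) *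
          ((C.cg (-c) (γ ^ p))⁻¹ * C.cg (-c) γ) := by group
      _ = _ := by
        rw [h1p, one_mul, ← cg_neg C, ← cg_add C, ← cg_add C, add_comm]
  obtain ⟨hα', hγ'⟩ := cg_eq C hF hq hc hnc hcc hdiff
  have hαp : α ^ p = α := sub_eq_zero.mp hα'
  have hγp : γ ^ p = γ := (sub_eq_zero.mp hγ').symm
  have hα0 : α ≠ 0 := mul_ne_zero (C.ψ_ne _ hsU) hA
  have hkp : (k : F) ^ p = k := fixed_cast k
  have h0 : (0 : F) ^ p = 0 := zero_pow hp.out.ne_zero
  have fs : ∀ {a b : F}, a ^ p = a → b ^ p = b → (a - b) ^ p = a - b := fun ha hb => by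
    rw [sub_eq_add_neg]; exact fixed_add ha (fixed_neg hb)
  set Z1 := C.Y α * (C.Y (α - c))⁻¹ * C.Y (-c) * (C.Y 0)⁻¹ with hZ1
  set Z2 := C.Y γ * (C.Y (γ + c))⁻¹ * C.Y c * (C.Y 0)⁻¹ with hZ2
  have hZ1m : Z1 ∈ C.Q := mul_mem (mul_mem (mul_mem (Y_mem C hαp) (inv_mem (Y_mem C (fs hαp hc))))
    (Y_mem C hnc)) (inv_mem (Y_mem C h0))
  have hZ2m : Z2 ∈ C.Q := mul_mem (mul_mem (mul_mem (Y_mem C hγp) (inv_mem (Y_mem C (fixed_add hγp hc))))
    (Y_mem C hc)) (inv_mem (Y_mem C h0))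
  have h3 : C.φ (α + ((k : F) + γ)) * ((C.φ ((k : F) + γ))⁻¹ * Z1 * C.φ ((k : F) + γ) * Z2) = 1 := by
    have : C.φ α * Z1 * C.φ (k : F) * (C.φ γ * Z2) = 1 := by
      have := h1
      rwa [cg_eval C c, cg_eval C (-c), sub_neg_eq_add, neg_neg] at this
    rw [← this, C.φ_add α, C.φ_add (k : F)]
    group
  have hN : α + ((k : F) + γ) = 0 := by
    refine eq_zero_of_mem_Q C ?_
    rw [mul_eq_one_iff_eq_inv.mp h3]
    exact inv_mem (mul_mem (conj_φ_Q C (fixed_add hkp hγp) hZ1m) hZ2m)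
  rw [hN, φ_zero C, one_mul, show (k : F) + γ = -α by linear_combination hN, hZ1,
    show (C.φ (-α))⁻¹ * (C.Y α * (C.Y (α - c))⁻¹ * C.Y (-c) * (C.Y 0)⁻¹) * C.φ (-α) =
      C.Y (α + -α) * (C.Y (α - c + -α))⁻¹ * C.Y (-c + -α) * (C.Y (0 + -α))⁻¹ by
        rw [← Y_shift C α, ← Y_shift C (α - c), ← Y_shift C (-c), ← Y_shift C 0]; group,
    add_neg_cancel, show α - c + -α = -c by ring, zero_add, hZ2] at h3
  letI : CommGroup C.Q := { (inferInstance : Group C.Q) with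
    mul_comm := fun x w => Subtype.ext (C.Q_comm _ x.2 _ w.2) }
  have hc' : (-c - α) ^ p = -c - α := fs hnc hαp
  let Yq : (a : F) → a ^ p = a → C.Q := fun a ha => ⟨C.Y a, Y_mem C ha⟩
  have h4 : Yq 0 h0 * (Yq (-c) hnc)⁻¹ * Yq (-c + -α) (fixed_add hnc (fixed_neg hαp)) * (Yq (-α) (fixed_neg hαp))⁻¹ *
      (Yq γ hγp * (Yq (γ + c) (fixed_add hγp hc))⁻¹ * Yq c hc * (Yq 0 h0)⁻¹) = 1 := Subtype.ext h3
  have h5 : Yq (-c) hnc * Yq 0 h0 * (Yq (-c + -α) (fixed_add hnc (fixed_neg hαp)))⁻¹ * (Yq γ hγp)⁻¹ =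
      Yq 0 h0 * Yq c hc * (Yq (-α) (fixed_neg hαp))⁻¹ * (Yq (γ + c) (fixed_add hγp hc))⁻¹ := by
    refine (mul_one _).symm.trans ((congrArg (Yq (-c) hnc * Yq 0 h0 * (Yq (-c + -α)
      (fixed_add hnc (fixed_neg hαp)))⁻¹ * (Yq γ hγp)⁻¹ * ·) h4.symm).trans ?_)
    apply Additive.ofMul.injective
    simp only [ofMul_mul, ofMul_inv]
    abel
  have h6 : C.Y (-c) * C.Y 0 * (C.Y (-c + -α))⁻¹ * (C.Y γ)⁻¹ =
      C.Y 0 * C.Y c * (C.Y (-α))⁻¹ * (C.Y (γ + c))⁻¹ := congrArg Subtype.val h5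
  have h7 : Commute (C.Y (-c) * C.Y 0 * (C.Y (-c + -α))⁻¹ * (C.Y γ)⁻¹) (C.φ c) := by
    have e : (C.φ c)⁻¹ * (C.Y (-c) * C.Y 0 * (C.Y (-c + -α))⁻¹ * (C.Y γ)⁻¹) * C.φ c =
        C.Y (-c) * C.Y 0 * (C.Y (-c + -α))⁻¹ * (C.Y γ)⁻¹ := by
      calc _ = C.Y (-c + c) * C.Y (0 + c) * (C.Y (-c + -α + c))⁻¹ * (C.Y (γ + c))⁻¹ := by
            rw [← Y_shift C (-c) c, ← Y_shift C 0 c, ← Y_shift C (-c + -α) c, ← Y_shift C γ c]; group
        _ = _ := by rw [h6, neg_add_cancel, zero_add, show -c + -α + c = -α by ring]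
    rw [mul_assoc, inv_mul_eq_iff_eq_mul] at e
    exact e
  have h8 := eq_one_of_fixed_four C hnc h0 (fixed_add hnc (fixed_neg hαp)) hγp hc hc0 h7
  have h9 : C.Y (-c) * (C.Y (-c + -α))⁻¹ = C.Y γ * (C.Y 0)⁻¹ := by
    have e : C.Y 0 * (C.Y (-c + -α))⁻¹ = (C.Y (-c + -α))⁻¹ * C.Y 0 :=
      C.Q_comm _ (Y_mem C h0) _ (inv_mem (Y_mem C (fixed_add hnc (fixed_neg hαp))))
    rw [mul_assoc (C.Y (-c)), e, ← mul_assoc, mul_inv_eq_one] at h8
    rw [← h8, mul_inv_cancel_right]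
  have h10 := diff_inj C hF hq hnc (fixed_add hnc (fixed_neg hαp)) hγp h0 h9
    (fun e => hα0 (by linear_combination e))
  have hαc : α = -c := by linear_combination -h10
  calc A ^ Nat.card C.U = α ^ Nat.card C.U := by rw [hα, mul_pow, ψ_pow_card C hsU, one_mul]
    _ = _ := by rw [hαc]

theorem exists_ψ_eq {x : F} (hF : Fintype.card F = p ^ q) (hq0 : q ≠ 0) (hx : x ^ Nat.card C.U = 1) :
    ∃ w ∈ C.U, C.ψ w = x := by
  have hx0 : x ≠ 0 := by
    rintro rfl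
    rw [zero_pow Nat.card_pos.ne'] at hx
    exact zero_ne_one hx
  obtain ⟨k, hk, w, hw, hxw⟩ := exists_decomp C hF hx0
  have h1 : (k : F) ^ Nat.card C.U = 1 := by
    rw [hxw, mul_pow, ψ_pow_card C hw, mul_one] at hx
    exact hx
  have h2 : (k : F) ^ (p - 1) = 1 := by
    have h3 : (k : F) ^ (p - 1) * k = 1 * k := by
      rw [← pow_succ, Nat.sub_add_cancel hp.out.one_le, fixed_cast, one_mul]
    exact mul_right_cancel₀ hk h3
  have hk1 : (k : F) = 1 := orderOf_eq_one_iff.mp (Nat.eq_one_of_dvd_coprimes C.coprime_U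
    (orderOf_dvd_of_pow_eq_one h1) (orderOf_dvd_of_pow_eq_one h2))
  exact ⟨w, hw, by rw [hxw, hk1, one_mul]⟩

theorem card_U_eq_sum : Nat.card C.U = ∑ i ∈ range q, p ^ i := by
  rw [Nat.geomSum_eq hp.out.two_le]
  exact (Nat.div_eq_of_eq_mul_left (by have := hp.out.two_le; omega) C.card_U.symm).symm

/-- Two elements of norm one with sum two give a relation of the standard shape for each parameter. -/
theorem relation {u v : G} (hu : u ∈ C.U) (hv : v ∈ C.U) (huv : C.ψ u + C.ψ v = 2) {c : F} (hc : c ^ p = c) :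
    C.cg c (C.ψ (C.tw 1 u) * (c - 1) - (2 * c - 1)) *
      C.φ (C.ψ (C.tw (1 - c) u) + C.ψ (C.tw (1 - c) v) * (2 * c - 1)) *
      C.cg (-c) (C.ψ (C.tw (1 - 2 * c) v) * (1 - c) - 1) = 1 := by
  have h1 : (1 : F) ^ p = 1 := one_pow p
  have hc2 : (2 * c) ^ p = 2 * c := by rw [two_mul]; exact fixed_add hc hc
  have fs : ∀ {a b : F}, a ^ p = a → b ^ p = b → (a - b) ^ p = a - b := fun ha hb => by
    rw [sub_eq_add_neg]; exact fixed_add ha (fixed_neg hb)
  set e := 1 - c with he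
  set g := 1 - 2 * c with hg
  have he' : e ^ p = e := fs h1 hc
  have hg' : g ^ p = g := fs h1 hc2
  have i1 := scaled_identity C h1 he' hu
  have i2 := scaled_identity C he' hg' hv
  have i3 := base_identity C h1 hg'
  have hsum : C.φ (C.ψ u * (1 - e)) * C.φ (C.ψ v * (e - g)) = C.φ (1 - g) := by
    rw [← C.φ_add]
    congr 1
    rw [he, hg]
    linear_combination c * huv
  rw [i1, i2, ← i3, mul_one] at hsum
  have hA : C.cg 1 (C.ψ (C.tw 1 u) * (c - 1) - (2 * c - 1)) * C.cg e (C.ψ (C.tw e u) + C.ψ (C.tw e v) * (2 * c - 1)) *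
      C.cg g (C.ψ (C.tw g v) * (1 - c) - 1) = 1 := by
    have e1 : C.ψ (C.tw 1 u) * (c - 1) - (2 * c - 1) = -(-g) + C.ψ (C.tw 1 u) * -e := by rw [he, hg]; ring
    have e2 : C.ψ (C.tw e v) * (2 * c - 1) = C.ψ (C.tw e v) * -g := by rw [hg]; ring
    have e3 : C.ψ (C.tw g v) * (1 - c) - 1 = C.ψ (C.tw g v) * e + -1 := by rw [he]; ring
    rw [e1, e2, e3, cg_add C, cg_add C, cg_add C, cg_neg C, cg_neg C g 1]
    calc _ = (C.cg 1 (-g))⁻¹ * (C.cg 1 (C.ψ (C.tw 1 u) * -e) * C.cg e (C.ψ (C.tw e u)) *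
          (C.cg e (C.ψ (C.tw e v) * -g) * C.cg g (C.ψ (C.tw g v) * e))) * (C.cg g 1)⁻¹ := by group
      _ = _ := by rw [hsum]; group
  have h2 := congrArg (fun z => (C.y * C.φ e * C.y⁻¹)⁻¹ * z * (C.y * C.φ e * C.y⁻¹)) hA
  rw [mul_one, inv_mul_cancel] at h2
  have split : ∀ T a b d : G, T⁻¹ * (a * b * d) * T = (T⁻¹ * a * T) * (T⁻¹ * b * T) * (T⁻¹ * d * T) :=
    fun T a b d => by group
  rwa [split, cg_shift C, cg_shift C, cg_shift C, sub_self, cg_base C, show (1 : F) - e = c by rw [he]; ring,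
    show g - e = -c by rw [he, hg]; ring] at h2

include hF hq in
/-- Such a pair can only be trivial when `p` is larger than `q`. -/
theorem seed_trivial (hq' : q + 1 < p) {u v : G} (hu : u ∈ C.U) (hv : v ∈ C.U)
    (huv : C.ψ u + C.ψ v = 2) : u = 1 := by
  classical
  by_contra hu1
  have h2 : (2 : F) ≠ 0 := fun h => by
    have := Nat.le_of_dvd two_pos ((CharP.cast_eq_zero_iff F p 2).mp (by exact_mod_cast h))
    omega
  set X := C.ψ (C.tw 1 u) with hX
  have hXU : C.tw 1 u ∈ C.U := T_mem C (one_pow p) hu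
  have hX1 : X ≠ 1 := fun h => hu1 (by
    have h1 : C.tw 1 u = 1 := C.ψ_inj hXU C.U.one_mem (h.trans (ψ_one C).symm)
    calc u = C.y * C.φ 1 * C.y⁻¹ * C.tw 1 u * (C.y * C.φ 1 * C.y⁻¹)⁻¹ := by rw [Conf.tw]; group
      _ = 1 := by rw [h1]; group)
  have hXfix : X ^ p ≠ X := fun h => hX1 (by
    rw [hX, eq_one_of_fixed C hXU h, ψ_one C])
  have htw : ∀ (a : F) (w : G), C.tw a (w ^ p) = C.tw a w ^ p := fun a w => by
    simp only [Conf.tw]
    exact (map_pow (MulAut.conj (C.y * C.φ a * C.y⁻¹)).symm.toMonoidHom w p)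
  have key : ∀ c : F, c ^ p = c → c ≠ 0 →
      ∏ i ∈ range q, ((X - 2) ^ p ^ i * c + (1 - X) ^ p ^ i) = (-c) ^ q := by
    intro c hc hc0
    have hnc : (-c) ^ p = -c := fixed_neg hc
    have hfrob : ∀ a b d : F, d ^ p = d → (a * b - d) ^ p = a ^ p * b ^ p - d := fun a b d hd => by
      rw [sub_pow_char, mul_pow, hd]
    have h12 : (2 * c - 1) ^ p = 2 * c - 1 := by
      rw [sub_pow_char, mul_pow, hc, one_pow, show (2 : F) ^ p = 2 from by exact_mod_cast fixed_cast 2]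
    have hA : X * (c - 1) - (2 * c - 1) ≠ 0 := by
      intro hA
      by_cases hc1 : c = 1
      · rw [hc1] at hA
        norm_num at hA
      · apply hXfix
        have : X = (2 * c - 1) / (c - 1) := by rw [eq_div_iff (sub_ne_zero.mpr hc1)]; linear_combination hA
        rw [this, div_pow, h12, sub_pow_char, hc, one_pow]
    have r1 := relation C hu hv huv hc
    have huv' : C.ψ (u ^ p) + C.ψ (v ^ p) = 2 := by
      rw [ψ_pow C hu, ψ_pow C hv, ← add_pow_char, huv]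
      exact_mod_cast fixed_cast 2
    have r2 := relation C (pow_mem hu p) (pow_mem hv p) huv' hc
    have fs : ∀ {a b : F}, a ^ p = a → b ^ p = b → (a - b) ^ p = a - b := fun ha hb => by
      rw [sub_eq_add_neg]; exact fixed_add ha (fixed_neg hb)
    have h1c : (1 - c) ^ p = 1 - c := fs (one_pow p) hc
    have h12c : (1 - 2 * c) ^ p = 1 - 2 * c := fs (one_pow p) (by rw [two_mul]; exact fixed_add hc hc)
    rw [htw, htw, htw, htw, ψ_pow C hXU, ψ_pow C (u := C.tw (1 - c) u) (T_mem C h1c hu),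
      ψ_pow C (u := C.tw (1 - c) v) (T_mem C h1c hv), ψ_pow C (u := C.tw (1 - 2 * c) v) (T_mem C h12c hv), ← hX] at r2
    have r3 := standard C hF hq h2 hc hc0 hA r1 (by
      rw [hfrob X _ _ h12, hfrob _ _ _ (one_pow p), add_pow_char, mul_pow, h12, fs hc (one_pow p), h1c]
      exact r2)
    rw [card_U_eq_sum C, ← Finset.prod_pow_eq_pow_sum, ← Finset.prod_pow_eq_pow_sum] at r3
    have hfix : ∀ (a : F), a ^ p = a → ∀ i : ℕ, a ^ p ^ i = a := fun a ha i => by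
      induction i with
      | zero => simp
      | succ i ih => rw [pow_succ, pow_mul, ih, ha]
    refine (Finset.prod_congr rfl fun i _ => ?_).trans (r3.trans ?_)
    · rw [show X * (c - 1) - (2 * c - 1) = (X - 2) * c + (1 - X) by ring, add_pow_char_pow, mul_pow, hfix c hc i]
    · rw [Finset.prod_congr rfl fun i _ => hfix (-c) hnc i, Finset.prod_const, card_range]
  set Pol : Polynomial F := ∏ i ∈ range q, (Polynomial.C ((X - 2) ^ p ^ i) * Polynomial.X +
    Polynomial.C ((1 - X) ^ p ^ i)) - (-Polynomial.X) ^ q with hPol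
  set S := (Ico 1 p).image fun m : ℕ => (m : F) with hS
  have hPol0 : Pol = 0 := by
    refine Polynomial.eq_zero_of_natDegree_lt_card_of_eval_eq_zero' Pol S (fun c hc => ?_) ?_
    · obtain ⟨m, hm, rfl⟩ := mem_image.mp hc
      obtain ⟨hm1, hm2⟩ := mem_Ico.mp hm
      have hm0 : (m : F) ≠ 0 := fun h => by
        have := Nat.le_of_dvd hm1 ((CharP.cast_eq_zero_iff F p m).mp h)
        omega
      simp [hPol, Polynomial.eval_prod, key _ (fixed_cast m) hm0]
    · have hcard : S.card = p - 1 := by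
        rw [hS, card_image_of_injOn, Nat.card_Ico]
        intro a ha b hb hab
        rw [coe_Ico] at ha hb
        have := (CharP.natCast_eq_natCast F p).mp hab
        rwa [Nat.ModEq, Nat.mod_eq_of_lt ha.2, Nat.mod_eq_of_lt hb.2] at this
      have hdeg : Pol.natDegree ≤ q := by
        refine (Polynomial.natDegree_sub_le _ _).trans (max_le ?_ ?_)
        · refine (Polynomial.natDegree_prod_le _ _).trans ((Finset.sum_le_card_nsmul _ _ 1 fun i _ => ?_).trans (by simp))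
          exact Polynomial.natDegree_linear_le
        · exact Polynomial.natDegree_pow_le.trans (by simp)
      omega
  have h0 := congrArg (Polynomial.eval (0 : F)) hPol0
  simp [hPol, Polynomial.eval_prod, zero_pow (show q ≠ 0 by omega), Finset.prod_eq_zero_iff] at h0
  obtain ⟨a, -, h, -⟩ := h0
  exact hX1 (sub_eq_zero.mp h).symm

include hF in
/-- For `q ≥ 5` a character sum gives a non-trivial pair. -/
theorem exists_seed_five (hq5 : 5 ≤ q) : ∃ u ∈ C.U, ∃ v ∈ C.U, u ≠ 1 ∧ C.ψ u + C.ψ v = 2 := by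
  classical
  by_contra hno
  push Not at hno
  letI : Fintype C.U := Fintype.ofFinite _
  set W : Finset F := (univ : Finset C.U).image (fun w : C.U => C.ψ (w : G)) with hW
  set n := Nat.card C.U with hn
  have hWn : W.card = n := by
    rw [hW, card_image_of_injective (f := fun w : C.U => C.ψ (w : G)) _
      (fun a b h => Subtype.ext (C.ψ_inj a.2 b.2 h)), card_univ, hn, Nat.card_eq_fintype_card]
  have hWmem : ∀ x ∈ W, ∃ w ∈ C.U, C.ψ w = x := fun x hx => by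
    obtain ⟨w, -, rfl⟩ := mem_image.mp hx
    exact ⟨w, w.2, rfl⟩
  obtain ⟨e, he⟩ := AddChar.exists_apply_ne_zero.mpr (one_ne_zero (α := F))
  have hprim : e.IsPrimitive := AddChar.IsPrimitive.of_ne_one fun h => he (by simp [h])
  let η : F → ℂ := fun b => ∑ x ∈ W, e (b * x)
  have hinv : ∀ b, ∀ w ∈ W, η (b * w) = η b := by
    intro b w hw
    obtain ⟨w', hw', rfl⟩ := hWmem w hw
    show ∑ x ∈ W, e (b * C.ψ w' * x) = ∑ x ∈ W, e (b * x)
    rw [hW, Finset.sum_image (g := fun w : C.U => C.ψ (w : G)) (fun a _ b _ h => Subtype.ext (C.ψ_inj a.2 b.2 h)),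
      Finset.sum_image (g := fun w : C.U => C.ψ (w : G)) (fun a _ b _ h => Subtype.ext (C.ψ_inj a.2 b.2 h))]
    refine Fintype.sum_equiv (Equiv.mulLeft (⟨w', hw'⟩ : C.U)) _ _ fun a => ?_
    simp only [Equiv.coe_mulLeft, Subgroup.coe_mul, C.ψ_mul _ hw' _ a.2, mul_assoc]
  have horth : ∀ z : F, ∑ b : F, e (b * z) = if z = 0 then (Fintype.card F : ℂ) else 0 := fun z => by
    have := AddChar.sum_mulShift (R' := ℂ) z hprim
    rw [this]
    split_ifs <;> simp
  set N := (Fintype.card F : ℂ) with hN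
  set R := ((W ×ˢ W).filter fun z => z.1 + z.2 = 2).card with hR
  have hR1 : R ≤ 1 := by
    refine Finset.card_le_one.mpr fun a ha b hb => ?_
    suffices h : ∀ z ∈ (W ×ˢ W).filter (fun z => z.1 + z.2 = 2), z = (1, 1) by rw [h a ha, h b hb]
    intro z hz
    obtain ⟨hz1, hz2⟩ := mem_filter.mp hz
    obtain ⟨w1, hw1, e1⟩ := hWmem _ (mem_product.mp hz1).1
    obtain ⟨w2, hw2, e2⟩ := hWmem _ (mem_product.mp hz1).2
    have : w1 = 1 := by
      by_contra h
      exact hno w1 hw1 w2 hw2 h (by rw [e1, e2, hz2])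
    rw [this, ψ_one C] at e1
    exact Prod.ext e1.symm (by rw [← e1] at hz2; linear_combination hz2)
  have hsq : ∑ b : F, (‖η b‖ ^ 2 : ℝ) = (Fintype.card F * n : ℕ) := by
    have h1 : ∀ b, ((‖η b‖ ^ 2 : ℝ) : ℂ) = ∑ x ∈ W, ∑ x' ∈ W, e (b * (x - x')) := by
      intro b
      rw [Complex.ofReal_pow, ← Complex.mul_conj', map_sum, Finset.sum_mul_sum]
      refine sum_congr rfl fun x _ => sum_congr rfl fun x' _ => ?_
      rw [← AddChar.map_neg_eq_conj, ← AddChar.map_add_eq_mul]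
      ring_nf
    apply Complex.ofReal_injective
    rw [Complex.ofReal_sum, Complex.ofReal_natCast, Finset.sum_congr rfl fun b _ => h1 b, Finset.sum_comm,
      Nat.cast_mul, ← hWn]
    rw [Finset.sum_congr rfl fun x _ => Finset.sum_comm, ]
    simp only [horth, sub_eq_zero, Finset.sum_ite_eq]
    rw [Finset.sum_ite_of_true (fun x hx => hx)]
    simp [mul_comm, hN]
  have hmain : (n : ℂ) * (N * R) = ∑ b : F, η b ^ 2 * η (b * -2) := by
    have h1 : N * R = ∑ b : F, η b ^ 2 * e (b * -2) := by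
      simp only [η, sq, Finset.sum_mul, Finset.mul_sum, ← AddChar.map_add_eq_mul, ← mul_add]
      rw [Finset.sum_comm, hR, card_filter, Nat.cast_sum, Finset.mul_sum, Finset.sum_product]
      refine sum_congr rfl fun x _ => ?_
      rw [Finset.sum_comm]
      refine sum_congr rfl fun x' _ => ?_
      rw [horth]
      have : x + x' + -2 = 0 ↔ x + x' = 2 := add_neg_eq_zero
      simp only [this, ← hN]
      split_ifs <;> simp_all [add_comm]
    rw [h1, ← hWn, ← nsmul_eq_mul, ← Finset.sum_const]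
    calc ∑ w ∈ W, ∑ b : F, η b ^ 2 * e (b * -2) = ∑ w ∈ W, ∑ b : F, η b ^ 2 * e (b * -2 * w) := by
          refine sum_congr rfl fun w hw => ?_
          have hw0 : w ≠ 0 := by
            obtain ⟨w', hw', rfl⟩ := hWmem w hw
            exact C.ψ_ne w' hw'
          rw [← Equiv.sum_comp (Equiv.mulRight₀ w hw0) fun b => η b ^ 2 * e (b * -2)]
          refine sum_congr rfl fun b _ => ?_
          show η (b * w) ^ 2 * e (b * w * -2) = _
          rw [hinv b w hw, mul_right_comm]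
      _ = _ := by rw [Finset.sum_comm]; simp only [η, ← Finset.mul_sum]
  set M := Real.sqrt (Fintype.card F) with hM
  have hM0 : 0 ≤ M := Real.sqrt_nonneg _
  have hbound : ∀ b : F, b ≠ 0 → ‖η b‖ ≤ M := by
    intro b hb
    have h1 : (n : ℝ) * ‖η b‖ ^ 2 ≤ (Fintype.card F * n : ℕ) := by
      rw [← hsq, ← hWn, ← nsmul_eq_mul, ← Finset.sum_const,
        ← Finset.sum_congr rfl (fun w hw => show ‖η (b * w)‖ ^ 2 = _ by rw [hinv b w hw]),
        ← Finset.sum_image (g := fun w => b * w) (f := fun z => ‖η z‖ ^ 2) (fun a _ c _ h => mul_left_cancel₀ hb h)]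
      exact Finset.sum_le_univ_sum_of_nonneg fun z => sq_nonneg _
    have hn0 : (0 : ℝ) < n := by rw [hn]; exact_mod_cast Nat.card_pos
    refine Real.le_sqrt_of_sq_le ?_
    push_cast at h1
    nlinarith
  have hη0 : η 0 = n := by simp [η, hWn]
  have h2 : (2 : F) ≠ 0 := by
    intro h
    have hp2 : p = 2 := ((Nat.prime_dvd_prime_iff_eq hp.out Nat.prime_two).mp
      ((CharP.cast_eq_zero_iff F p 2).mp (by exact_mod_cast h)))
    subst hp2
    obtain ⟨w, hw, hw1⟩ := exists_ne_one C hF (by omega)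
    exact hno w hw w hw hw1 (by rw [CharTwo.add_self_eq_zero, h])
  have hlow : (n : ℝ) ^ 3 ≤ (n : ℝ) * ((Fintype.card F : ℝ) * R) + M * (Fintype.card F * n) := by
    rw [← Finset.add_sum_erase _ _ (mem_univ (0 : F)), zero_mul, hη0] at hmain
    set S := ∑ b ∈ univ.erase 0, η b ^ 2 * η (b * -2) with hS
    have hSb : ‖S‖ ≤ M * (Fintype.card F * n) := by
      calc ‖S‖ ≤ ∑ b ∈ univ.erase 0, ‖η b ^ 2 * η (b * -2)‖ := norm_sum_le _ _
        _ ≤ ∑ b ∈ univ.erase (0 : F), M * ‖η b‖ ^ 2 := by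
            refine sum_le_sum fun b hb => ?_
            rw [norm_mul, norm_pow, mul_comm]
            exact mul_le_mul_of_nonneg_right (hbound _ (mul_ne_zero (ne_of_mem_erase hb) (neg_ne_zero.mpr h2))) (sq_nonneg _)
        _ ≤ M * ∑ b : F, ‖η b‖ ^ 2 := by
            rw [← Finset.mul_sum]
            exact mul_le_mul_of_nonneg_left (sum_le_univ_sum_of_nonneg fun z => sq_nonneg _) hM0
        _ = _ := by rw [hsq]; push_cast; ring
    have h1 : ((n : ℂ) ^ 3) = ((n * (Fintype.card F * R) : ℕ) : ℂ) - S := by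
      push_cast
      linear_combination -hmain
    have h1' := congrArg (‖·‖) h1
    simp only [norm_pow, Complex.norm_natCast] at h1'
    rw [h1']
    refine (norm_sub_le _ _).trans (add_le_add (le_of_eq ?_) hSb)
    rw [Complex.norm_natCast]
    push_cast
    ring
  -- compare sizes
  have hp2' : (2 : ℝ) ≤ p := by exact_mod_cast hp.out.two_le
  have hn0 : (0 : ℝ) < n := by rw [hn]; exact_mod_cast Nat.card_pos
  have hnlow : (p : ℝ) ^ (q - 1) ≤ n := by
    rw [hn, card_U_eq_sum C]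
    exact_mod_cast Finset.single_le_sum (f := fun i => p ^ i) (fun i _ => Nat.zero_le _) (mem_range.mpr (by omega : q - 1 < q))
  have hR' : (R : ℝ) ≤ 1 := by exact_mod_cast hR1
  have hc : (Fintype.card F : ℝ) = (p : ℝ) ^ q := by rw [hF]; push_cast; rfl
  have h3 : (n : ℝ) ^ 2 ≤ (p : ℝ) ^ q * (1 + M) := by
    rw [← hc]
    nlinarith [mul_le_mul_of_nonneg_left hR' (mul_nonneg hn0.le (Nat.cast_nonneg (α := ℝ) (Fintype.card F)))]
  have h4 : (p : ℝ) ^ (q - 2) * (p : ℝ) ^ q ≤ (n : ℝ) ^ 2 := by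
    rw [← pow_add, show q - 2 + q = (q - 1) * 2 by omega, pow_mul]
    exact pow_le_pow_left₀ (by positivity) hnlow 2
  have hpq : (0 : ℝ) < (p : ℝ) ^ q := by positivity
  have h5 : (p : ℝ) ^ (q - 2) ≤ 1 + M := by nlinarith
  have h6 : M ^ 2 = (p : ℝ) ^ q := by rw [hM, Real.sq_sqrt (Nat.cast_nonneg _), hc]
  have h7 : ((p : ℝ) ^ (q - 2)) ^ 2 = (p : ℝ) ^ q * ((p : ℝ) ^ (q - 4)) := by
    rw [← pow_mul, ← pow_add]; congr 1; omega
  have h8 : (p : ℝ) ≤ (p : ℝ) ^ (q - 4) := le_self_pow₀ (by linarith) (by omega)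
  have h9 : (8 : ℝ) ≤ (p : ℝ) ^ q := by
    calc (8 : ℝ) = 2 ^ 3 := by norm_num
      _ ≤ (2 : ℝ) ^ q := pow_le_pow_right₀ (by norm_num) (by omega)
      _ ≤ _ := pow_le_pow_left₀ (by norm_num) hp2' q
  have h10 : (p : ℝ) ^ q * 2 ≤ (1 + M) ^ 2 := by
    calc (p : ℝ) ^ q * 2 ≤ (p : ℝ) ^ q * (p : ℝ) ^ (q - 4) := mul_le_mul_of_nonneg_left (hp2'.trans h8) hpq.le
      _ = ((p : ℝ) ^ (q - 2)) ^ 2 := h7.symm
      _ ≤ _ := pow_le_pow_left₀ (by positivity) h5 2
  nlinarith [sq_nonneg (M - 3)]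

/-- A root of a suitable cubic gives a pair when `q = 3`. -/
theorem exists_seed_three (hF3 : Fintype.card F = p ^ q) (hq3 : q = 3) (hp2 : 2 < p) :
    ∃ u ∈ C.U, ∃ v ∈ C.U, u ≠ 1 ∧ C.ψ u + C.ψ v = 2 := by
  classical
  subst hq3
  have h2 : (2 : ZMod p) ≠ 0 := fun h => by
    have := Nat.le_of_dvd two_pos ((ZMod.natCast_eq_zero_iff 2 p).mp (by exact_mod_cast h))
    omega
  obtain ⟨b, hb⟩ : ∃ b : ZMod p, ∀ t : ZMod p, t ^ 3 + b * t ^ 2 + (-(3 + 2 * b)) * t - 1 ≠ 0 := by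
    by_contra h
    push Not at h
    choose t ht using h
    have hne : ∀ b, t b ^ 2 - 2 * t b ≠ 0 := fun b h0 => by
      have := ht b
      rcases mul_eq_zero.mp (show t b * (t b - 2) = 0 by linear_combination h0) with h | h
      · rw [h] at this; norm_num at this
      · rw [sub_eq_zero] at h
        rw [h] at this
        exact one_ne_zero (show (1 : ZMod p) = 0 by linear_combination this)
    have hinj : Function.Injective t := fun a c hac => by
      have h1 := ht a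
      rw [hac] at h1
      have : (a - c) * (t c ^ 2 - 2 * t c) = 0 := by linear_combination h1 - ht c
      exact sub_eq_zero.mp ((mul_eq_zero.mp this).resolve_right (hne c))
    obtain ⟨c, hc⟩ := (Finite.injective_iff_surjective.mp hinj) 0
    exact hne c (by rw [hc]; ring)
  set g : Polynomial (ZMod p) := Polynomial.X ^ 3 + Polynomial.C b * Polynomial.X ^ 2 +
    Polynomial.C (-(3 + 2 * b)) * Polynomial.X - 1 with hg
  have hdeg : g.natDegree = 3 := by rw [hg]; compute_degree!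
  have hirr : Irreducible g := by
    refine Polynomial.irreducible_of_degree_le_three_of_not_isRoot (by rw [hdeg]; simp) fun x hx => hb x ?_
    simpa [hg] using hx
  haveI := Fact.mk hirr
  haveI : Module.Finite (ZMod p) (AdjoinRoot g) := (AdjoinRoot.powerBasis hirr.ne_zero).finite
  haveI : Finite (AdjoinRoot g) := Module.finite_of_finite (ZMod p)
  letI : Fintype (AdjoinRoot g) := Fintype.ofFinite _
  have hcard : Fintype.card (AdjoinRoot g) = Fintype.card F := by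
    rw [hF3, Module.card_eq_pow_finrank (K := ZMod p), (AdjoinRoot.powerBasis hirr.ne_zero).finrank,
      AdjoinRoot.powerBasis_dim, hdeg, ZMod.card]
  let E : AdjoinRoot g ≃+* F := FiniteField.ringEquivOfCardEq hcard
  set a : F := E (AdjoinRoot.root g) with ha
  letI : Algebra (ZMod p) F := ZMod.algebra F p
  set B : F := algebraMap (ZMod p) F b with hB
  have hBfix : B ^ p = B := by rw [hB, ← map_pow, ZMod.pow_card]
  have hroot : a ^ 3 + B * a ^ 2 + (-(3 + 2 * B)) * a - 1 = 0 := by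
    have h1 := congrArg E (AdjoinRoot.eval₂_root g)
    have hc : (E : AdjoinRoot g →+* F).comp (AdjoinRoot.of g) = algebraMap (ZMod p) F := Subsingleton.elim _ _
    rw [map_zero, ← RingEquiv.coe_toRingHom, Polynomial.hom_eval₂, hc] at h1
    simpa [hg, hB, ha, map_ofNat] using h1
  have hfix : a ^ p ≠ a := fun h => by
    obtain ⟨m, -, hm⟩ := fixed_eq_cast h
    refine hb (m : ZMod p) ((algebraMap (ZMod p) F).injective ?_)
    rw [← hm] at hroot
    simpa [hB, map_ofNat] using hroot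
  have hcard3 : a ^ p ^ 3 = a := by rw [← hF3, FiniteField.pow_card]
  set b1 := a ^ p with hb1
  set b2 := b1 ^ p with hb2
  have hb3 : b2 ^ p = a := by rw [hb2, hb1, ← pow_mul, ← pow_mul]; convert hcard3 using 2; ring
  have hinjp : ∀ {x z : F}, x ^ p = z ^ p → x = z := fun {x z} h => frobenius_inj F p (by simpa [frobenius_def] using h)
  have h12 : b1 ≠ b2 := fun h => hfix (hinjp (show b1 ^ p = a ^ p from h.symm))
  have h02 : a ≠ b2 := fun h => hfix (by
    have := congrArg (· ^ p) h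
    simp only [hb3] at this
    exact this)
  have hfr : ∀ x : F, x ^ 3 + B * x ^ 2 + (-(3 + 2 * B)) * x - 1 = 0 →
      (x ^ p) ^ 3 + B * (x ^ p) ^ 2 + (-(3 + 2 * B)) * x ^ p - 1 = 0 := fun x hx => by
    have := congrArg (frobenius F p) hx
    simp only [map_sub, map_add, map_mul, map_pow, map_neg, map_ofNat, map_one, map_zero, frobenius_def, hBfix] at this
    exact this
  have r1 := hfr a hroot
  rw [← hb1] at r1
  have r2 := hfr b1 r1
  rw [← hb2] at r2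
  have E1 : a ^ 2 + a * b1 + b1 ^ 2 + B * (a + b1) + (-(3 + 2 * B)) = 0 := by
    apply mul_left_cancel₀ (sub_ne_zero.mpr (Ne.symm hfix : a ≠ b1))
    linear_combination hroot - r1
  have E2 : a ^ 2 + a * b2 + b2 ^ 2 + B * (a + b2) + (-(3 + 2 * B)) = 0 := by
    apply mul_left_cancel₀ (sub_ne_zero.mpr h02)
    linear_combination hroot - r2
  have S1 : a + b1 + b2 + B = 0 := by
    apply mul_left_cancel₀ (sub_ne_zero.mpr h12)
    linear_combination E1 - E2
  have P3 : a * b1 * b2 = 1 := by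
    linear_combination hroot + (-a) * E1 + (a * b1) * S1
  have hn : Nat.card C.U = 1 + p + p * p := by rw [card_U_eq_sum C]; simp [Finset.sum_range_succ]; ring
  have ha1 : a ^ Nat.card C.U = 1 := by
    rw [hn, pow_add, pow_add, pow_one, pow_mul, ← hb1, ← hb2, P3]
  have ha2 : (2 - a) ^ Nat.card C.U = 1 := by
    have h2p : (2 : F) ^ p = 2 := by exact_mod_cast fixed_cast 2
    rw [hn, pow_add, pow_add, pow_one, pow_mul, sub_pow_char, h2p, ← hb1, sub_pow_char, h2p, ← hb2]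
    linear_combination (-1 : F) * P3 + (-2 : F) * E1 + (2 * (a + b1) - 4) * S1
  obtain ⟨u, hu, hua⟩ := exists_ψ_eq C hF3 (by omega) ha1
  obtain ⟨v, hv, hva⟩ := exists_ψ_eq C hF3 (by omega) ha2
  refine ⟨u, hu, v, hv, fun h => hfix ?_, by rw [hua, hva]; ring⟩
  have : a = 1 := by rw [← hua, h, ψ_one C]
  rw [hb1, this, one_pow]

include C hF in
/-- The final contradiction. -/
theorem p_le_q (hqp : q.Prime) : p ≤ q := by
  by_contra hlt
  push Not at hlt
  have hq2 := hqp.two_le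
  have hodd : Odd p := hp.out.odd_of_ne_two (by omega)
  obtain ⟨m, hm⟩ := hodd
  rcases hqp.eq_two_or_odd' with rfl | hqodd
  · have h1 := card_U_eq_sum C
    simp [Finset.sum_range_succ] at h1
    have h3 := Nat.dvd_gcd (show 2 ∣ Nat.card C.U by rw [h1, hm]; omega) (show 2 ∣ p - 1 by omega)
    rw [C.coprime_U] at h3
    omega
  obtain ⟨j, hj⟩ := hqodd
  have hq' : q + 1 < p := by omega
  obtain ⟨u, hu, v, hv, hu1, huv⟩ : ∃ u ∈ C.U, ∃ v ∈ C.U, u ≠ 1 ∧ C.ψ u + C.ψ v = 2 := by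
    rcases Nat.lt_or_ge q 5 with h | h
    · exact exists_seed_three C hF (by omega) (by omega)
    · exact exists_seed_five C hF h
  exact hu1 (seed_trivial C hF (by omega) hq' hu hv huv)

end CfsgLib.FieldConfig
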