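/-
The Puig series.
-/
import Mathlib
import Cfsg.Prelude.Def_OddOrderLocal

set_option autoImplicit false

namespace CfsgLib.Puig

universe u
variable {G : Type u} [Group G]

theorem step_anti {X Y : Subgroup G} (h : X ≤ Y) : Cfsg.puigStep Y ≤ Cfsg.puigStep X :=
  sSup_le_sSup fun _ hA => ⟨hA.1, h.trans hA.2⟩

theorem le_step {X A : Subgroup G} [A.Normal] (hA : IsMulCommutative A) : A ≤ Cfsg.puigStep X :=
  le_sSup ⟨hA, by rw [Subgroup.normalizer_eq_top]; exact le_top⟩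

theorem seq_one : Cfsg.puigSeq G 1 = ⊤ := by
  rw [eq_top_iff]
  intro g _
  show g ∈ Cfsg.puigStep (⊥ : Subgroup G)
  exact (le_sSup (s := {A : Subgroup G | IsMulCommutative A ∧ (⊥ : Subgroup G) ≤ Subgroup.normalizer (A : Set G)})
    ⟨inferInstance, bot_le⟩ : Subgroup.zpowers g ≤ _) (Subgroup.mem_zpowers g)

theorem even_le_succ (k : ℕ) : Cfsg.puigSeq G (2 * k) ≤ Cfsg.puigSeq G (2 * k + 1) := by
  induction k with
  | zero => exact bot_le
  | succ k ih => exact step_anti (step_anti ih)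

theorem even_mono_succ (k : ℕ) : Cfsg.puigSeq G (2 * k) ≤ Cfsg.puigSeq G (2 * k + 2) := by
  induction k with
  | zero => exact bot_le
  | succ k ih => exact step_anti (step_anti ih)

theorem even_mono : Monotone (fun n => Cfsg.puigSeq G (2 * n)) :=
  monotone_nat_of_le_succ even_mono_succ

theorem odd_anti : Antitone (fun n => Cfsg.puigSeq G (2 * n + 1)) := fun _ _ h => step_anti (even_mono h)

theorem even_le_odd (n m : ℕ) : Cfsg.puigSeq G (2 * n) ≤ Cfsg.puigSeq G (2 * m + 1) :=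
  ((even_mono (le_max_left n m)).trans (even_le_succ _)).trans (odd_anti (le_max_right n m))

theorem seq_succ (n : ℕ) : Cfsg.puigSeq G (n + 1) = Cfsg.puigStep (Cfsg.puigSeq G n) := rfl

theorem seq_zero : Cfsg.puigSeq G 0 = ⊥ := rfl

attribute [local irreducible] Cfsg.puigSeq Cfsg.puigStep

theorem series [Finite G] :
    Cfsg.puigSeq G 0 = ⊥ ∧ Cfsg.puigSeq G 1 = ⊤ ∧
    (∀ n m : ℕ, Cfsg.puigSeq G (2 * n) ≤ Cfsg.puigSeq G (2 * n + 2) ∧
      Cfsg.puigSeq G (2 * n) ≤ Cfsg.puigSeq G (2 * m + 1) ∧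
      Cfsg.puigSeq G (2 * m + 3) ≤ Cfsg.puigSeq G (2 * m + 1)) ∧
    (∃ k : ℕ, ∀ n : ℕ, k ≤ n → Cfsg.puigSeq G (2 * n) = Cfsg.puigLower G ∧
      Cfsg.puigSeq G (2 * n + 1) = Cfsg.puigSubgroup G) ∧
    Cfsg.puigLower G ≤ Cfsg.puigSubgroup G ∧ Cfsg.puigStep (Cfsg.puigLower G) = Cfsg.puigSubgroup G ∧
    Cfsg.puigStep (Cfsg.puigSubgroup G) = Cfsg.puigLower G := by
  obtain ⟨k, hk⟩ := WellFoundedGT.monotone_chain_condition (α := Subgroup G) ⟨_, even_mono⟩
  simp only [OrderHom.coe_mk] at hk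
  have hlow : Cfsg.puigLower G = Cfsg.puigSeq G (2 * k) := by
    refine le_antisymm (iSup_le fun n => ?_) (le_iSup (fun n => Cfsg.puigSeq G (2 * n)) k)
    by_cases h : k ≤ n
    · exact (hk n h).ge
    · exact even_mono (show n ≤ k by omega)
  have hodd : ∀ n, k ≤ n → Cfsg.puigSeq G (2 * n + 1) = Cfsg.puigSeq G (2 * k + 1) := fun n hn => by
    rw [seq_succ, seq_succ, ← hk n hn]
  have hup : Cfsg.puigSubgroup G = Cfsg.puigSeq G (2 * k + 1) := by
    refine le_antisymm (iInf_le (fun n => Cfsg.puigSeq G (2 * n + 1)) k) (le_iInf fun n => ?_)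
    by_cases h : k ≤ n
    · exact (hodd n h).ge
    · exact odd_anti (show n ≤ k by omega)
  refine ⟨seq_zero, seq_one, fun n m => ⟨even_mono_succ n, even_le_odd n m, odd_anti (show m ≤ m + 1 by omega)⟩,
    ⟨k, fun n hn => ⟨(hk n hn).symm.trans hlow.symm, (hodd n hn).trans hup.symm⟩⟩, ?_, ?_, ?_⟩
  · rw [hlow, hup]; exact even_le_succ k
  · rw [hlow, hup, seq_succ]
  · rw [hlow, hup, ← seq_succ, show 2 * k + 1 + 1 = 2 * (k + 1) by omega]; exact (hk (k + 1) (by omega)).symm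

end CfsgLib.Puig
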