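/-
The Puig subgroups of a Sylow subgroup and of `O_p`, and Puig's theorem for solvable groups of odd order.
-/
import Mathlib
import Cfsg.Agent.Lib.OddLocal.Puig
import Cfsg.Agent.Lib.OddLocal.Stable
import Cfsg.Agent.S1466

set_option autoImplicit false

namespace CfsgLib.Puig

open Subgroup Cfsg
open scoped commutatorElement

universe u
variable {G : Type u} [Group G]

/-- The Puig step computed inside `S`, as a subgroup of `G`. -/
def stepIn (S X : Subgroup G) : Subgroup G :=
  sSup {A : Subgroup G | A ≤ S ∧ IsMulCommutative A ∧ X ≤ normalizer (A : Set G)}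

/-- The Puig series of `S`, as subgroups of `G`. -/
def seqIn (S : Subgroup G) (n : ℕ) : Subgroup G := (puigSeq S n).map S.subtype

/-- `L(S)` as a subgroup of `G`. -/
def up (S : Subgroup G) : Subgroup G := (puigSubgroup S).map S.subtype

/-- `L_*(S)` as a subgroup of `G`. -/
def low (S : Subgroup G) : Subgroup G := (puigLower S).map S.subtype

theorem le_stepIn {S X A : Subgroup G} (h1 : A ≤ S) (h2 : IsMulCommutative A)
    (h3 : X ≤ normalizer (A : Set G)) : A ≤ stepIn S X :=
  le_sSup ⟨h1, h2, h3⟩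

theorem map_puigStep (S : Subgroup G) (Y : Subgroup S) :
    (puigStep Y).map S.subtype = stepIn S (Y.map S.subtype) := by
  refine le_antisymm ?_ (sSup_le ?_)
  · refine Subgroup.map_le_iff_le_comap.mpr (sSup_le fun A hA => ?_)
    obtain ⟨hAc, hYA⟩ := hA
    refine Subgroup.map_le_iff_le_comap.mp (le_stepIn (Subgroup.map_subtype_le A) inferInstance ?_)
    exact (Subgroup.map_mono hYA).trans (Subgroup.le_normalizer_map S.subtype)
  · rintro A ⟨hAS, hAc, hYA⟩
    have h1 : A.subgroupOf S ≤ puigStep Y := by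
      refine le_sSup ⟨⟨⟨fun a b => ?_⟩⟩, fun y hy => ?_⟩
      · exact Subtype.ext (Subtype.ext (congrArg (fun w : A => (w : G))
          (hAc.is_comm.comm ⟨((a : S) : G), a.2⟩ ⟨((b : S) : G), b.2⟩)))
      · have hy' := Subgroup.mem_normalizer_iff.mp (hYA (Subgroup.mem_map_of_mem S.subtype hy))
        rw [Subgroup.mem_normalizer_iff]
        exact fun b => hy' (b : G)
    intro a ha
    exact ⟨⟨a, hAS ha⟩, h1 (show (⟨a, hAS ha⟩ : S) ∈ A.subgroupOf S from ha), rfl⟩

theorem seqIn_zero (S : Subgroup G) : seqIn S 0 = ⊥ := Subgroup.map_bot _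

theorem seqIn_succ (S : Subgroup G) (n : ℕ) : seqIn S (n + 1) = stepIn S (seqIn S n) :=
  map_puigStep S (puigSeq S n)

theorem seqIn_one (S : Subgroup G) : seqIn S 1 = S := by
  rw [seqIn, seq_one, ← MonoidHom.range_eq_map, Subgroup.range_subtype]

theorem seqIn_le (S : Subgroup G) (n : ℕ) : seqIn S n ≤ S := Subgroup.map_subtype_le _

theorem stabilizes [Finite G] (S : Subgroup G) :
    ∃ k : ℕ, ∀ n : ℕ, k ≤ n → seqIn S (2 * n) = low S ∧ seqIn S (2 * n + 1) = up S := by
  obtain ⟨-, -, -, ⟨k, hk⟩, -, -, -⟩ := series (G := S)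
  exact ⟨k, fun n hn => ⟨by rw [seqIn, (hk n hn).1, low], by rw [seqIn, (hk n hn).2, up]⟩⟩

theorem seqIn_le_low [Finite G] (S : Subgroup G) (n : ℕ) : seqIn S (2 * n) ≤ low S :=
  Subgroup.map_mono (le_iSup (fun n => puigSeq S (2 * n)) n)

theorem up_le_seqIn [Finite G] (S : Subgroup G) (n : ℕ) : up S ≤ seqIn S (2 * n + 1) :=
  Subgroup.map_mono (iInf_le (fun n => puigSeq S (2 * n + 1)) n)

theorem low_le_up [Finite G] (S : Subgroup G) : low S ≤ up S := by
  obtain ⟨-, -, -, -, h, -, -⟩ := series (G := S)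
  exact Subgroup.map_mono h

theorem stepIn_low [Finite G] (S : Subgroup G) : stepIn S (low S) = up S := by
  obtain ⟨-, -, -, -, -, h, -⟩ := series (G := S)
  rw [low, ← map_puigStep, h, up]

theorem stepIn_up [Finite G] (S : Subgroup G) : stepIn S (up S) = low S := by
  obtain ⟨-, -, -, -, -, -, h⟩ := series (G := S)
  rw [up, ← map_puigStep, h, low]

theorem normalizer_le_seqIn (S : Subgroup G) : ∀ n : ℕ,
    normalizer (S : Set G) ≤ normalizer (seqIn S n : Set G) := by
  intro n
  induction n with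
  | zero => rw [seqIn_zero]; exact le_top.trans (Subgroup.normalizer_eq_top (H := (⊥ : Subgroup G))).ge
  | succ n ih =>
    intro g hg
    have key : ∀ g ∈ normalizer (S : Set G), ∀ a ∈ seqIn S (n + 1), g * a * g⁻¹ ∈ seqIn S (n + 1) := by
      intro g hg
      suffices h : seqIn S (n + 1) ≤ (seqIn S (n + 1)).comap (MulAut.conj g).toMonoidHom from fun a ha => h ha
      rw [seqIn_succ]
      refine sSup_le fun A hA => Subgroup.map_le_iff_le_comap.mp ?_
      obtain ⟨hAS, hAc, hXA⟩ := hA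
      refine le_stepIn ?_ inferInstance ?_
      · rintro _ ⟨a, ha, rfl⟩
        exact (Subgroup.mem_normalizer_iff.mp hg a).mp (hAS ha)
      · intro x hx
        have h1 : g⁻¹ * x * g ∈ seqIn S n :=
          (Subgroup.mem_normalizer_iff.mp (ih hg) _).mpr (by simpa [mul_assoc] using hx)
        have h2 := Subgroup.le_normalizer_map (MulAut.conj g).toMonoidHom
          (Subgroup.mem_map_of_mem (MulAut.conj g).toMonoidHom (hXA h1))
        have h3 : (MulAut.conj g).toMonoidHom (g⁻¹ * x * g) = x := by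
          show g * (g⁻¹ * x * g) * g⁻¹ = x
          group
        rwa [h3] at h2
    rw [Subgroup.mem_normalizer_iff]
    refine fun a => ⟨key g hg a, fun ha => ?_⟩
    simpa [mul_assoc] using key g⁻¹ (inv_mem hg) _ ha

theorem normalizer_le_up [Finite G] (S : Subgroup G) : normalizer (S : Set G) ≤ normalizer (up S : Set G) := by
  obtain ⟨k, hk⟩ := stabilizes S
  rw [← (hk k le_rfl).2]
  exact normalizer_le_seqIn S _

/-- `L(R) = L(S)` when `L(S) ≤ R ≤ S`. -/
theorem up_eq_of_le [Finite G] {R S : Subgroup G} (hRS : R ≤ S) (h : up S ≤ R) : up R = up S := by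
  have h1 : ∀ n, seqIn S (2 * n) ≤ seqIn R (2 * n) ∧ seqIn R (2 * n + 1) ≤ seqIn S (2 * n + 1) := by
    intro n
    induction n with
    | zero => exact ⟨by rw [seqIn_zero]; exact bot_le, by rw [seqIn_one, seqIn_one]; exact hRS⟩
    | succ n ih =>
      have he : seqIn S (2 * n + 2) ≤ seqIn R (2 * n + 2) := by
        rw [seqIn_succ, seqIn_succ R]
        refine sSup_le fun A hA => le_stepIn ?_ hA.2.1 (ih.2.trans hA.2.2)
        exact (((le_stepIn hA.1 hA.2.1 hA.2.2).trans (seqIn_succ S (2 * n + 1)).ge).trans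
          ((seqIn_le_low S (n + 1)).trans (low_le_up S))).trans h
      refine ⟨he, ?_⟩
      show seqIn R (2 * n + 2 + 1) ≤ seqIn S (2 * n + 2 + 1)
      rw [seqIn_succ, seqIn_succ S]
      exact sSup_le fun A hA => le_stepIn (hA.1.trans hRS) hA.2.1 (he.trans hA.2.2)
  have h2 : ∀ n, seqIn R (2 * n) ≤ low S ∧ up S ≤ seqIn R (2 * n + 1) := by
    intro n
    induction n with
    | zero => exact ⟨by rw [seqIn_zero]; exact bot_le, by rw [seqIn_one]; exact h⟩
    | succ n ih =>
      have he : seqIn R (2 * n + 2) ≤ low S := by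
        rw [seqIn_succ, ← stepIn_up S]
        exact sSup_le fun A hA => le_stepIn (hA.1.trans hRS) hA.2.1 (ih.2.trans hA.2.2)
      refine ⟨he, ?_⟩
      show up S ≤ seqIn R (2 * n + 2 + 1)
      rw [seqIn_succ, ← stepIn_low S]
      refine sSup_le fun A hA => le_stepIn ?_ hA.2.1 (he.trans hA.2.2)
      exact ((le_stepIn hA.1 hA.2.1 hA.2.2).trans (stepIn_low S).le).trans h
  obtain ⟨kS, hkS⟩ := stabilizes S
  obtain ⟨kR, hkR⟩ := stabilizes R
  refine le_antisymm ?_ ?_
  · rw [← (hkS _ (le_max_left kS kR)).2, ← (hkR _ (le_max_right kS kR)).2]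
    exact (h1 _).2
  · rw [← (hkR kR le_rfl).2]
    exact (h2 kR).2

/-- The terms of positive index contain their centralisers. -/
theorem inf_centralizer_seqIn_le [Finite G] {p : ℕ} [Fact p.Prime] {S : Subgroup G} (hS : IsPGroup p S)
    {n : ℕ} (hn : 0 < n) : S ⊓ centralizer (seqIn S n : Set G) ≤ seqIn S n := by
  intro x hx
  obtain ⟨hxS, hxC⟩ := Subgroup.mem_inf.mp hx
  rcases subsingleton_or_nontrivial S with hsub | hnt
  · have : x = 1 := congrArg Subtype.val (hsub.elim ⟨x, hxS⟩ 1)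
    rw [this]; exact one_mem _
  · refine ⟨⟨x, hxS⟩, ((Cfsg.Agent.S1466.result p hS).1 n hn).2 ?_, rfl⟩
    intro y hy
    exact Subtype.ext (hxC _ (Subgroup.mem_map_of_mem S.subtype hy))

theorem inf_centralizer_up_le [Finite G] {p : ℕ} [Fact p.Prime] {S : Subgroup G} (hS : IsPGroup p S) :
    S ⊓ centralizer (up S : Set G) ≤ up S := by
  obtain ⟨k, hk⟩ := stabilizes S
  rw [← (hk k le_rfl).2]
  exact inf_centralizer_seqIn_le hS (Nat.succ_pos _)

/-- A normal abelian subgroup of `G` inside `S` lies in all terms of positive index. -/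
theorem le_seqIn {S A : Subgroup G} [A.Normal] (hAc : IsMulCommutative A) (hAS : A ≤ S) {n : ℕ} (hn : 0 < n) :
    A ≤ seqIn S n := by
  obtain ⟨m, rfl⟩ := Nat.exists_eq_succ_of_ne_zero hn.ne'
  rw [seqIn_succ]
  exact le_stepIn hAS hAc (by rw [Subgroup.normalizer_eq_top]; exact le_top)

section Odd

variable [Finite G] [Group.IsSolvable G] {p : ℕ} [Fact p.Prime]

/-- The centraliser of a normal `p`-subgroup containing its centraliser in `O_p` is a `p`-group. -/
theorem centralizer_isPGroup (hO : pPrimeCore p G = ⊥) {V : Subgroup G} [V.Normal]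
    (hV : pCore p G ⊓ centralizer (V : Set G) ≤ V) : IsPGroup p (centralizer (V : Set G)) := by
  set C := centralizer (V : Set G) with hC
  haveI : C.Normal := Subgroup.normal_centralizer
  have hC0 : pPrimeCore p C = ⊥ := by
    haveI : ((pPrimeCore p C).map C.subtype).Normal := inferInstance
    have h1 := CfsgLib.le_pPrimeCore (N := (pPrimeCore p C).map C.subtype) (p := p) (by
      rw [Subgroup.card_map_of_injective C.subtype_injective]
      exact CfsgLib.card_pPrimeCore_coprime p)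
    rw [hO, le_bot_iff, Subgroup.map_eq_bot_iff_of_injective _ C.subtype_injective] at h1
    exact h1
  have hCC : pCore p C = ⊤ := by
    rw [eq_top_iff]
    refine le_trans ?_ (CfsgLib.centralizer_pCore_le (G := C) Fact.out hC0)
    intro c _ d hd
    haveI : ((pCore p C).map C.subtype).Normal := inferInstance
    have hdG : (d : G) ∈ pCore p G :=
      CfsgLib.le_pCore (N := (pCore p C).map C.subtype) ((CfsgLib.isPGroup_pCore p).map _) ⟨d, hd, rfl⟩
    exact Subtype.ext (c.2 _ (hV (Subgroup.mem_inf.mpr ⟨hdG, d.2⟩)))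
  intro c
  obtain ⟨k, hk⟩ := CfsgLib.isPGroup_pCore (G := C) p ⟨c, by rw [hCC]; trivial⟩
  exact ⟨k, congrArg Subtype.val hk⟩

/-- An abelian `p`-subgroup normalised by an odd term of the series of `O_p` lies in `O_p`. -/
theorem le_pCore_of_normalized (hodd : Odd (Nat.card G)) (hp : p ≠ 2) (hO : pPrimeCore p G = ⊥) (n : ℕ)
    {A : Subgroup G} (hA : IsPGroup p A) (hAc : IsMulCommutative A)
    (hn : seqIn (pCore p G) (2 * n + 1) ≤ normalizer (A : Set G)) : A ≤ pCore p G := by
  set V := seqIn (pCore p G) (2 * n + 1) with hV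
  haveI : V.Normal := Subgroup.normalizer_eq_top_iff.mp (top_le_iff.mp
    (le_trans (by rw [Subgroup.normalizer_eq_top]) (normalizer_le_seqIn (pCore p G) (2 * n + 1))))
  have hVp : IsPGroup p V := (CfsgLib.isPGroup_pCore p).to_le (seqIn_le _ _)
  have hCp := centralizer_isPGroup hO (V := V)
    (inf_centralizer_seqIn_le (CfsgLib.isPGroup_pCore p) (Nat.succ_pos _))
  intro a ha
  obtain ⟨k, hk⟩ := hA ⟨a, ha⟩
  have h1 : ⁅V, zpowers a⁆ ≤ A := by
    refine (Subgroup.commutator_mono le_rfl (zpowers_le.mpr ha)).trans ?_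
    rw [Subgroup.commutator_le]
    intro x hx y hy
    rw [commutatorElement_def]
    exact A.mul_mem ((Subgroup.mem_normalizer_iff.mp (hn hx) y).mp hy) (A.inv_mem hy)
  have hq : ⁅⁅V, zpowers a⁆, zpowers a⁆ = ⊥ := by
    rw [eq_bot_iff, Subgroup.commutator_le]
    intro x hx y hy
    rw [Subgroup.mem_bot, commutatorElement_eq_one_iff_mul_comm]
    exact congrArg Subtype.val (hAc.is_comm.comm ⟨x, h1 hx⟩ ⟨y, zpowers_le.mpr ha hy⟩)
  have h2 := CfsgLib.OddStable.quadStable hodd hp V hVp a ⟨k, by simpa using congrArg Subtype.val hk⟩ hq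
  exact CfsgLib.le_pCore (N := (pCore p (G ⧸ centralizer (V : Set G))).comap (QuotientGroup.mk' _))
    ((CfsgLib.isPGroup_pCore (G := G ⧸ centralizer (V : Set G)) p).comap_of_ker_isPGroup _
      (by rw [QuotientGroup.ker_mk']; exact hCp)) h2

theorem low_up_comparison (hodd : Odd (Nat.card G)) (hp : p ≠ 2) (hO : pPrimeCore p G = ⊥) (S : Sylow p G) :
    low (S : Subgroup G) ≤ low (pCore p G) ∧ up (pCore p G) ≤ up (S : Subgroup G) := by
  set T := pCore p G with hT
  have hTS : T ≤ (S : Subgroup G) := CfsgLib.pCore_le_sylow S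
  have h1 : ∀ n, seqIn (S : Subgroup G) (2 * n) ≤ seqIn T (2 * n) ∧
      seqIn T (2 * n + 1) ≤ seqIn (S : Subgroup G) (2 * n + 1) := by
    intro n
    induction n with
    | zero => exact ⟨by rw [seqIn_zero]; exact bot_le, by rw [seqIn_one, seqIn_one]; exact hTS⟩
    | succ n ih =>
      have he : seqIn (S : Subgroup G) (2 * n + 2) ≤ seqIn T (2 * n + 2) := by
        rw [seqIn_succ, seqIn_succ T]
        refine sSup_le fun A hA => le_stepIn ?_ hA.2.1 (ih.2.trans hA.2.2)
        exact le_pCore_of_normalized hodd hp hO n (S.2.to_le hA.1) hA.2.1 (ih.2.trans hA.2.2)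
      refine ⟨he, ?_⟩
      show seqIn T (2 * n + 2 + 1) ≤ seqIn (S : Subgroup G) (2 * n + 2 + 1)
      rw [seqIn_succ, seqIn_succ (S : Subgroup G)]
      exact sSup_le fun A hA => le_stepIn (hA.1.trans hTS) hA.2.1 (he.trans hA.2.2)
  obtain ⟨kS, hkS⟩ := stabilizes (S : Subgroup G)
  obtain ⟨kT, hkT⟩ := stabilizes T
  constructor
  · rw [← (hkS _ (le_max_left kS kT)).1, ← (hkT _ (le_max_right kS kT)).1]
    exact (h1 _).1
  · rw [← (hkS _ (le_max_left kS kT)).2, ← (hkT _ (le_max_right kS kT)).2]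
    exact (h1 _).2

/-- The centre of `L(S)`, as a subgroup of `G`. -/
theorem map_center_eq {G : Type u} [Group G] (S : Subgroup G) :
    ((center (puigSubgroup S)).map (puigSubgroup S).subtype).map S.subtype =
      up S ⊓ centralizer (up S : Set G) := by
  ext x
  constructor
  · rintro ⟨_, ⟨⟨y, hy⟩, hc, rfl⟩, rfl⟩
    refine Subgroup.mem_inf.mpr ⟨⟨y, hy, rfl⟩, ?_⟩
    rintro _ ⟨z, hz, rfl⟩
    exact congrArg (fun w : puigSubgroup S => ((w : S) : G)) (Subgroup.mem_center_iff.mp hc ⟨z, hz⟩)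
  · intro hx
    obtain ⟨⟨y, hy, rfl⟩, hc⟩ := Subgroup.mem_inf.mp hx
    refine ⟨y, ⟨⟨y, hy⟩, ?_, rfl⟩, rfl⟩
    refine Subgroup.mem_center_iff.mpr fun z => Subtype.ext (Subtype.ext ?_)
    exact hc _ ⟨z, z.2, rfl⟩

/-- Puig's theorem: the centre of `L(S)` is normal. -/
theorem center_up_normal (hodd : Odd (Nat.card G)) (hp : p ≠ 2) (hO : pPrimeCore p G = ⊥) (S : Sylow p G) :
    (up (S : Subgroup G) ⊓ centralizer (up (S : Subgroup G) : Set G)).Normal := by
  set T := pCore p G with hT
  have hTS : T ≤ (S : Subgroup G) := CfsgLib.pCore_le_sylow S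
  obtain ⟨-, hup⟩ := low_up_comparison hodd hp hO S
  set Z := up (S : Subgroup G) ⊓ centralizer (up (S : Subgroup G) : Set G) with hZ
  haveI hUT : (up T).Normal := Subgroup.normalizer_eq_top_iff.mp (top_le_iff.mp
    (le_trans (by rw [Subgroup.normalizer_eq_top]) (normalizer_le_up T)))
  haveI : (centralizer (up T : Set G)).Normal := Subgroup.normal_centralizer
  set Y := up T ⊓ centralizer (up T : Set G) with hY
  haveI hYn : Y.Normal := inferInstance
  have hYc : IsMulCommutative Y :=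
    ⟨⟨fun a b => Subtype.ext ((Subgroup.mem_inf.mp b.2).2 _ (Subgroup.mem_inf.mp a.2).1)⟩⟩
  have hupT : up T ≤ T := Subgroup.map_subtype_le _
  have hYS : Y ≤ (S : Subgroup G) := (inf_le_left.trans hupT).trans hTS
  have hZY : Z ≤ Y := by
    intro z hz
    obtain ⟨-, hzC⟩ := Subgroup.mem_inf.mp hz
    have hzT : z ∈ centralizer (up T : Set G) := fun y hy => hzC y (hup hy)
    have hCp := centralizer_isPGroup hO (V := up T) (inf_centralizer_up_le (CfsgLib.isPGroup_pCore p))
    have hzT' : z ∈ T := CfsgLib.le_pCore hCp hzT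
    exact Subgroup.mem_inf.mpr
      ⟨inf_centralizer_up_le (CfsgLib.isPGroup_pCore p) (Subgroup.mem_inf.mpr ⟨hzT', hzT⟩), hzT⟩
  have hYlow : Y ≤ low (S : Subgroup G) := (le_seqIn hYc hYS (by omega : 0 < 2 * 1)).trans (seqIn_le_low _ 1)
  set C := centralizer (Y : Set G) with hC
  haveI : C.Normal := Subgroup.normal_centralizer
  set π := QuotientGroup.mk' C with hπ
  have hπs : Function.Surjective π := QuotientGroup.mk'_surjective C
  set K := (pCore p (G ⧸ C)).comap π with hK
  haveI hKn : K.Normal := Subgroup.normal_comap π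
  have hupK : up (S : Subgroup G) ≤ K := by
    rw [← stepIn_low]
    refine sSup_le fun A hA a ha => ?_
    obtain ⟨hAS, hAc, hAN⟩ := hA
    obtain ⟨k, hk⟩ := (S.2.to_le hAS) ⟨a, ha⟩
    have h1 : ⁅Y, zpowers a⁆ ≤ A := by
      refine (Subgroup.commutator_mono le_rfl (zpowers_le.mpr ha)).trans ?_
      rw [Subgroup.commutator_le]
      intro x hx y hy
      rw [commutatorElement_def]
      exact A.mul_mem ((Subgroup.mem_normalizer_iff.mp (hAN (hYlow hx)) y).mp hy) (A.inv_mem hy)
    have hq : ⁅⁅Y, zpowers a⁆, zpowers a⁆ = ⊥ := by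
      rw [eq_bot_iff, Subgroup.commutator_le]
      intro x hx y hy
      rw [Subgroup.mem_bot, commutatorElement_eq_one_iff_mul_comm]
      exact congrArg Subtype.val (hAc.is_comm.comm ⟨x, h1 hx⟩ ⟨y, zpowers_le.mpr ha hy⟩)
    exact CfsgLib.OddStable.quadStable hodd hp Y (S.2.to_le hYS) a
      ⟨k, by simpa using congrArg Subtype.val hk⟩ hq
  set R := (S : Subgroup G) ⊓ K with hR
  have hLR : up R = up (S : Subgroup G) :=
    up_eq_of_le inf_le_left (le_inf (Subgroup.map_subtype_le _) hupK)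
  obtain ⟨P, hP⟩ : ∃ P : Sylow p K, (P : Subgroup K) = (S : Subgroup G).subgroupOf K := by
    obtain ⟨P, hle⟩ := (S.2.comap_subtype (K := K)).exists_le_sylow
    refine ⟨P, (Subgroup.eq_of_le_of_card_ge hle ?_).symm⟩
    obtain ⟨Q, hQ⟩ := P.exists_comap_subtype_eq
    obtain ⟨g, hg⟩ := MulAction.exists_smul_eq G S Q
    have e1 : ((Q : Subgroup G) ⊓ K) = R.map (MulAut.conj g).toMonoidHom := by
      rw [← hg, hR, Subgroup.map_inf _ _ _ (MulAut.conj g).injective]
      congr 1
      refine le_antisymm (fun x hx => ?_) ?_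
      · refine ⟨g⁻¹ * x * g, by simpa [mul_assoc] using hKn.conj_mem x hx g⁻¹, ?_⟩
        show g * (g⁻¹ * x * g) * g⁻¹ = x
        group
      · rintro _ ⟨x, hx, rfl⟩
        exact hKn.conj_mem x hx g
    rw [← hQ]
    show Nat.card ((Q : Subgroup G).subgroupOf K) ≤ Nat.card ((S : Subgroup G).subgroupOf K)
    have hc : ∀ X : Subgroup G, Nat.card (X.subgroupOf K) = Nat.card ↥(X ⊓ K) := fun X => by
      rw [← Subgroup.subgroupOf_map_subtype, Subgroup.card_map_of_injective K.subtype_injective]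
    rw [hc, hc, e1, Subgroup.card_map_of_injective (MulAut.conj g).injective]
  have hfr : normalizer (R : Set G) ⊔ K = ⊤ := by
    have h := Sylow.normalizer_sup_eq_top P
    rw [hP, Subgroup.subgroupOf_map_subtype] at h
    exact h
  have hKC : K ≤ C ⊔ R := by
    intro k hk
    have h1 : π k ∈ (S : Subgroup G).map π := (CfsgLib.pCore_le_sylow (S.mapSurjective hπs)) hk
    obtain ⟨s, hs, hsk⟩ := h1
    have hsK : s ∈ K := show π s ∈ pCore p (G ⧸ C) by rw [hsk]; exact hk
    have hc : k * s⁻¹ ∈ C := (QuotientGroup.eq_one_iff _).mp (by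
      show π (k * s⁻¹) = 1
      rw [map_mul, map_inv, hsk, mul_inv_cancel])
    have := Subgroup.mul_mem_sup hc (Subgroup.mem_inf.mpr ⟨hs, hsK⟩ : s ∈ R)
    rwa [inv_mul_cancel_right] at this
  rw [← Subgroup.normalizer_eq_top_iff, ← top_le_iff, ← hfr]
  have hNR : normalizer (R : Set G) ≤ normalizer (Z : Set G) := by
    intro g hg
    have hgL : g ∈ normalizer (up (S : Subgroup G) : Set G) := hLR ▸ normalizer_le_up R hg
    have key : ∀ g ∈ normalizer (up (S : Subgroup G) : Set G), ∀ a ∈ Z, g * a * g⁻¹ ∈ Z := by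
      intro g hg a ha
      obtain ⟨ha1, ha2⟩ := Subgroup.mem_inf.mp ha
      refine Subgroup.mem_inf.mpr ⟨(Subgroup.mem_normalizer_iff.mp hg a).mp ha1, fun y hy => ?_⟩
      have h1 : g⁻¹ * y * g * a = a * (g⁻¹ * y * g) :=
        ha2 _ ((Subgroup.mem_normalizer_iff.mp hg _).mpr (by simpa [mul_assoc] using hy))
      calc y * (g * a * g⁻¹) = g * (g⁻¹ * y * g * a) * g⁻¹ := by group
        _ = g * a * g⁻¹ * y := by rw [h1]; group
    rw [Subgroup.mem_normalizer_iff]
    refine fun a => ⟨key g hgL a, fun ha => ?_⟩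
    simpa [mul_assoc] using key g⁻¹ (inv_mem hgL) _ ha
  refine sup_le hNR (hKC.trans (sup_le ?_ (Subgroup.le_normalizer.trans hNR)))
  intro c hc
  rw [Subgroup.mem_normalizer_iff]
  intro a
  constructor <;> intro ha
  · have h1 : a * c = c * a := hc a (hZY ha)
    rwa [← h1, mul_inv_cancel_right]
  · have h1 := hc _ (hZY ha)
    have h2 : a = c * a * c⁻¹ := by
      have := congrArg (fun w => c⁻¹ * w) h1
      simpa [mul_assoc] using this
    rwa [h2]

end Odd

end CfsgLib.Puig
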