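/-
The Puig subgroup under isomorphisms and in `G / O_{p'}(G)`.
-/
import Mathlib
import Cfsg.Agent.Lib.OddLocal.PuigTheorem
import Cfsg.Agent.Lib.StrongFusion.Stable

set_option autoImplicit false

namespace CfsgLib.Puig

open Subgroup Cfsg

universe u
variable {G H : Type u} [Group G] [Group H]

theorem map_puigStep_le (e : G ≃* H) (Y : Subgroup G) :
    (puigStep Y).map e.toMonoidHom ≤ puigStep (Y.map e.toMonoidHom) := by
  refine Subgroup.map_le_iff_le_comap.mpr (sSup_le fun A hA => Subgroup.map_le_iff_le_comap.mp (le_sSup ?_))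
  obtain ⟨hAc, hYA⟩ := hA
  exact ⟨inferInstance, (Subgroup.map_mono hYA).trans (Subgroup.le_normalizer_map e.toMonoidHom)⟩

theorem map_puigStep_equiv (e : G ≃* H) (Y : Subgroup G) :
    (puigStep Y).map e.toMonoidHom = puigStep (Y.map e.toMonoidHom) := by
  refine le_antisymm (map_puigStep_le e Y) fun x hx => ?_
  have h := map_puigStep_le e.symm (Y.map e.toMonoidHom) ⟨x, hx, rfl⟩
  have h2 : (Y.map e.toMonoidHom).map e.symm.toMonoidHom = Y := by
    rw [Subgroup.map_map]
    convert Subgroup.map_id Y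
    exact MonoidHom.ext fun y => e.symm_apply_apply y
  rw [h2] at h
  exact ⟨_, h, e.apply_symm_apply x⟩

theorem map_puigSeq (e : G ≃* H) : ∀ n : ℕ, (puigSeq G n).map e.toMonoidHom = puigSeq H n
  | 0 => Subgroup.map_bot _
  | n + 1 => by rw [seq_succ, seq_succ, map_puigStep_equiv, map_puigSeq e n]

/-- The Puig series of the image, for a homomorphism injective on `S`. -/
theorem seqIn_map (f : G →* H) (S : Subgroup G) (hf : Set.InjOn f (S : Set G)) (n : ℕ) :
    seqIn (S.map f) n = (seqIn S n).map f := by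
  have hinj : Function.Injective (f.subgroupMap S) := fun a b h =>
    Subtype.ext (hf a.2 b.2 (congrArg Subtype.val h))
  let e : S ≃* S.map f := MulEquiv.ofBijective (f.subgroupMap S) ⟨hinj, f.subgroupMap_surjective S⟩
  rw [seqIn, seqIn, ← map_puigSeq e n, Subgroup.map_map, Subgroup.map_map]
  congr 1

theorem up_map [Finite G] [Finite H] (f : G →* H) (S : Subgroup G) (hf : Set.InjOn f (S : Set G)) :
    up (S.map f) = (up S).map f := by
  obtain ⟨k, hk⟩ := stabilizes S
  obtain ⟨l, hl⟩ := stabilizes (S.map f)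
  rw [← (hk _ (le_max_left k l)).2, ← (hl _ (le_max_right k l)).2, seqIn_map f S hf]

/-- Frattini for a `p`-subgroup whose image in `G / O_{p'}` is normal. -/
theorem sup_normalizer_of_map_normal [Finite G] {p : ℕ} [Fact p.Prime] {Z : Subgroup G} (hZp : IsPGroup p Z)
    (hn : (Z.map (QuotientGroup.mk' (pPrimeCore p G))).Normal) :
    pPrimeCore p G ⊔ normalizer (Z : Set G) = ⊤ := by
  set O := pPrimeCore p G with hO
  set π := QuotientGroup.mk' O
  rw [eq_top_iff]
  intro x _
  have hxZ : StrongFusion.cm x Z ≤ O ⊔ Z := by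
    rintro _ ⟨z, hz, rfl⟩
    obtain ⟨z', hz', e'⟩ := hn.conj_mem (π z) ⟨z, hz, rfl⟩ (π x)
    show x * z * x⁻¹ ∈ O ⊔ Z
    rw [show x * z * x⁻¹ = (x * z * x⁻¹ * z'⁻¹) * z' by group]
    refine mul_mem (Subgroup.mem_sup_left ((QuotientGroup.eq_one_iff _).1 ?_)) (Subgroup.mem_sup_right hz')
    show π (x * z * x⁻¹ * z'⁻¹) = 1
    rw [map_mul, map_mul, map_mul, map_inv, map_inv, e', mul_inv_cancel]
  have hidx : ¬ p ∣ Z.relIndex (O ⊔ Z) := by
    intro h
    have e1 : (⊥ : Subgroup G).relIndex Z * Z.relIndex (O ⊔ Z) = (⊥ : Subgroup G).relIndex (O ⊔ Z) :=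
      Subgroup.relIndex_mul_relIndex _ _ _ bot_le le_sup_right
    have e2 : (⊥ : Subgroup G).relIndex O * O.relIndex (O ⊔ Z) = (⊥ : Subgroup G).relIndex (O ⊔ Z) :=
      Subgroup.relIndex_mul_relIndex _ _ _ bot_le le_sup_left
    rw [Subgroup.relIndex_sup_left, ← e1, Subgroup.relIndex_bot_left, Subgroup.relIndex_bot_left] at e2
    have h2 : Z.relIndex (O ⊔ Z) ∣ Nat.card O := by
      refine (Nat.mul_dvd_mul_iff_left (Nat.card_pos (α := Z))).1 ?_
      rw [← e2, mul_comm (Nat.card Z)]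
      exact Nat.mul_dvd_mul_left _ (Subgroup.relIndex_dvd_card _ _)
    exact (Fact.out : p.Prime).coprime_iff_not_dvd.1 (card_pPrimeCore_coprime p (G := G)).symm (h.trans h2)
  obtain ⟨w, hw, hwx⟩ := StrongFusion.exists_conj_le (Q := Z) le_sup_right hZp hidx hxZ (hZp.map _)
  have hm : w * x ∈ Subgroup.normalizer (Z : Set G) :=
    Local.mem_normalizer_of_map_conj_eq (Subgroup.eq_of_le_of_card_ge (by
      show StrongFusion.cm (w * x) Z ≤ Z
      rw [← StrongFusion.cm_cm]; exact hwx) (StrongFusion.card_cm _ Z).ge)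
  have h1 : w ∈ O ⊔ Subgroup.normalizer (Z : Set G) :=
    (sup_le le_sup_left (Subgroup.le_normalizer.trans le_sup_right)) hw
  rw [show x = w⁻¹ * (w * x) by group]
  exact mul_mem (inv_mem h1) (Subgroup.mem_sup_right hm)

theorem puig_factor [Finite G] [Group.IsSolvable G] (hodd : Odd (Nat.card G)) {p : ℕ} [Fact p.Prime]
    (hp : p ≠ 2) (S : Sylow p G) :
    pPrimeCore p G ⊔ normalizer ((up (S : Subgroup G) ⊓ centralizer (up (S : Subgroup G) : Set G) : Subgroup G) : Set G)
      = ⊤ := by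
  set Z := up (S : Subgroup G) ⊓ centralizer (up (S : Subgroup G) : Set G) with hZ
  have hupS : up (S : Subgroup G) ≤ S := Subgroup.map_subtype_le _
  refine sup_normalizer_of_map_normal (S.2.to_le (inf_le_left.trans hupS)) ?_
  set π := QuotientGroup.mk' (pPrimeCore p G)
  have hπs : Function.Surjective π := QuotientGroup.mk'_surjective _
  have hinj : Set.InjOn π ((S : Subgroup G) : Set G) := by
    intro x hx y hy hxy
    have hmem : x⁻¹ * y ∈ pPrimeCore p G := QuotientGroup.eq.mp hxy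
    have hS : x⁻¹ * y ∈ (S : Subgroup G) := mul_mem (inv_mem hx) hy
    obtain ⟨k, hk⟩ := IsPGroup.exists_card_eq S.2
    have hd : Disjoint (S : Subgroup G) (pPrimeCore p G) := Subgroup.disjoint_of_coprime_natCard (by
      rw [hk]; exact ((CfsgLib.card_pPrimeCore_coprime (G := G) p).pow_right k).symm)
    exact inv_mul_eq_one.mp (Subgroup.disjoint_def.mp hd hS hmem)
  have hn := center_up_normal (CfsgLib.OddStable.odd_quotient hodd _) hp
    (CfsgLib.pPrimeCore_quotient_eq_bot p) (S.mapSurjective hπs)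
  rw [show ((S.mapSurjective hπs : Sylow p _) : Subgroup _) = (S : Subgroup G).map π from rfl,
    up_map π _ hinj] at hn
  have heq : (up (S : Subgroup G)).map π ⊓ centralizer ((up (S : Subgroup G)).map π : Set _) = Z.map π := by
    refine le_antisymm ?_ (le_inf (Subgroup.map_mono inf_le_left) ?_)
    · intro y hy
      obtain ⟨⟨u, hu, rfl⟩, hc⟩ := Subgroup.mem_inf.mp hy
      refine ⟨u, Subgroup.mem_inf.mpr ⟨hu, fun w hw => ?_⟩, rfl⟩
      refine hinj (mul_mem (hupS hw) (hupS hu)) (mul_mem (hupS hu) (hupS hw)) ?_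
      rw [map_mul, map_mul]
      exact hc _ ⟨w, hw, rfl⟩
    · rintro _ ⟨z, hz, rfl⟩ _ ⟨w, hw, rfl⟩
      show π w * π z = π z * π w
      rw [← map_mul, ← map_mul, (Subgroup.mem_inf.mp hz).2 w hw]
  rwa [heq] at hn

end CfsgLib.Puig
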